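import Cfsg.Agent.H80.GW.LinearKill
import Cfsg.Agent.H62.GW.MixedSetting
import Cfsg.Agent.H4.GW.FourGroup
import Cfsg.Agent.H56.CTwoAb.Small
import Cfsg.Agent.Linear.Dickson.Orders

/-!
# GW programme, M3, piece LAYER COUNT

`L ≅ PSL(2,q₀)` contains the Sylow `2`-subgroup, so the centraliser of `t` in `L` has order `4 l τ`
and `q₀ = 4 l τ ± 1`; `D` normalises `L` and meets it trivially, so `4 l τ d q₀` divides `|G|`.
-/

set_option autoImplicit false
set_option linter.unusedSectionVars false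
set_option linter.style.haveILetI false

namespace Cfsg.Agent.H80.GW

open Subgroup Cfsg.Agent
open Cfsg.Agent.Linear.Dickson
open Cfsg.Agent.GW (Cfg coreAt pairCore CentMax)
open Cfsg.Agent.H62.GW (MixedData torusPart odd_orderOf_of_mem odd_coreAt eq_one_of_inverted)
open Cfsg.Agent.H80.GW.M2 (exists_centralizer_decomp eq_one_of_mem_core)

universe u

/-- The centraliser of an involution of `PSL₂(q)`, `q` odd, has order `q ± 1`. -/
theorem card_centralizer_involution {F : Type*} [Field F] [Fintype F] (hodd : Odd (Fintype.card F))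
    {t : Matrix.ProjectiveSpecialLinearGroup (Fin 2) F} (ht : orderOf t = 2) :
    Nat.card (centralizer ({t} : Set (Matrix.ProjectiveSpecialLinearGroup (Fin 2) F))) + 1 =
        Fintype.card F ∨
      Nat.card (centralizer ({t} : Set (Matrix.ProjectiveSpecialLinearGroup (Fin 2) F))) =
        Fintype.card F + 1 := by
  classical
  obtain ⟨p, hchar⟩ := CharP.exists F
  haveI : Fact p.Prime := ⟨CharP.char_is_prime F p⟩
  have hp2 : p ≠ 2 := by
    rintro rfl
    obtain ⟨n, -, hn⟩ := FiniteField.card F 2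
    rw [hn] at hodd
    exact Nat.not_even_iff_odd.2 hodd (by simp [Nat.even_pow])
  have hnu : ¬ IsUni t := fun h => by
    have h1 := orderOf_dvd_of_pow_eq_one (pow_char_eq_one_of_isUni p h)
    rw [ht] at h1
    exact hp2 ((Nat.prime_dvd_prime_iff_eq Nat.prime_two Fact.out).1 h1).symm
  haveI := isCyclic_cen hnu
  have htc : t ∈ cen t := mem_cen_self t
  have huniq : ∀ s ∈ cen t, orderOf s = 2 → s = t := fun s hs hs2 => by
    obtain ⟨γ, hγ⟩ := IsCyclic.exists_generator (α := ↥(cen t))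
    have h1 : (⟨s, hs⟩ : ↥(cen t)) = ⟨t, htc⟩ := H5.EvenCyclic.invol_zpowers_unique
      (by rw [Subgroup.orderOf_mk]; exact hs2) (by rw [Subgroup.orderOf_mk]; exact ht) (hγ _) (hγ _)
    exact congrArg Subtype.val h1
  have heq : centralizer ({t} : Set (Matrix.ProjectiveSpecialLinearGroup (Fin 2) F)) =
      normalizer ((cen t : Subgroup _) : Set (Matrix.ProjectiveSpecialLinearGroup (Fin 2) F)) := by
    ext g
    rw [mem_centralizer_singleton_iff, mem_normalizer_iff]
    constructor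
    · intro hg x
      have hgt : g * t * g⁻¹ = t := by rw [hg, mul_inv_cancel_right]
      constructor
      · intro hx
        have := (mem_cen_conj g t x).2 hx
        rwa [hgt] at this
      · intro hx
        refine (mem_cen_conj g t x).1 ?_
        rwa [hgt]
    · intro hg
      exact mul_inv_eq_iff_eq_mul.1 (huniq _ ((hg t).1 htc) (by rw [H39.orderOf_conj, ht]))
  rw [heq, (torus_normalizer_props hnu).1]
  have hgcd : Nat.gcd 2 (Fintype.card F - 1) = 2 :=
    Nat.gcd_eq_left (by obtain ⟨k, hk⟩ := hodd; omega)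
  obtain ⟨k, hk⟩ := hodd
  rcases card_cen_cases hnu with h | h <;> rw [hgcd] at h
  · exact Or.inl (by omega)
  · exact Or.inr (by omega)

variable {G : Type u} [Group G] [Finite G] {S : Sylow 2 G} {l : ℕ} {c s : G} {L : Subgroup G}

/-- The centraliser of `t` in a layer containing the Sylow `2`-subgroup. -/
theorem card_layer_centralizer (h : Cfg S l c s) (hS : (S : Subgroup G) ≤ L) :
    Nat.card ↥(L ⊓ centralizer ({c ^ l} : Set G)) = Nat.card ↥(torusPart (c ^ l) L) * (4 * l) := by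
  set t := c ^ l with ht
  have hSC : (S : Subgroup G) ≤ centralizer ({t} : Set G) := H61.GW.sylow_le_centralizer h.gen
  have hSN : (S : Subgroup G) ≤ normalizer (torusPart t L : Set G) := fun σ hσ =>
    M2.mem_normalizer_of_forall fun v hv => Subgroup.mem_inf.2
      ⟨H62.GW.conj_mem_coreAt (mem_centralizer_singleton_iff.1 (hSC hσ)) hv.1,
        mul_mem (mul_mem (hS hσ) hv.2) (inv_mem (hS hσ))⟩
  have hdisj : torusPart t L ⊓ (S : Subgroup G) = ⊥ :=
    eq_bot_iff.2 fun x hx => mem_bot.2 (eq_one_of_mem_core hx.2 hx.1.1)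
  have hsup : torusPart t L ⊔ (S : Subgroup G) = L ⊓ centralizer ({t} : Set G) := by
    refine le_antisymm (sup_le (le_inf inf_le_right (inf_le_left.trans (H62.GW.coreAt_le t)))
      (le_inf hS hSC)) ?_
    rintro x ⟨hxL, hxC⟩
    obtain ⟨o, ho, σ, hσ, rfl⟩ :=
      exists_centralizer_decomp h (mem_centralizer_singleton_iff.1 hxC)
    refine mul_mem (mem_sup_left (Subgroup.mem_inf.2 ⟨ho, ?_⟩)) (mem_sup_right hσ)
    simpa using mul_mem (show o * σ ∈ L from hxL) (inv_mem (hS hσ))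
  have hcS : Nat.card (S : Subgroup G) = 4 * l := by
    rw [Nat.card_congr (H61.GW.nonempty_dihedral h.gen).some.toEquiv, DihedralGroup.nat_card]
    ring
  rw [← hsup, Coprime.card_sup hSN hdisj, hcS]

/-- **LAYER COUNT.**  With the Sylow `2`-subgroup in `L`, `q₀ = 4 l τ ± 1` and `4 l τ d q₀ ∣ |G|`. -/
theorem exists_layer_count (hM : MixedData S l c s L) (hcs : c * s ∈ L) :
    ∃ (q₀ : ℕ) (e : ℤ), IsPrimePow q₀ ∧ (e = 1 ∨ e = -1) ∧
      (q₀ : ℤ) = 4 * l * Nat.card ↥(torusPart (c ^ l) L) + e ∧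
      q₀.Coprime (Nat.card ↥(torusPart (c ^ l) L)) ∧
      4 * l * Nat.card ↥(torusPart (c ^ l) L) * Nat.card ↥(pairCore (c ^ l) s) * q₀ ∣ Nat.card G := by
  have h := hM.cfg
  set t := c ^ l with ht
  set τ := Nat.card ↥(torusPart t L)
  have hc : c ∈ L := by simpa using mul_mem hcs (inv_mem hM.s_mem)
  have hS : (S : Subgroup G) ≤ L := fun σ hσ => by
    rcases h.gen.cases σ hσ with hσc | hσc
    · exact zpowers_le.2 hc hσc
    · simpa using mul_mem (zpowers_le.2 hc hσc) (inv_mem hM.s_mem)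
  obtain ⟨F, iF, iFt, hodd, -, ⟨φ⟩⟩ := hM.psl
  set x := φ ⟨t, hM.t_mem⟩ with hx
  have hxo : orderOf x = 2 := by
    rw [hx, MulEquiv.orderOf_eq, Subgroup.orderOf_mk]
    exact h.gen.z_order
  -- centralisers correspond
  have hC : Nat.card ↥(L ⊓ centralizer ({t} : Set G)) =
      Nat.card (centralizer ({x} : Set (H56.PSLn 2 F))) := by
    refine Nat.card_eq_of_bijective (fun z => ⟨φ ⟨z.1, z.2.1⟩, mem_centralizer_singleton_iff.2 (by
      rw [hx, ← map_mul, ← map_mul]
      exact congrArg φ (Subtype.ext (mem_centralizer_singleton_iff.1 z.2.2)))⟩) ⟨?_, ?_⟩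
    · intro a b hab
      have h1 : φ ⟨a.1, a.2.1⟩ = φ ⟨b.1, b.2.1⟩ := congrArg Subtype.val hab
      exact Subtype.ext (Subtype.mk_eq_mk.1 (φ.injective h1))
    · rintro ⟨y, hy⟩
      refine ⟨⟨(φ.symm y : L), Subgroup.mem_inf.2 ⟨SetLike.coe_mem _,
        mem_centralizer_singleton_iff.2 ?_⟩⟩, Subtype.ext (φ.apply_symm_apply y)⟩
      have h1 := congrArg (fun z => ((φ.symm z : L) : G)) (mem_centralizer_singleton_iff.1 hy)
      simpa [hx] using h1
  rw [card_layer_centralizer h hS] at hC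
  have hq : IsPrimePow (Fintype.card F) := Fintype.isPrimePow_card_of_field
  obtain ⟨e, he, hqe⟩ : ∃ e : ℤ, (e = 1 ∨ e = -1) ∧ (Fintype.card F : ℤ) = 4 * l * τ + e := by
    have e4 : τ * (4 * l) = 4 * l * τ := by ring
    rcases card_centralizer_involution hodd hxo with h1 | h1 <;> rw [← hC, e4] at h1
    · exact ⟨1, Or.inl rfl, by exact_mod_cast h1.symm⟩
    · refine ⟨-1, Or.inr rfl, ?_⟩
      have : ((4 * l * τ : ℕ) : ℤ) = (Fintype.card F : ℤ) + 1 := by exact_mod_cast h1
      push_cast at this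
      linarith
  refine ⟨Fintype.card F, e, hq, he, hqe, ?_, ?_⟩
  · refine Nat.isCoprime_iff_coprime.1 ?_
    rcases he with rfl | rfl
    · exact ⟨1, -(4 * l), by rw [hqe]; ring⟩
    · exact ⟨-1, 4 * l, by rw [hqe]; ring⟩
  -- `D` normalises `L` and meets it trivially
  have hDN : pairCore t s ≤ normalizer (L : Set G) := fun d hd =>
    hM.layer_norm d (H62.GW.coreAt_le t hd.1) (hM.pair_norm hd)
  have hdisj : L ⊓ pairCore t s = ⊥ := eq_bot_iff.2 fun d hd => mem_bot.2
    (eq_one_of_inverted (odd_orderOf_of_mem (odd_coreAt t) hd.2.1)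
      (hM.torus_inverted d ⟨hd.2.1, hd.1⟩) (mem_centralizer_singleton_iff.1 hd.2.2).symm)
  have hLD : Nat.card L * Nat.card ↥(pairCore t s) ∣ Nat.card G := by
    rw [← Coprime.card_sup hDN hdisj]
    exact Subgroup.card_subgroup_dvd_card _
  refine dvd_trans ?_ hLD
  rw [mul_comm _ (Fintype.card F), ← mul_assoc]
  refine mul_dvd_mul_right ?_ _
  -- `4 l τ q₀ ∣ |PSL₂(q₀)|`
  have hcard : 2 * Nat.card L = Fintype.card F * (Fintype.card F ^ 2 - 1) := by
    rw [Nat.card_congr φ.toEquiv]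
    exact H56.CTwoAb.card_psl_two_odd (Nat.odd_iff.1 hodd)
  obtain ⟨k, hk⟩ := hodd
  refine Int.natCast_dvd_natCast.1 ?_
  have hcard' : 2 * (Nat.card L : ℤ) =
      (Fintype.card F : ℤ) * ((Fintype.card F : ℤ) ^ 2 - 1) := by
    have h1 : 1 ≤ Fintype.card F ^ 2 := Nat.one_le_pow _ _ Fintype.card_pos
    have h2 := congrArg (fun z : ℕ => (z : ℤ)) hcard
    push_cast [Nat.cast_sub h1] at h2
    exact h2
  push_cast
  rcases he with rfl | rfl
  · refine ⟨2 * l * τ + 1, ?_⟩
    rw [hqe] at hcard' ⊢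
    linarith
  · refine ⟨2 * l * τ - 1, ?_⟩
    rw [hqe] at hcard' ⊢
    linarith

end Cfsg.Agent.H80.GW
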