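import Cfsg.Agent.H80.GW.LinearKill
import Cfsg.Agent.H62.GW.MixedSetting
import Cfsg.Agent.H62.GW.Quot
import Cfsg.Agent.H4.GW.FourGroup
import Cfsg.Agent.H99.GW.CaseL2Order
import Cfsg.Agent.H99.GW.TI
import Cfsg.Agent.H80.GW.MixedLayerCount
import Cfsg.Agent.Linear.Simple

/-!
# GW programme, M3, piece KLEIN: the order relation for a Sylow four group

For `l = 1` and `D = E` every element normalising `L` lies in `E L` (the Frattini argument on the
Sylow four group `⟨t, s⟩ ≤ L`), so `E × L` is the centraliser of each element `≠ 1` of `E` and its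
own normaliser: the halves lemma applies.
-/

set_option autoImplicit false
set_option linter.unusedSectionVars false
set_option linter.style.haveILetI false

namespace Cfsg.Agent.H80.GW

open Subgroup Cfsg.Agent
open scoped commutatorElement
open Cfsg.Agent.GW (Cfg coreAt pairCore CentMax Fuses)
open Cfsg.Agent.Components (fitIn layerIn)
open Cfsg.Agent.H62.GW (MixedData torusPart fixPart odd_orderOf_of_mem odd_coreAt eq_one_of_inverted
  conj_mem_coreAt pCoreAt_le)
open Cfsg.Agent.H80.GW.M2 (exists_centralizer_decomp eq_one_of_mem_core)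

universe u

variable {G : Type u} [Group G] [Finite G] {S : Sylow 2 G} {c s : G} {L : Subgroup G}

/-- An isomorphism maps the centraliser of `t` in `L` onto the centraliser of its image. -/
theorem card_layer_centralizer_image {P : Type} [Group P] (φ : ↥L ≃* P) {t : G} (ht : t ∈ L) :
    Nat.card ↥(L ⊓ centralizer ({t} : Set G)) =
      Nat.card (centralizer ({φ ⟨t, ht⟩} : Set P)) := by
  refine Nat.card_eq_of_bijective (fun z => ⟨φ ⟨z.1, z.2.1⟩, mem_centralizer_singleton_iff.2 (by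
    rw [← map_mul, ← map_mul]
    exact congrArg φ (Subtype.ext (mem_centralizer_singleton_iff.1 z.2.2)))⟩) ⟨?_, ?_⟩
  · intro a b hab
    have h1 : φ ⟨a.1, a.2.1⟩ = φ ⟨b.1, b.2.1⟩ := congrArg Subtype.val hab
    exact Subtype.ext (Subtype.mk_eq_mk.1 (φ.injective h1))
  · rintro ⟨y, hy⟩
    refine ⟨⟨(φ.symm y : L), Subgroup.mem_inf.2 ⟨SetLike.coe_mem _,
      mem_centralizer_singleton_iff.2 ?_⟩⟩, Subtype.ext (φ.apply_symm_apply y)⟩
    have h1 := congrArg (fun z => ((φ.symm z : L) : G)) (mem_centralizer_singleton_iff.1 hy)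
    simpa using h1

/-- The Sylow four group is `{1, t, s, t s}`. -/
theorem mem_four (h : Cfg S 1 c s) {σ : G} (hσ : σ ∈ (S : Subgroup G)) :
    σ = 1 ∨ σ = c ∨ σ = s ∨ σ = c * s := by
  have hss : s * s = 1 := H39.mul_self_of_orderOf_eq_two h.gen.os
  have hco : orderOf c = 2 := by simpa using h.gen.oc
  rcases h.gen.cases σ hσ with h1 | h1
  · rcases H5.EvenCyclic.eq_one_or_eq_of_mem_zpowers hco h1 with e | e
    · exact Or.inl e
    · exact Or.inr (Or.inl e)
  · have e0 : σ = σ * s * s := by rw [mul_assoc, hss, mul_one]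
    rcases H5.EvenCyclic.eq_one_or_eq_of_mem_zpowers hco h1 with e | e
    · exact Or.inr (Or.inr (Or.inl (by rw [e0, e, one_mul])))
    · exact Or.inr (Or.inr (Or.inr (by rw [e0, e])))

/-- An element normalising `L` lies in `E L` when `D = E`. -/
theorem normalizer_layer_le (hM : MixedData S 1 c s L)
    (hDE : pairCore (c ^ 1) s = fixPart (c ^ 1) s) :
    normalizer (L : Set G) ≤ fixPart (c ^ 1) s ⊔ L := by
  have h := hM.cfg
  have hcL : c ∈ L := by simpa using hM.t_mem
  have hS : (S : Subgroup G) ≤ L := fun σ hσ => by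
    rcases mem_four h hσ with rfl | rfl | rfl | rfl
    exacts [one_mem _, hcL, hM.s_mem, mul_mem hcL hM.s_mem]
  have hss : s * s = 1 := H39.mul_self_of_orderOf_eq_two h.gen.os
  have hcc : c * c = 1 := H39.mul_self_of_orderOf_eq_two (by simpa using h.gen.oc)
  have hcs : Commute c s := by
    simpa [Commute, SemiconjBy] using (h.gen.z_central h.gen.mem_s).symm
  have hcS := h.gen.mem_c
  have hsS := h.gen.mem_s
  obtain ⟨g₀, hg₀L, hg1, hg2⟩ := hM.fuse
  rw [pow_one] at hg1 hg2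
  have hg0S : ∀ σ ∈ (S : Subgroup G), g₀ * σ * g₀⁻¹ ∈ (S : Subgroup G) := fun σ hσ => by
    rcases mem_four h hσ with rfl | rfl | rfl | rfl
    · simp
    · rw [hg1]; exact hsS
    · rw [hg2]; exact mul_mem hcS hsS
    · rw [conj_mul.symm, hg1, hg2]
      exact mul_mem hsS (mul_mem hcS hsS)
  -- elements normalising the four group
  have hN : ∀ x : G, (∀ σ ∈ (S : Subgroup G), x * σ * x⁻¹ ∈ (S : Subgroup G)) →
      x ∈ fixPart (c ^ 1) s ⊔ L := by
    intro x hx
    obtain ⟨y, hyL, hyS, hy⟩ : ∃ y ∈ L, (∀ σ ∈ (S : Subgroup G), y * σ * y⁻¹ ∈ (S : Subgroup G)) ∧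
        y * (x * c * x⁻¹) * y⁻¹ = c := by
      rcases mem_four h (hx c hcS) with e | e | e | e
      · rw [conj_eq_one_iff] at e
        exact absurd e (H39.ne_one_of_orderOf_eq_two (by simpa using h.gen.oc))
      · exact ⟨1, one_mem _, fun σ hσ => by simpa using hσ, by rw [e]; simp⟩
      · refine ⟨g₀ * g₀, mul_mem hg₀L hg₀L, fun σ hσ => ?_, ?_⟩
        · rw [show g₀ * g₀ * σ * (g₀ * g₀)⁻¹ = g₀ * (g₀ * σ * g₀⁻¹) * g₀⁻¹ by group]
          exact hg0S _ (hg0S σ hσ)
        · rw [e, show g₀ * g₀ * s * (g₀ * g₀)⁻¹ = g₀ * (g₀ * s * g₀⁻¹) * g₀⁻¹ by group, hg2,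
            conj_mul.symm, hg1, hg2, ← mul_assoc, hcs.symm.eq, mul_assoc, hss, mul_one]
      · exact ⟨g₀, hg₀L, hg0S, by
          rw [e, conj_mul.symm, hg1, hg2, ← mul_assoc, hcs.symm.eq, mul_assoc, hss, mul_one]⟩
    have hwS : ∀ σ ∈ (S : Subgroup G), y * x * σ * (y * x)⁻¹ ∈ (S : Subgroup G) := fun σ hσ => by
      rw [show y * x * σ * (y * x)⁻¹ = y * (x * σ * x⁻¹) * y⁻¹ by group]
      exact hyS _ (hx σ hσ)
    have hwc : Commute (y * x) (c ^ 1) := by
      rw [pow_one]
      refine mul_inv_eq_iff_eq_mul.1 ?_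
      calc y * x * c * (y * x)⁻¹ = y * (x * c * x⁻¹) * y⁻¹ := by group
        _ = c := hy
    obtain ⟨o, ho, σ, hσ, hoσ⟩ := exists_centralizer_decomp h hwc
    have hσs : Commute σ s := by
      rcases mem_four h hσ with rfl | rfl | rfl | rfl
      exacts [Commute.one_left _, hcs, Commute.refl _, hcs.mul_left (Commute.refl _)]
    have h1 : o * s * o⁻¹ ∈ (S : Subgroup G) := by
      have := hwS s hsS
      rw [hoσ] at this
      rwa [show o * σ * s * (o * σ)⁻¹ = o * (σ * s * σ⁻¹) * o⁻¹ by group, hσs.eq,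
        mul_inv_cancel_right] at this
    have hos : Commute o s := by
      have hst : Commute s (c ^ 1) := h.gen.z_central hsS
      have e1 : o * s * o⁻¹ * s⁻¹ = 1 := by
        refine eq_one_of_mem_core (mul_mem h1 (inv_mem hsS)) (t := c ^ 1) ?_
        rw [show o * s * o⁻¹ * s⁻¹ = o * (s * o⁻¹ * s⁻¹) by group]
        exact mul_mem ho (conj_mem_coreAt hst (inv_mem ho))
      exact mul_inv_eq_iff_eq_mul.1 (mul_inv_eq_one.1 e1)
    have hoE : o ∈ fixPart (c ^ 1) s :=
      hDE ▸ Subgroup.mem_inf.2 ⟨ho, mem_centralizer_singleton_iff.2 hos.eq⟩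
    have hyx : y * x ∈ fixPart (c ^ 1) s ⊔ L :=
      hoσ ▸ mul_mem (mem_sup_left hoE) (mem_sup_right (hS hσ))
    simpa using mul_mem (inv_mem (mem_sup_right hyL : y ∈ fixPart (c ^ 1) s ⊔ L)) hyx
  intro g hg
  have hgS : ((g • S : Sylow 2 G) : Subgroup G) ≤ L := by
    intro z hz
    obtain ⟨σ, hσ, rfl⟩ := hz
    exact Coprime.conj_mem hg (hS hσ)
  obtain ⟨k, hk⟩ := MulAction.exists_smul_eq ↥L (S.subtype hS) ((g • S).subtype hgS)
  have key : ∀ σ ∈ (S : Subgroup G), (k : G)⁻¹ * g * σ * ((k : G)⁻¹ * g)⁻¹ ∈ (S : Subgroup G) := by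
    intro σ hσ
    have h1 : (⟨g * σ * g⁻¹, Coprime.conj_mem hg (hS hσ)⟩ : L) ∈
        (((g • S).subtype hgS : Sylow 2 L) : Subgroup L) := ⟨σ, hσ, rfl⟩
    rw [← hk, Sylow.coe_subgroup_smul] at h1
    obtain ⟨σ', hσ', e⟩ := h1
    have e' : (k : G) * (σ' : G) * (k : G)⁻¹ = g * σ * g⁻¹ := congrArg Subtype.val e
    rw [show (k : G)⁻¹ * g * σ * ((k : G)⁻¹ * g)⁻¹ = (k : G)⁻¹ * (g * σ * g⁻¹) * k by group, ← e']
    simpa [mul_assoc] using mem_subgroupOf.1 hσ'
  simpa using mul_mem (mem_sup_right (k.2) : (k : G) ∈ fixPart (c ^ 1) s ⊔ L) (hN _ key)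

/-- **KLEIN.**  The order relation of `MixedCount` for a Sylow four group, given `D = E`. -/
theorem exists_order_klein {l : ℕ} (hM : MixedData S l c s L) (hl : l = 1)
    (hDE : pairCore (c ^ l) s = fixPart (c ^ l) s) :
    ∃ (x : ℕ) (δ : ℤ), (δ = 1 ∨ δ = -1) ∧ (x : ℤ) ≠ δ ∧ (4 * l : ℤ) ∣ (x : ℤ) - δ ∧
      ((centralizer ({c ^ l} : Set G)).index : ℤ) * ((x : ℤ) - δ) ^ 2 =
        8 * (l : ℤ) ^ 2 * ((H62.GW.jNum (c ^ l) s * Nat.card ↥(torusPart (c ^ l) L) *
          H62.GW.mNum (c ^ l) s : ℕ) : ℤ) ^ 2 * (x * ((x : ℤ) + δ)) := by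
  classical
  subst hl
  have h := hM.cfg
  haveI : Fact (Nat.Prime 2) := ⟨Nat.prime_two⟩
  set E := fixPart (c ^ 1) s with hE
  set τ := Nat.card ↥(torusPart (c ^ 1) L) with hτ
  have hcs1 : c * s ∈ L := mul_mem (by simpa using hM.t_mem) hM.s_mem
  obtain ⟨F, iF, iFt, hodd, h3, ⟨φ⟩⟩ := hM.psl
  obtain ⟨p, hchar⟩ := CharP.exists F
  haveI : Fact p.Prime := ⟨CharP.char_is_prime F p⟩
  -- `|F| = 4 τ ± 1`
  have hcS : Nat.card (S : Subgroup G) = 4 := by
    rw [Nat.card_congr (H61.GW.nonempty_dihedral h.gen).some.toEquiv, DihedralGroup.nat_card]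
  have hS : (S : Subgroup G) ≤ L := fun σ hσ => by
    rcases mem_four h hσ with rfl | rfl | rfl | rfl
    exacts [one_mem _, by simpa using hM.t_mem, hM.s_mem, hcs1]
  have hxo : orderOf (φ ⟨c ^ 1, hM.t_mem⟩) = 2 := by
    rw [MulEquiv.orderOf_eq, Subgroup.orderOf_mk]; exact h.gen.z_order
  have hC : Nat.card (centralizer ({φ ⟨c ^ 1, hM.t_mem⟩} : Set (H56.PSLn 2 F))) = 4 * τ := by
    rw [← card_layer_centralizer_image φ hM.t_mem, card_layer_centralizer h hS]; ring
  have hq : Fintype.card F = 4 * τ + 1 ∨ Fintype.card F + 1 = 4 * τ := by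
    rcases card_centralizer_involution hodd hxo with h1 | h1 <;> rw [hC] at h1
    · exact Or.inl h1.symm
    · exact Or.inr h1.symm
  have hτodd : Odd τ := (odd_coreAt (c ^ 1)).of_dvd_nat (card_dvd_of_le inf_le_left)
  have hq8 : Fintype.card F % 8 = 3 ∨ Fintype.card F % 8 = 5 := by
    obtain ⟨k, hk⟩ := hτodd
    omega
  have hpq : p ∣ Fintype.card F := by
    obtain ⟨n, -, hn⟩ := FiniteField.card F p
    rw [hn]
    exact dvd_pow_self p n.ne_zero
  -- the primes of `E` divide `τ`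
  have hEτ : ∀ r : ℕ, r.Prime → r ∣ Nat.card E → r ∣ τ := by
    intro r hr hrE
    haveI := Fact.mk hr
    obtain ⟨z, hz, hzL, hzo⟩ := hM.torus_prime r hr (hrE.trans (card_dvd_of_le inf_le_left))
    rw [← hzo]
    exact orderOf_dvd_natCard _ (show z ∈ torusPart (c ^ 1) L from ⟨pCoreAt_le _ _ hz, hzL⟩)
  have hcopE : ∀ k : ℕ, (∀ r : ℕ, r.Prime → r ∣ k → ¬ r ∣ τ) → (Nat.card E).Coprime k :=
    fun k hk => Nat.coprime_of_dvd fun r hr h1 h2 => hk r hr h2 (hEτ r hr h1)
  have hpτ : ¬ p ∣ τ := by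
    intro hd
    have h4 : p ∣ 4 * τ := hd.mul_left 4
    have h1 : p ∣ 1 := by
      rcases hq with e | e
      · exact (Nat.dvd_add_right h4).1 (e ▸ hpq)
      · exact (Nat.dvd_add_right hpq).1 (e.symm ▸ h4)
    exact (Fact.out : p.Prime).not_dvd_one h1
  have htorus : ∀ r : ℕ, r.Prime → r ∣ H99.GW.oddTorus F → ¬ r ∣ τ := by
    intro r hr h1 h2
    have h4 : r ∣ 2 * τ := h2.mul_left 2
    have h5 : r ∣ 1 := by
      rcases hq with e | e
      · have e' : H99.GW.oddTorus F = 2 * τ + 1 := by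
          rw [H99.GW.oddTorus, if_pos (by omega)]; omega
        exact (Nat.dvd_add_right h4).1 (e' ▸ h1)
      · have e' : H99.GW.oddTorus F + 1 = 2 * τ := by
          rw [H99.GW.oddTorus, if_neg (by omega)]; omega
        exact (Nat.dvd_add_right h1).1 (e'.symm ▸ h4)
    exact hr.not_dvd_one h5
  -- `i : E × L → G`
  let j : H56.PSLn 2 F →* G := L.subtype.comp φ.symm.toMonoidHom
  have hjL : ∀ x, j x ∈ L := fun x => SetLike.coe_mem _
  have hcomm : ∀ (a : E) (x : H56.PSLn 2 F), Commute (E.subtype a) (j x) :=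
    fun a x => (hM.commute_fix _ (hjL x) a a.2).symm
  let i : ↥E × H56.PSLn 2 F →* G := MonoidHom.noncommCoprod E.subtype j hcomm
  have hi_apply : ∀ a x, i (a, x) = (a : G) * j x := fun a x => rfl
  have hdisj : ∀ z ∈ E, z ∈ L → z = 1 := fun z hzE hzL => by
    have hzO : z ∈ coreAt (c ^ 1) := (inf_le_left.trans (map_subtype_le _)) hzE
    exact eq_one_of_inverted (odd_orderOf_of_mem (odd_coreAt _) hzO)
      (hM.torus_inverted z ⟨hzO, hzL⟩) (mem_centralizer_singleton_iff.1 hzE.2).symm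
  have hi : Function.Injective i := by
    refine (injective_iff_map_eq_one i).2 fun ⟨a, x⟩ hax => ?_
    rw [hi_apply] at hax
    have ha : (a : G) = 1 := hdisj _ a.2 (by
      rw [eq_inv_of_mul_eq_one_left hax]; exact inv_mem (hjL x))
    rw [ha, one_mul] at hax
    have hx : φ.symm x = 1 := Subtype.ext hax
    exact Prod.ext (Subtype.ext ha) (φ.symm.injective (hx.trans (map_one _).symm))
  have hrange : i.range = E ⊔ L := by
    refine le_antisymm ?_ (sup_le (fun z hz => ⟨(⟨z, hz⟩, 1), ?_⟩) fun z hz => ⟨(1, φ ⟨z, hz⟩), ?_⟩)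
    · rintro _ ⟨⟨a, x⟩, rfl⟩
      exact mul_mem (mem_sup_left a.2) (mem_sup_right (hjL x))
    · rw [hi_apply, map_one, mul_one]
    · rw [hi_apply]
      show (1 : G) * ((φ.symm (φ ⟨z, hz⟩) : L) : G) = z
      rw [φ.symm_apply_apply, one_mul]
  -- `E ⊔ L` and its normaliser
  have hNL := normalizer_layer_le hM hDE
  have hEN : E ≤ normalizer (L : Set G) := fun z hz =>
    hM.layer_norm z ((H62.GW.coreAt_le _) ((inf_le_left.trans (map_subtype_le _)) hz))
      (le_normalizer hz)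
  haveI : IsMulCommutative ↥E := hM.fix_cyclic.isMulCommutative
  have hN : normalizer (i.range : Set G) ≤ i.range := by
    rw [hrange]
    refine le_trans ?_ hNL
    have hperf : commutator (H56.PSLn 2 F) = ⊤ := Linear.commutator_PSL_eq_top
      (Or.inr (Linear.exists_sq_ne_one_of_card (by rw [Nat.card_eq_fintype_card]; omega)))
    have hLL : ⁅L, L⁆ = L := by
      have h1 : (commutator (H56.PSLn 2 F)).map j = L := by
        rw [hperf, ← MonoidHom.range_eq_map, MonoidHom.range_comp,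
          MonoidHom.range_eq_top.2 φ.symm.surjective, ← MonoidHom.range_eq_map, Subgroup.range_subtype]
      have h2 : (⊤ : Subgroup (H56.PSLn 2 F)).map j = L := by rw [← hperf]; exact h1
      conv_rhs => rw [← h1, _root_.commutator_def, Subgroup.map_commutator, h2]
    have hMM : ⁅E ⊔ L, E ⊔ L⁆ = L := by
      refine le_antisymm (commutator_le.2 fun x hx y hy => ?_)
        ((ge_of_eq hLL).trans (commutator_mono le_sup_right le_sup_right))
      obtain ⟨a, ha, x', hx', rfl⟩ := (Coprime.mem_sup_iff hEN).1 (sup_comm E L ▸ hx)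
      obtain ⟨b, hb, y', hy', rfl⟩ := (Coprime.mem_sup_iff hEN).1 (sup_comm E L ▸ hy)
      have c1 := hM.commute_fix a ha y' hy'
      have c2 := hM.commute_fix b hb x' hx'
      have c3 : Commute x' y' := congrArg Subtype.val
        (IsMulCommutative.is_comm.comm (⟨x', hx'⟩ : E) ⟨y', hy'⟩)
      have : ⁅a * x', b * y'⁆ = ⁅a, b⁆ := by
        rw [commutatorElement_def, commutatorElement_def]
        calc a * x' * (b * y') * (a * x')⁻¹ * (b * y')⁻¹
            = a * (x' * b) * (y' * x'⁻¹) * a⁻¹ * y'⁻¹ * b⁻¹ := by group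
          _ = a * (b * x') * (x'⁻¹ * y') * a⁻¹ * y'⁻¹ * b⁻¹ := by rw [c2.symm.eq, c3.symm.inv_right.eq]
          _ = a * b * (y' * a⁻¹) * y'⁻¹ * b⁻¹ := by group
          _ = a * b * (a⁻¹ * y') * y'⁻¹ * b⁻¹ := by rw [c1.symm.inv_right.eq]
          _ = _ := by group
      rw [this, commutatorElement_def]
      exact mul_mem (mul_mem (mul_mem ha hb) (inv_mem ha)) (inv_mem hb)
    intro g hg
    refine M2.mem_normalizer_of_forall fun z hz => ?_
    have h1 : (E ⊔ L).map (MulAut.conj g).toMonoidHom = E ⊔ L := by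
      refine eq_of_le_of_card_ge ?_ (by rw [Coprime.card_map_conj])
      rintro _ ⟨w, hw, rfl⟩
      exact Coprime.conj_mem hg hw
    have h2 : L.map (MulAut.conj g).toMonoidHom = L := by
      conv_lhs => rw [← hMM]
      rw [Subgroup.map_commutator, h1, hMM]
    rw [← h2]
    exact ⟨z, hz, rfl⟩
  have hCa : ∀ a : E, a ≠ 1 → centralizer ({i (a, 1)} : Set G) = i.range := by
    intro a ha
    rw [hi_apply, map_one, mul_one, hrange]
    refine le_antisymm (fun x hx => hNL ?_)
      (sup_le (fun z hz => mem_centralizer_singleton_iff.2 ?_) fun z hz =>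
        mem_centralizer_singleton_iff.2 (hM.commute_fix z hz a a.2).eq)
    · have ha1 : (a : G) ≠ 1 := fun e => ha (Subtype.ext e)
      obtain ⟨r, hr, hdvd⟩ := Nat.exists_prime_and_dvd
        (show orderOf (a : G) ≠ 1 from fun e => ha1 (orderOf_eq_one_iff.1 e))
      set b := (a : G) ^ (orderOf (a : G) / r)
      have hbo : orderOf b = r := orderOf_pow_orderOf_div (orderOf_pos _).ne' hdvd
      have hxb : x ∈ centralizer ({b} : Set G) := mem_centralizer_singleton_iff.2
        ((show Commute x (a : G) from mem_centralizer_singleton_iff.1 hx).pow_right _).eq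
      have := H62.GW.le_normalizer_layerIn _ hxb
      rwa [hM.layer_eq b (pow_mem a.2 _) (hbo ▸ hr)] at this
    · exact congrArg Subtype.val (IsMulCommutative.is_comm.comm (⟨z, hz⟩ : E) a)
  have hcop : ∀ x ∈ H99.GW.oddClasses F p, (Nat.card E).Coprime (orderOf x) := by
    intro x hx
    rcases hx with e | e
    · exact Nat.Coprime.coprime_dvd_right (orderOf_dvd_of_pow_eq_one e)
        (hcopE p fun r hr h1 => (Nat.prime_dvd_prime_iff_eq hr Fact.out).1 h1 ▸ hpτ)
    · exact Nat.Coprime.coprime_dvd_right (orderOf_dvd_of_pow_eq_one e) (hcopE _ htorus)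
  -- a linear character of `E`
  haveI : Nontrivial ↥E := (nontrivial_iff_ne_bot E).2 hM.ne
  obtain ⟨ψ, hψ⟩ := H84.exists_hom_ne_one_of_imperfect (G := ↥E) (fun e => by
    have hbot : commutator ↥E = ⊥ := by
      rw [eq_bot_iff, _root_.commutator_def, commutator_le]
      exact fun x _ y _ => mem_bot.2
        (commutatorElement_eq_one_iff_mul_comm.2 (IsMulCommutative.is_comm.comm x y))
    exact bot_ne_top (hbot.symm.trans e))
  have hψn : ∀ y, ((ψ y : ℂˣ) : ℂ) ^ Nat.card E = 1 := fun y => by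
    rw [← Units.val_pow_eq_pow_val, ← map_pow, pow_card_eq_one', map_one, Units.val_one]
  have hEodd : ∀ y : ↥E, ¬ 2 ∣ orderOf y := fun y => by
    rw [← Subgroup.orderOf_coe]
    exact fun h2 => Nat.not_even_iff_odd.2
      (odd_orderOf_of_mem (odd_coreAt _) ((inf_le_left.trans (map_subtype_le _)) y.2))
      (even_iff_two_dvd.2 h2)
  have hpE : ¬ p ∣ Nat.card E := fun hd => hpτ (hEτ p Fact.out hd)
  have hKlein : IsKleinFour ↥(S : Subgroup G) := by
    have e := (H61.GW.nonempty_dihedral h.gen).some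
    exact ⟨hcS, by rw [Monoid.exponent_eq_of_mulEquiv e]; exact IsKleinFour.exponent_two (G := DihedralGroup 2)⟩
  obtain ⟨k, I, hk4, -, hI, hrel⟩ := H99.GW.exists_order_relation S hKlein
    (fun a b ha hb => H4.GW.isConj_of_orderOf h ha hb) (J := c ^ 1)
    (by rw [pow_one]; exact h.gen.mem_c) h.gen.z_order p hq8 hEodd i hi
    (H99.GW.ti_of_centralizer i hcop hCa hN) hψ hpE hψn
  -- `I = j τ m`
  have hCS : centralizer ((S : Subgroup G) : Set G) = centralizer ({c ^ 1, s} : Set G) := by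
    refine le_antisymm (centralizer_le ?_) fun x hx => mem_centralizer_iff.2 fun σ hσ => ?_
    · rintro _ (rfl | rfl)
      · exact pow_mem h.gen.mem_c 1
      · exact h.gen.mem_s
    · have hxc : c * x = x * c := by
        simpa using mem_centralizer_iff.1 hx (c ^ 1) (Set.mem_insert _ _)
      have hxs : s * x = x * s := mem_centralizer_iff.1 hx s (Set.mem_insert_of_mem _ rfl)
      rcases mem_four h hσ with rfl | rfl | rfl | rfl
      exacts [(Commute.one_left x).eq, hxc, hxs,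
        ((show Commute c x from hxc).mul_left (show Commute s x from hxs)).eq]
  rw [hCS, H4.GW.card_centralizer_four h.gen, H4.GW.card_centralizer_center h.gen, hM.card_core]
    at hI
  have hIJ : I = H62.GW.jNum (c ^ 1) s * τ * H62.GW.mNum (c ^ 1) s := by
    have hd0 : 0 < 4 * Nat.card ↥(pairCore (c ^ 1) s) := Nat.mul_pos (by norm_num) Nat.card_pos
    refine (Nat.eq_of_mul_eq_mul_right hd0 ?_).symm
    rw [← hI]; ring
  rw [← hIJ]
  rcases le_or_gt 0 k with hk | hk
  · refine ⟨(2 * k + 1).toNat, 1, Or.inl rfl, ?_, ?_, ?_⟩ <;>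
      rw [Int.toNat_of_nonneg (by omega)]
    · omega
    · push_cast; omega
    · push_cast; linear_combination (4 : ℤ) * hrel
  · refine ⟨(-2 * k - 1).toNat, -1, Or.inr rfl, ?_, ?_, ?_⟩ <;>
      rw [Int.toNat_of_nonneg (by omega)]
    · omega
    · push_cast; omega
    · push_cast; linear_combination (4 : ℤ) * hrel

end Cfsg.Agent.H80.GW
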