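import Cfsg.Agent.H62.GW.Basic
import Cfsg.Agent.H61.GW.Fusing

/-!
# GW programme, M2: `O(C(t))` when every `O_r(O(C(t)))` is centralised or inverted

`ActsPM t a`: conjugation by `a` is `1` or `-1` on each `O_r(O)`, `O = O(C(t))`.  For such an
involution `s` one gets `O = A D`, `A` the abelian part of `F(O)` inverted by `s`, `D = C_O(s)`.
-/

set_option autoImplicit false
set_option linter.unusedSectionVars false
set_option linter.style.haveILetI false

namespace Cfsg.Agent.H80.GW.M2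

open Subgroup Cfsg.Agent
open Cfsg.Agent.GW (Cfg coreAt coreIn pairCore CentMax Fuses)
open Cfsg.Agent.Components (pCoreIn fitIn)
open Cfsg.Agent.H62.GW (odd_orderOf_of_mem eq_one_of_odd sq_pow_self commute_of_sq eq_one_of_inverted
  conj_mem_coreAt coreAt_le odd_coreAt commute_of_mem_coreAt mem_coreAt_of_odd)

universe u

variable {G : Type u} [Group G] [Finite G]

/-! ### Elementary facts -/

theorem conj_pow_fix {a o z : G} (haz : Commute a z) (ho : a * o * a⁻¹ = z * o) (n : ℕ) :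
    a ^ n * o * (a ^ n)⁻¹ = z ^ n * o := by
  induction n with
  | zero => simp
  | succ n ih =>
    calc a ^ (n + 1) * o * (a ^ (n + 1))⁻¹ = a * (a ^ n * o * (a ^ n)⁻¹) * a⁻¹ := by
          rw [pow_succ']; group
      _ = (a * z ^ n) * o * a⁻¹ := by rw [ih]; group
      _ = z ^ n * (a * o * a⁻¹) := by rw [(haz.pow_right n).eq]; group
      _ = z ^ (n + 1) * o := by rw [ho, pow_succ]; group

/-- A `2`-element moving `o` by a fixed element of odd order fixes it. -/
theorem commute_of_conj_fix {a o z : G} {k : ℕ} (ha : a ^ 2 ^ k = 1) (hz : Odd (orderOf z))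
    (haz : Commute a z) (ho : a * o * a⁻¹ = z * o) : Commute a o := by
  have h1 := conj_pow_fix haz ho (2 ^ k)
  rw [ha, one_mul, inv_one, mul_one] at h1
  have h2 : z ^ 2 ^ k = 1 := mul_eq_right.1 h1.symm
  have h3 : z = 1 := orderOf_eq_one_iff.1 (Nat.eq_one_of_dvd_coprimes
    (Nat.Coprime.pow_left k (Nat.coprime_two_left.2 hz)) (orderOf_dvd_of_pow_eq_one h2) dvd_rfl)
  rw [h3, one_mul] at ho
  exact mul_inv_eq_iff_eq_mul.1 ho

/-- If `a²` fixes `x` and `a` moves it by an element of odd order fixed by `a`, then `a` fixes `x`. -/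
theorem commute_of_sq_conj {a x f : G} (hf : Odd (orderOf f)) (haf : Commute a f)
    (hx : a * x * a⁻¹ = x * f) (h2 : Commute (a * a) x) : Commute a x := by
  have h1 : x * (f * f) = x := by
    calc x * (f * f) = a * x * a⁻¹ * f := by rw [hx, mul_assoc]
      _ = a * (x * f) * a⁻¹ := by rw [mul_assoc (a * x), ← haf.symm.inv_right.eq]; group
      _ = a * (a * x * a⁻¹) * a⁻¹ := by rw [hx]
      _ = (a * a) * x * (a * a)⁻¹ := by group
      _ = x := by rw [h2.eq, mul_inv_cancel_right]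
  have hf1 : f = 1 := eq_one_of_odd hf (mul_eq_left.1 h1)
  rw [hf1, mul_one] at hx
  exact mul_inv_eq_iff_eq_mul.1 hx

theorem mem_normalizer_of_forall {H : Subgroup G} {g : G} (h : ∀ x ∈ H, g * x * g⁻¹ ∈ H) :
    g ∈ normalizer (H : Set G) := by
  refine Coprime.mem_normalizer_of_map_conj (eq_of_le_of_card_ge ?_ ?_)
  · rintro _ ⟨x, hx, rfl⟩
    exact h x hx
  · rw [Coprime.card_map_conj]

theorem fuses_swap {g t b w : G} (hg : Fuses g t b) (htt : t * t = 1) (htb : Commute t b)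
    (hwt : Commute w t) (hwb : w * b * w⁻¹ = t * b) : Fuses (w * g * w * g⁻¹) t b := by
  obtain ⟨h1, h2⟩ := H62.GW.Fuses.preimage hg htt htb
  have hwtb : w * (t * b) * w⁻¹ = b := by
    calc w * (t * b) * w⁻¹ = (w * t * w⁻¹) * (w * b * w⁻¹) := by group
      _ = b := by rw [hwt.eq, mul_inv_cancel_right, hwb, ← mul_assoc, htt, one_mul]
  refine ⟨?_, ?_⟩
  · calc w * g * w * g⁻¹ * t * (w * g * w * g⁻¹)⁻¹
        = w * (g * (w * (g⁻¹ * t * g) * w⁻¹) * g⁻¹) * w⁻¹ := by group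
      _ = w * (g * b * g⁻¹) * w⁻¹ := by rw [h1, hwtb]
      _ = b := by rw [hg.2, hwtb]
  · calc w * g * w * g⁻¹ * b * (w * g * w * g⁻¹)⁻¹
        = w * (g * (w * (g⁻¹ * b * g) * w⁻¹) * g⁻¹) * w⁻¹ := by group
      _ = w * (g * t * g⁻¹) * w⁻¹ := by rw [h2, hwt.eq, mul_inv_cancel_right]
      _ = t * b := by rw [hg.1, hwb]

/-- If `w` is the identity on `K` and `g` normalises `K`, then `w g w g⁻¹` centralises `K`. -/
theorem commute_swap_of_fix {g w : G} {K : Subgroup G} (hg : g ∈ normalizer (K : Set G))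
    (hw : ∀ v ∈ K, Commute w v) : ∀ v ∈ K, Commute (w * g * w * g⁻¹) v := by
  intro v hv
  refine mul_inv_eq_iff_eq_mul.1 ?_
  have e := (hw _ (Coprime.conj_mem' hg hv)).eq
  calc w * g * w * g⁻¹ * v * (w * g * w * g⁻¹)⁻¹
      = w * (g * (w * (g⁻¹ * v * g) * w⁻¹) * g⁻¹) * w⁻¹ := by group
    _ = w * (g * (g⁻¹ * v * g) * g⁻¹) * w⁻¹ := by rw [e, mul_inv_cancel_right]
    _ = v := by rw [show g * (g⁻¹ * v * g) * g⁻¹ = v by group, (hw v hv).eq, mul_inv_cancel_right]

/-- If `w` inverts `K` and `g` normalises `K`, then `w g w g⁻¹` centralises `K`. -/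
theorem commute_swap_of_invert {g w : G} {K : Subgroup G} (hg : g ∈ normalizer (K : Set G))
    (hw : ∀ v ∈ K, w * v * w⁻¹ = v⁻¹) : ∀ v ∈ K, Commute (w * g * w * g⁻¹) v := by
  intro v hv
  refine mul_inv_eq_iff_eq_mul.1 ?_
  calc w * g * w * g⁻¹ * v * (w * g * w * g⁻¹)⁻¹
      = w * (g * (w * (g⁻¹ * v * g) * w⁻¹) * g⁻¹) * w⁻¹ := by group
    _ = w * v⁻¹ * w⁻¹ := by rw [hw _ (Coprime.conj_mem' hg hv)]; group
    _ = v := by rw [← conj_inv, hw v hv, inv_inv]

/-! ### Elements acting as `±1` on every `O_r(O)` -/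

/-- Conjugation by `a` is `1` or `-1` on each `O_r(O(C(t)))`. -/
def ActsPM (t a : G) : Prop :=
  ∀ r : ℕ, r.Prime → (∀ v ∈ pCoreIn r (coreAt t), Commute v a) ∨
    ∀ v ∈ pCoreIn r (coreAt t), a * v * a⁻¹ = v⁻¹

/-- The subgroup of `C(t)` of all elements acting in this way. -/
def pmSub (t : G) : Subgroup G where
  carrier := {a | Commute a t ∧ ActsPM t a}
  one_mem' := ⟨Commute.one_left t, fun _ _ => Or.inl fun v _ => Commute.one_right v⟩
  mul_mem' := by
    rintro a b ⟨hat, ha⟩ ⟨hbt, hb⟩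
    refine ⟨hat.mul_left hbt, fun r hr => ?_⟩
    rcases ha r hr with ha | ha <;> rcases hb r hr with hb | hb
    · exact Or.inl fun v hv => (ha v hv).mul_right (hb v hv)
    · refine Or.inr fun v hv => ?_
      calc a * b * v * (a * b)⁻¹ = a * (b * v * b⁻¹) * a⁻¹ := by group
        _ = v⁻¹ := by rw [hb v hv, ← (ha _ (inv_mem hv)).eq, mul_inv_cancel_right]
    · refine Or.inr fun v hv => ?_
      calc a * b * v * (a * b)⁻¹ = a * (b * v * b⁻¹) * a⁻¹ := by group
        _ = v⁻¹ := by rw [← (hb v hv).eq, mul_inv_cancel_right, ha v hv]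
    · refine Or.inl fun v hv => (mul_inv_eq_iff_eq_mul.1 ?_ : Commute (a * b) v).symm
      calc a * b * v * (a * b)⁻¹ = a * (b * v * b⁻¹) * a⁻¹ := by group
        _ = v := by rw [hb v hv, ha _ (inv_mem hv), inv_inv]
  inv_mem' := by
    rintro a ⟨hat, ha⟩
    refine ⟨hat.inv_left, fun r hr => (ha r hr).imp (fun h v hv => (h v hv).inv_right) fun h v hv => ?_⟩
    have h1 : a * v⁻¹ * a⁻¹ = v := by rw [h _ (inv_mem hv), inv_inv]
    conv_lhs => rw [← h1]
    group

theorem mem_pmSub {t a : G} : a ∈ pmSub t ↔ Commute a t ∧ ActsPM t a := Iff.rfl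

variable {S : Sylow 2 G} {l : ℕ} {c s : G}

theorem commute_z_of_mem (h : Cfg S l c s) {g : G} (hg : g ∈ (S : Subgroup G)) :
    Commute g (c ^ l) := h.gen.z_central hg

theorem sylow_le_pmSub (h : Cfg S l c s) (hs : ActsPM (c ^ l) s) (hcs : ActsPM (c ^ l) (c * s)) :
    (S : Subgroup G) ≤ pmSub (c ^ l) := by
  have hms : s ∈ pmSub (c ^ l) := ⟨commute_z_of_mem h h.gen.mem_s, hs⟩
  have hmc : c ∈ pmSub (c ^ l) := by
    have h1 : c * s ∈ pmSub (c ^ l) :=
      ⟨commute_z_of_mem h (mul_mem h.gen.mem_c h.gen.mem_s), hcs⟩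
    simpa [mul_assoc] using mul_mem h1 (inv_mem hms)
  intro g hg
  rcases h.gen.cases g hg with hgc | hgc
  · exact zpowers_le.2 hmc hgc
  · simpa using mul_mem (zpowers_le.2 hmc hgc) (inv_mem hms)

theorem commute_fitIn {t b : G} (hb : ∀ r : ℕ, r.Prime → ∀ w ∈ pCoreIn r (coreAt t), Commute b w) :
    ∀ w ∈ fitIn (coreAt t), Commute b w := by
  have hle : fitIn (coreAt t) ≤ centralizer ({b} : Set G) := by
    show (Cfsg.fittingSubgroup ↥(coreAt t)).map (coreAt t).subtype ≤ _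
    rw [Components.fitting_eq_iSup_pCore, Subgroup.map_iSup]
    exact iSup_le fun p w hw => mem_centralizer_singleton_iff.2
      (hb p (Nat.prime_of_mem_primeFactors p.2) w hw).eq.symm
  exact fun w hw => (mem_centralizer_singleton_iff.1 (hle hw) : w * b = b * w).symm

theorem pCoreIn_conj_mem {t g v : G} {r : ℕ} (hg : Commute g t) (hv : v ∈ pCoreIn r (coreAt t)) :
    g * v * g⁻¹ ∈ pCoreIn r (coreAt t) :=
  Coprime.conj_mem (H62.GW.centralizer_le_normalizer_pCoreAt t r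
    (mem_centralizer_singleton_iff.2 hg.eq)) hv

theorem commute_coreAt_t {t v : G} (hv : v ∈ coreAt t) : Commute v t :=
  (commute_of_mem_coreAt hv).symm

/-- `[O, a]` lies in `F(O)`. -/
theorem conj_mul_inv_mem_fitIn {t a o : G} (ha : a ∈ pmSub t) (ho : o ∈ coreAt t) :
    a * o * a⁻¹ * o⁻¹ ∈ fitIn (coreAt t) := by
  have hdO : a * o * a⁻¹ * o⁻¹ ∈ coreAt t :=
    mul_mem (conj_mem_coreAt ha.1 ho) (inv_mem ho)
  refine H62.GW.mem_fitIn_of_commute hdO fun r hr w hw => mul_inv_eq_iff_eq_mul.1 ?_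
  have hot : Commute o⁻¹ t := (commute_coreAt_t ho).inv_left
  have hu : o⁻¹ * w * o ∈ pCoreIn r (coreAt t) := by simpa using pCoreIn_conj_mem hot hw
  calc a * o * a⁻¹ * o⁻¹ * w * (a * o * a⁻¹ * o⁻¹)⁻¹
      = a * (o * (a⁻¹ * (o⁻¹ * w * o) * a) * o⁻¹) * a⁻¹ := by group
    _ = w := by
      rcases ha.2 r hr with hc | hi
      · rw [mul_assoc a⁻¹, (hc _ hu).eq, inv_mul_cancel_left,
          show o * (o⁻¹ * w * o) * o⁻¹ = w by group, ← (hc w hw).eq, mul_inv_cancel_right]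
      · have e : a⁻¹ * (o⁻¹ * w * o) * a = (o⁻¹ * w * o)⁻¹ := by
          have h1 : a * (o⁻¹ * w * o)⁻¹ * a⁻¹ = o⁻¹ * w * o := by rw [hi _ (inv_mem hu), inv_inv]
          conv_lhs => rw [← h1]
          group
        rw [e, show o * (o⁻¹ * w * o)⁻¹ * o⁻¹ = w⁻¹ by group, hi _ (inv_mem hw), inv_inv]

/-- A `2`-element of `C(t)` that is trivial on `F(O)` centralises `O`. -/
theorem commute_coreAt_of_trivial {t a : G} {k : ℕ} (hat : Commute a t) (ha : a ^ 2 ^ k = 1)
    (hF : ∀ r : ℕ, r.Prime → ∀ w ∈ pCoreIn r (coreAt t), Commute a w) :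
    ∀ o ∈ coreAt t, Commute a o := by
  intro o ho
  have hd := conj_mul_inv_mem_fitIn (a := a) ⟨hat, fun r hr => Or.inl fun v hv => (hF r hr v hv).symm⟩ ho
  exact commute_of_conj_fix ha
    (odd_orderOf_of_mem (odd_coreAt t) (map_subtype_le _ hd)) (commute_fitIn hF _ hd) (by group)

theorem exists_two_pow_eq_one {g : G} (hg : g ∈ (S : Subgroup G)) : ∃ k : ℕ, g ^ 2 ^ k = 1 := by
  obtain ⟨k, hk⟩ := S.isPGroup' ⟨g, hg⟩
  exact ⟨k, congrArg Subtype.val hk⟩

/-- Squares of elements of `S` centralise `O`. -/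
theorem commute_mul_self {t g : G} (hgS : g ∈ (S : Subgroup G)) (hg : g ∈ pmSub t) :
    ∀ o ∈ coreAt t, Commute (g * g) o := by
  obtain ⟨k, hk⟩ := exists_two_pow_eq_one (mul_mem hgS hgS)
  refine commute_coreAt_of_trivial (hg.1.mul_left hg.1) hk fun r hr w hw => ?_
  rcases hg.2 r hr with hc | hi
  · exact ((hc w hw).mul_right (hc w hw)).symm
  · refine mul_inv_eq_iff_eq_mul.1 ?_
    calc g * g * w * (g * g)⁻¹ = g * (g * w * g⁻¹) * g⁻¹ := by group
      _ = w := by rw [hi w hw, hi _ (inv_mem hw), inv_inv]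

/-! ### The decomposition `O = A D` -/

/-- The part of `F(O)` inverted by `b`. -/
noncomputable def invPart (t b : G) : Subgroup G :=
  closure {v | ∃ r : ℕ, r.Prime ∧ v ∈ pCoreIn r (coreAt t) ∧
    ∀ w ∈ pCoreIn r (coreAt t), b * w * b⁻¹ = w⁻¹}

/-- The part of `F(O)` centralised by `b`. -/
noncomputable def cenPart (t b : G) : Subgroup G :=
  closure {v | ∃ r : ℕ, r.Prime ∧ v ∈ pCoreIn r (coreAt t) ∧
    ∀ w ∈ pCoreIn r (coreAt t), Commute w b}

theorem invPart_le (t b : G) : invPart t b ≤ coreAt t :=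
  (closure_le _).2 fun _ hv => by obtain ⟨r, -, hv, -⟩ := hv; exact H62.GW.pCoreAt_le t r hv

theorem cenPart_le (t b : G) : cenPart t b ≤ coreAt t :=
  (closure_le _).2 fun _ hv => by obtain ⟨r, -, hv, -⟩ := hv; exact H62.GW.pCoreAt_le t r hv

theorem cenPart_le_pairCore (t b : G) : cenPart t b ≤ pairCore t b :=
  le_inf (cenPart_le t b) ((closure_le _).2 fun _ hv => by
    obtain ⟨r, -, hv, hc⟩ := hv
    exact mem_centralizer_singleton_iff.2 (hc _ hv).eq)

theorem centralizer_le_normalizer_invPart {t b : G} :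
    centralizer ({t} : Set G) ≤ normalizer (invPart t b : Set G) := by
  intro g hg
  refine mem_normalizer_of_forall fun x hx => ?_
  have hgt : Commute g t := mem_centralizer_singleton_iff.1 hg
  have hle : invPart t b ≤ (invPart t b).comap (MulAut.conj g).toMonoidHom :=
    (closure_le _).2 fun v hv => by
      obtain ⟨r, hr, hv, hi⟩ := hv
      exact subset_closure ⟨r, hr, pCoreIn_conj_mem hgt hv, hi⟩
  exact hle hx

theorem centralizer_le_normalizer_cenPart {t b : G} :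
    centralizer ({t} : Set G) ≤ normalizer (cenPart t b : Set G) := by
  intro g hg
  refine mem_normalizer_of_forall fun x hx => ?_
  have hgt : Commute g t := mem_centralizer_singleton_iff.1 hg
  have hle : cenPart t b ≤ (cenPart t b).comap (MulAut.conj g).toMonoidHom :=
    (closure_le _).2 fun v hv => by
      obtain ⟨r, hr, hv, hi⟩ := hv
      exact subset_closure ⟨r, hr, pCoreIn_conj_mem hgt hv, hi⟩
  exact hle hx

theorem commute_pCoreIn {t : G} {r r' : ℕ} (hr : r.Prime) (hr' : r'.Prime) (hne : r ≠ r') {v w : G}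
    (hv : v ∈ pCoreIn r (coreAt t)) (hw : w ∈ pCoreIn r' (coreAt t)) : Commute v w := by
  haveI := Fact.mk hr
  haveI := Fact.mk hr'
  obtain ⟨v', hv', rfl⟩ := hv
  obtain ⟨w', hw', rfl⟩ := hw
  exact (Subgroup.commute_of_normal_of_disjoint _ _ inferInstance inferInstance
    (IsPGroup.disjoint_of_ne r r' hne _ _ Cores.pCore_isPGroup Cores.pCore_isPGroup) v' w' hv' hw').map
    (coreAt t).subtype

theorem invPart_commute {t b : G} : ∀ v ∈ invPart t b, ∀ w ∈ invPart t b, Commute v w := by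
  have key : ∀ v w : G,
      v ∈ {v | ∃ r : ℕ, r.Prime ∧ v ∈ pCoreIn r (coreAt t) ∧
        ∀ w ∈ pCoreIn r (coreAt t), b * w * b⁻¹ = w⁻¹} →
      w ∈ {v | ∃ r : ℕ, r.Prime ∧ v ∈ pCoreIn r (coreAt t) ∧
        ∀ w ∈ pCoreIn r (coreAt t), b * w * b⁻¹ = w⁻¹} → Commute v w := by
    rintro v w ⟨r, hr, hv, hi⟩ ⟨r', hr', hw, -⟩
    by_cases hne : r = r'
    · subst hne
      have h1 := hi _ (mul_mem hv hw)
      rw [← conj_mul, hi v hv, hi w hw, mul_inv_rev] at h1
      have h2 := congrArg (·⁻¹) h1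
      simp only [mul_inv_rev, inv_inv] at h2
      exact h2.symm
    · exact commute_pCoreIn hr hr' hne hv hw
  intro v hv w hw
  have h1 : invPart t b ≤ centralizer (invPart t b : Set G) := by
    rw [invPart, centralizer_closure]
    exact (closure_le _).2 fun x hx => mem_centralizer_iff.2 fun y hy => (key y x hy hx).eq
  exact mem_centralizer_iff.1 (h1 hw) v hv

theorem invPart_inverted {t b : G} : ∀ v ∈ invPart t b, b * v * b⁻¹ = v⁻¹ := by
  intro v hv
  refine (show v ∈ invPart t b ∧ b * v * b⁻¹ = v⁻¹ from ?_).2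
  refine closure_induction (p := fun x _ => x ∈ invPart t b ∧ b * x * b⁻¹ = x⁻¹) ?_ ?_ ?_ ?_ hv
  · exact fun x hx => ⟨subset_closure hx, by obtain ⟨r, -, hx', hi⟩ := hx; exact hi x hx'⟩
  · exact ⟨one_mem _, by group⟩
  · rintro x y - - ⟨hxm, hx⟩ ⟨hym, hy⟩
    refine ⟨mul_mem hxm hym, ?_⟩
    rw [← conj_mul, hx, hy, ← mul_inv_rev, (invPart_commute y hym x hxm).eq]
  · rintro x - ⟨hxm, hx⟩
    exact ⟨inv_mem hxm, by rw [← conj_inv, hx]⟩

theorem invPart_commute_cenPart {t b : G} :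
    ∀ v ∈ invPart t b, ∀ w ∈ cenPart t b, Commute v w := by
  intro v hv w hw
  have h1 : cenPart t b ≤ centralizer (invPart t b : Set G) := by
    rw [invPart, centralizer_closure]
    refine (closure_le _).2 ?_
    rintro x ⟨r, hr, hx, hc⟩
    refine mem_centralizer_iff.2 ?_
    rintro y ⟨r', hr', hy, hi⟩
    by_cases hne : r' = r
    · subst hne
      have h2 : y = 1 := eq_one_of_inverted (odd_orderOf_of_mem (odd_coreAt t)
        (H62.GW.pCoreAt_le t r' hy)) (hi y hy) (hc y hy).symm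
      rw [h2, one_mul, mul_one]
    · exact (commute_pCoreIn hr' hr hne hy hx).eq
  exact mem_centralizer_iff.1 (h1 hw) v hv

/-- `F(O) = A × C_{F(O)}(b)`. -/
theorem exists_fitIn_decomp {t b : G} (hb : ActsPM t b) {v : G} (hv : v ∈ fitIn (coreAt t)) :
    ∃ α ∈ invPart t b, ∃ β ∈ cenPart t b, v = α * β := by
  have hle : fitIn (coreAt t) ≤ invPart t b ⊔ cenPart t b := by
    show (Cfsg.fittingSubgroup ↥(coreAt t)).map (coreAt t).subtype ≤ _
    rw [Components.fitting_eq_iSup_pCore, Subgroup.map_iSup]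
    refine iSup_le fun p => fun w hw => ?_
    have hp := Nat.prime_of_mem_primeFactors p.2
    rcases hb p hp with hc | hi
    · exact mem_sup_right (subset_closure ⟨p, hp, hw, hc⟩)
    · exact mem_sup_left (subset_closure ⟨p, hp, hw, hi⟩)
  have hn : cenPart t b ≤ normalizer (invPart t b : Set G) :=
    (cenPart_le t b).trans ((coreAt_le t).trans centralizer_le_normalizer_invPart)
  obtain ⟨α, hα, β, hβ, e⟩ := (Coprime.mem_sup_iff hn).1 (hle hv)
  exact ⟨α, hα, β, hβ, e.symm⟩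

theorem mem_invPart_of_fitIn {t b v : G} (hb : ActsPM t b) (hv : v ∈ fitIn (coreAt t))
    (hvi : b * v * b⁻¹ = v⁻¹) : v ∈ invPart t b := by
  obtain ⟨α, hα, β, hβ, rfl⟩ := exists_fitIn_decomp hb hv
  have hβb : Commute β b := mem_centralizer_singleton_iff.1 (cenPart_le_pairCore t b hβ).2
  have e : b * β * b⁻¹ = β⁻¹ := by
    rw [← conj_mul, invPart_inverted α hα, mul_inv_rev,
      ((invPart_commute_cenPart α hα β hβ).inv_inv).eq.symm] at hvi
    exact mul_left_cancel hvi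
  rw [eq_one_of_inverted (odd_orderOf_of_mem (odd_coreAt t) (cenPart_le t b hβ)) e hβb.symm,
    mul_one]
  exact hα

theorem mem_cenPart_of_fitIn {t b v : G} (hb : ActsPM t b) (hv : v ∈ fitIn (coreAt t))
    (hvc : Commute v b) : v ∈ cenPart t b := by
  obtain ⟨α, hα, β, hβ, rfl⟩ := exists_fitIn_decomp hb hv
  have hβb : Commute β b := mem_centralizer_singleton_iff.1 (cenPart_le_pairCore t b hβ).2
  have hαb : Commute α b := by simpa using hvc.mul_left hβb.inv_left
  rw [eq_one_of_inverted (odd_orderOf_of_mem (odd_coreAt t) (invPart_le t b hα))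
    (invPart_inverted α hα) hαb.symm, one_mul]
  exact hβ

theorem invPart_inf_pairCore {t b : G} : invPart t b ⊓ pairCore t b = ⊥ := by
  refine eq_bot_iff.2 fun x hx => mem_bot.2 ?_
  exact eq_one_of_inverted (odd_orderOf_of_mem (odd_coreAt t) (invPart_le t b hx.1))
    (invPart_inverted x hx.1) (mem_centralizer_singleton_iff.1 hx.2.2 : x * b = b * x).symm

/-- `O = A D`. -/
theorem exists_decomp {t b o : G} (hb : b ∈ pmSub t) (hbb : b * b = 1) (ho : o ∈ coreAt t) :
    ∃ α ∈ invPart t b, ∃ d ∈ pairCore t b, o = α * d := by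
  have hbi : b⁻¹ = b := inv_eq_of_mul_eq_one_right hbb
  have hyF := conj_mul_inv_mem_fitIn hb ho
  set y := b * o * b⁻¹ * o⁻¹ with hy
  have hyi : b * y * b⁻¹ = y⁻¹ := H62.GW.conj_commutator_inverted hbb
  have hyA : y ∈ invPart t b := mem_invPart_of_fitIn hb.2 hyF hyi
  obtain ⟨k, hk⟩ := sq_pow_self (odd_orderOf_of_mem (odd_coreAt t) (invPart_le t b hyA))
  set α := (y⁻¹) ^ k with hα
  have hαA : α ∈ invPart t b := pow_mem (inv_mem hyA) k
  have hα2 : α * α = y⁻¹ := by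
    rw [hα, ← (Commute.refl y⁻¹).mul_pow, ← mul_inv_rev, inv_pow, hk]
  refine ⟨α, hαA, α⁻¹ * o, Subgroup.mem_inf.2 ⟨mul_mem (inv_mem (invPart_le t b hαA)) ho, ?_⟩, by group⟩
  refine mem_centralizer_singleton_iff.2 (mul_inv_eq_iff_eq_mul.1 ?_ : b * (α⁻¹ * o) = α⁻¹ * o * b).symm
  calc b * (α⁻¹ * o) * b⁻¹ = (b * α⁻¹ * b⁻¹) * (b * o * b⁻¹ * o⁻¹) * o := by group
    _ = α * y * o := by rw [invPart_inverted _ (inv_mem hαA), inv_inv, ← hy]
    _ = α⁻¹ * (α * α) * y * o := by group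
    _ = α⁻¹ * o := by rw [hα2]; group

theorem mem_invPart_of_inverted {t b x : G} (hb : b ∈ pmSub t) (hbb : b * b = 1)
    (hx : x ∈ coreAt t) (hxi : b * x * b⁻¹ = x⁻¹) : x ∈ invPart t b := by
  obtain ⟨α, hα, d, hd, rfl⟩ := exists_decomp hb hbb hx
  have hdb : Commute b d := (mem_centralizer_singleton_iff.1 hd.2 : d * b = b * d).symm
  have e : α⁻¹ * d = d⁻¹ * α⁻¹ := by
    rw [← mul_inv_rev α d, ← hxi, ← conj_mul, invPart_inverted α hα, hdb.eq, mul_inv_cancel_right]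
  have e2 : α * d⁻¹ * α⁻¹ = d := by rw [mul_assoc, ← e, mul_inv_cancel_left]
  have hsq : Commute (α * α) d := by
    refine mul_inv_eq_iff_eq_mul.1 ?_
    calc α * α * d * (α * α)⁻¹ = α * (α * (d⁻¹)⁻¹ * α⁻¹) * α⁻¹ := by group
      _ = α * (α * d⁻¹ * α⁻¹)⁻¹ * α⁻¹ := by group
      _ = d := by rw [e2, e2]
  have hcd := commute_of_sq (odd_orderOf_of_mem (odd_coreAt t) (invPart_le t b hα)) hsq
  rw [hcd.inv_right.eq, mul_inv_cancel_right] at e2
  have hd1 : d = 1 := eq_one_of_odd (odd_orderOf_of_mem (odd_coreAt t) hd.1) (by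
    nth_rw 1 [← e2]; exact inv_mul_cancel d)
  rw [hd1, mul_one]
  exact hα

theorem card_coreAt_eq {t b : G} (hb : b ∈ pmSub t) (hbb : b * b = 1) :
    Nat.card (coreAt t) = Nat.card (invPart t b) * Nat.card (pairCore t b) := by
  rw [← Nat.card_prod]
  refine (Nat.card_eq_of_bijective (fun p : invPart t b × pairCore t b =>
    (⟨(p.1 : G) * p.2, mul_mem (invPart_le t b p.1.2) p.2.2.1⟩ : coreAt t)) ⟨?_, ?_⟩).symm
  · rintro ⟨⟨a, ha⟩, ⟨d, hd⟩⟩ ⟨⟨a', ha'⟩, ⟨d', hd'⟩⟩ e
    have e' : a * d = a' * d' := congrArg Subtype.val e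
    have h1 : a'⁻¹ * a = d' * d⁻¹ := by
      rw [inv_mul_eq_iff_eq_mul, ← mul_assoc, eq_mul_inv_iff_mul_eq]; exact e'
    have h2 : a'⁻¹ * a ∈ invPart t b ⊓ pairCore t b :=
      Subgroup.mem_inf.2 ⟨mul_mem (inv_mem ha') ha, h1 ▸ mul_mem hd' (inv_mem hd)⟩
    rw [invPart_inf_pairCore, mem_bot, inv_mul_eq_one] at h2
    subst h2
    simp only [mul_right_inj] at e'
    subst e'
    rfl
  · rintro ⟨o, ho⟩
    obtain ⟨α, hα, d, hd, rfl⟩ := exists_decomp hb hbb ho
    exact ⟨(⟨α, hα⟩, ⟨d, hd⟩), rfl⟩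

/-! ### Fusing elements -/

theorem fuses_mem_normalizer_pairCore (h : Cfg S l c s) {g b : G} (hg : Fuses g (c ^ l) b) :
    g ∈ normalizer (pairCore (c ^ l) b : Set G) := by
  refine mem_normalizer_of_forall fun v hv => ?_
  have hvt := commute_coreAt_t hv.1
  have hvb : Commute v b := mem_centralizer_singleton_iff.1 hv.2
  have h1 : Commute (g * v * g⁻¹) b := by rw [← hg.1]; exact (Commute.conj_iff g).2 hvt
  have h2 : Commute (g * v * g⁻¹) (c ^ l * b) := by rw [← hg.2]; exact (Commute.conj_iff g).2 hvb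
  have h3 : Commute (g * v * g⁻¹) (c ^ l) := by simpa using h2.mul_right h1.inv_right
  refine ⟨mem_coreAt_of_odd h h3 ?_, mem_centralizer_singleton_iff.2 h1.eq⟩
  rw [H39.orderOf_conj]
  exact odd_orderOf_of_mem (odd_coreAt _) hv.1

theorem mem_normalizer_pairCore {t a b : G} (hat : Commute a t)
    (hb : a * b * a⁻¹ = b ∨ a * b * a⁻¹ = t * b) : a ∈ normalizer (pairCore t b : Set G) := by
  refine mem_normalizer_of_forall fun v hv => ⟨conj_mem_coreAt hat hv.1, ?_⟩
  have hvb : Commute (a * v * a⁻¹) (a * b * a⁻¹) :=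
    (Commute.conj_iff a).2 (mem_centralizer_singleton_iff.1 hv.2)
  refine mem_centralizer_singleton_iff.2 ?_
  rcases hb with e | e <;> rw [e] at hvb
  · exact hvb.eq
  · have h2 := commute_coreAt_t (conj_mem_coreAt hat hv.1)
    exact (by simpa using h2.inv_right.mul_right hvb : Commute (a * v * a⁻¹) b).eq

/-- No element fusing a four group normalises a nontrivial subgroup of `O` normal in `C(t)`. -/
theorem not_normalized (h : Cfg S l c s) (hmax : CentMax l c) {Y : Subgroup G} (hY : Y ≠ ⊥)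
    (hYO : Y ≤ coreAt (c ^ l))
    (hn : centralizer ({c ^ l} : Set G) ≤ normalizer (Y : Set G)) {g b : G}
    (hg : Fuses g (c ^ l) b) (hne : b ≠ c ^ l) (hgY : g ∈ normalizer (Y : Set G)) : False := by
  have h1 := H62.GW.normalizer_le h hmax hY (hYO.trans (coreAt_le _)) hn hgY
  refine hne ?_
  rw [← hg.1, mem_centralizer_singleton_iff.1 h1, mul_inv_cancel_right]

theorem exists_centralizer_decomp (h : Cfg S l c s) {x : G} (hx : Commute x (c ^ l)) :
    ∃ o ∈ coreAt (c ^ l), ∃ σ ∈ (S : Subgroup G), x = o * σ := by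
  obtain ⟨n, hn, hS⟩ := H62.GW.exists_dihedral h.gen
  have hSN : (S : Subgroup G) ≤ normalizer (coreAt (c ^ l) : Set G) :=
    (H36.GW.sylow_le_centralizer h.gen).trans (H62.GW.centralizer_le_normalizer_coreAt _)
  obtain ⟨o, ho, σ, hσ, e⟩ := (Coprime.mem_sup_iff hSN).1
    (H36.GW.centralizer_le_coreC_sup h.gen hn hS (mem_centralizer_singleton_iff.2 hx.eq) :
      x ∈ coreAt (c ^ l) ⊔ (S : Subgroup G))
  exact ⟨o, ho, σ, hσ, e.symm⟩

theorem ne_z_of_out (h : Cfg S l c s) : s ≠ c ^ l ∧ c * s ≠ c ^ l := by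
  constructor
  · exact fun e => h.gen.out (e ▸ pow_mem (mem_zpowers c) l)
  · intro e
    refine h.gen.out_not_mem 1 ?_
    rw [zpow_one, e]
    exact pow_mem (mem_zpowers c) l

end Cfsg.Agent.H80.GW.M2
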