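import Cfsg.Agent.H80.GW.RankOne
import Cfsg.Agent.H33.QuaternionAut
import Cfsg.Agent.H61.ClassSizeDiameter
import Cfsg.Agent.H24.MetacyclicSylow
import Cfsg.Agent.Fusion.Frobenius
import Cfsg.Agent.S0205
import Cfsg.Agent.S0261
import Cfsg.Agent.S0218
import Cfsg.Agent.Linear.Order

/-!
# Quaternion Sylow 2-subgroups with cyclic intersections
-/

set_option autoImplicit false

namespace Cfsg.Agent.H80.GW

open Subgroup Cfsg.Agent

universe u

theorem not_isCyclic_quaternion {n : ℕ} (hn : 1 ≤ n) : ¬ IsCyclic (QuaternionGroup (2 ^ n)) := by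
  intro h
  haveI : NeZero (2 ^ n) := ⟨by positivity⟩
  haveI : NeZero (2 * 2 ^ n) := ⟨by positivity⟩
  have h2 : (2 : ℕ) ≤ 2 ^ n := le_self_pow₀ one_le_two (by omega)
  let _ := h.commGroup
  have h3 := mul_comm (QuaternionGroup.a 1 : QuaternionGroup (2 ^ n)) (QuaternionGroup.xa 0)
  rw [QuaternionGroup.a_mul_xa, QuaternionGroup.xa_mul_a, QuaternionGroup.xa.injEq, zero_sub, zero_add,
    neg_eq_iff_add_eq_zero] at h3
  have h4 : ((2 : ℕ) : ZMod (2 * 2 ^ n)) = 0 := by push_cast; rw [← h3]; norm_num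
  have := Nat.le_of_dvd two_pos ((ZMod.natCast_eq_zero_iff _ _).1 h4)
  omega

/-- Subgroups of a group of 2-rank one: 2-subgroups are cyclic or quaternion. -/
theorem cyclic_or_quaternion_of_rank_one {G : Type u} [Group G] [Finite G] (h1 : Cfsg.PRankLE 2 1 G)
    {E : Subgroup G} (hE : IsPGroup 2 E) :
    IsCyclic E ∨ ∃ n : ℕ, 1 ≤ n ∧ Nonempty (E ≃* QuaternionGroup (2 ^ n)) := by
  haveI : Fact (Nat.Prime 2) := ⟨Nat.prime_two⟩
  obtain ⟨S, hS⟩ := hE.exists_le_sylow
  rcases S0016.result 2 hE (fun H K hH hK => by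
    obtain ⟨x, hx⟩ := exists_prime_orderOf_dvd_card' (G := H) 2 (by rw [hH])
    obtain ⟨z, -, hz⟩ := S1307.exists_invol_unique h1 S
      ⟨((x : ↥E) : G), hS (x : ↥E).2, by rw [Subgroup.orderOf_coe, Subgroup.orderOf_coe, hx]⟩
    exact S1307.eq_of_card_two (fun v hv hv2 => hz v (hS hv) hv2) hH hK) with h | ⟨-, n, h⟩
  · exact Or.inl h
  · rcases Nat.eq_zero_or_pos n with rfl | hn
    · obtain ⟨e⟩ := h
      exact Or.inl (e.isCyclic.2 (by rw [pow_zero]; exact QuaternionGroup.quaternionGroup_one_isCyclic))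
    · exact Or.inr ⟨n, hn, h⟩

/-- An element of odd order normalising and not centralising a 2-subgroup: the latter is `Q₈`. -/
theorem quaternion_eight_of_odd_action {G : Type u} [Group G] [Finite G] (h1 : Cfsg.PRankLE 2 1 G)
    {E : Subgroup G} (hE : IsPGroup 2 E) {g : G} (hg : g ∈ normalizer (E : Set G))
    (ho : (orderOf g).Coprime 2) (hgc : g ∉ centralizer (E : Set G)) :
    Nonempty (E ≃* QuaternionGroup 2) := by
  rcases cyclic_or_quaternion_of_rank_one h1 hE with hc | ⟨n, hn, ⟨e⟩⟩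
  · haveI := hc
    exact absurd (H39.mem_centralizer_of_odd_aut
      (fun φ hφ => H63.GW.aut_cyclic_eq_one hE φ hφ) hg ho) hgc
  · by_contra hcon
    refine hgc (H39.mem_centralizer_of_odd_aut (fun φ hφ => ?_) hg ho)
    by_contra hne
    let Φ : MulAut ↥E →* MulAut (QuaternionGroup (2 ^ n)) := (MulAut.congr e).toMonoidHom
    have hΦ : Function.Injective Φ := (MulAut.congr e).injective
    obtain ⟨rfl, -, -⟩ := H33.QuatAut.quaternion_aut (Φ φ)
      (by rw [orderOf_injective Φ hΦ]; exact hφ) (fun h => hne (hΦ (h.trans Φ.map_one.symm)))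
    exact hcon ⟨e⟩

/-- With cyclic intersections and no normal 2-complement the Sylow 2-subgroups are `Q₈`. -/
theorem sylow_quaternion_eight {G : Type u} [Group G] [Finite G]
    (hns : ¬ Group.IsSolvable G)
    (hQ : ∀ S : Sylow 2 G, ∃ n : ℕ, Nonempty (↥(S : Subgroup G) ≃* QuaternionGroup (2 ^ (n + 1))))
    (h1 : Cfsg.PRankLE 2 1 G)
    (hC : ∀ S T : Sylow 2 G, S ≠ T → IsCyclic ↥((S : Subgroup G) ⊓ (T : Subgroup G))) :
    ∀ S : Sylow 2 G, Nonempty (↥(S : Subgroup G) ≃* QuaternionGroup 2) := by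
  intro S
  haveI : Fact (Nat.Prime 2) := ⟨Nat.prime_two⟩
  obtain ⟨n, ⟨e⟩⟩ := hQ S
  rcases Nat.eq_zero_or_pos n with rfl | hn
  · exact ⟨e⟩
  exfalso
  have hno : ¬ Cfsg.HasNormalPComplement 2 G := fun h =>
    hns (H24.MetaSylow.isSolvable_of_complement (fun K hK => S0205.result hK) h)
  rw [Fusion.frobenius_criterion S] at hno
  push Not at hno
  obtain ⟨E, hES, g, hgN, hgo, hgC⟩ := hno
  have hE : IsPGroup 2 E := S.isPGroup'.to_le hES
  obtain ⟨eE⟩ := quaternion_eight_of_odd_action h1 hE hgN hgo hgC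
  have hEnc : ¬ IsCyclic E := fun h => not_isCyclic_quaternion le_rfl (eE.isCyclic.1 h)
  set M := normalizer (E : Set G) with hM
  have hlt : E < (S : Subgroup G) := lt_of_le_of_ne hES fun h => by
    have h2 : Nat.card E = Nat.card (S : Subgroup G) := by rw [h]
    rw [Nat.card_congr eE.toEquiv, Nat.card_congr e.toEquiv] at h2
    haveI : NeZero (2 ^ (n + 1)) := ⟨by positivity⟩
    rw [Nat.card_eq_fintype_card, Nat.card_eq_fintype_card, QuaternionGroup.card,
      QuaternionGroup.card] at h2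
    have : 2 ^ 2 ≤ 2 ^ (n + 1) := Nat.pow_le_pow_right two_pos (by omega)
    omega
  -- normalisers grow in `S`
  obtain ⟨P, hPdef⟩ : ∃ P : Subgroup G, P = (S : Subgroup G) ⊓ M := ⟨_, rfl⟩
  have hPgrow : E < P := by
    rw [hPdef]
    refine lt_of_le_of_ne (le_inf hES le_normalizer) fun heq => ?_
    haveI : Group.IsNilpotent ↥(S : Subgroup G) := S.isPGroup'.isNilpotent
    have hlt' : E.subgroupOf (S : Subgroup G) < ⊤ := lt_top_iff_ne_top.2 fun h =>
      hlt.not_ge (subgroupOf_eq_top.1 h)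
    have h3 := normalizerCondition_of_isNilpotent (E.subgroupOf (S : Subgroup G)) hlt'
    obtain ⟨x, hx, hxE⟩ := SetLike.exists_of_lt h3
    have hxN : (x : G) ∈ M := by
      rw [hM, mem_normalizer_iff]
      intro y
      constructor
      · intro hy
        exact ((mem_normalizer_iff.1 hx) ⟨y, hES hy⟩).1 hy
      · intro hy
        have hyS : y ∈ (S : Subgroup G) := by
          have := mul_mem (mul_mem (inv_mem x.2) (hES hy)) x.2
          rwa [show (x : G)⁻¹ * (↑x * y * (↑x)⁻¹) * ↑x = y by group] at this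
        exact ((mem_normalizer_iff.1 hx) ⟨y, hyS⟩).2 hy
    exact hxE (show (x : G) ∈ E by rw [heq]; exact ⟨x.2, hxN⟩)
  have hPp : IsPGroup 2 P := hPdef ▸ S.isPGroup'.to_le inf_le_left
  have hPM : P ≤ M := hPdef ▸ inf_le_right
  obtain ⟨R, hR⟩ := (hPp.comap_subtype (K := M)).exists_le_sylow
  have hEM : E ≤ M := le_normalizer
  haveI hEn : (E.subgroupOf M).Normal := normal_in_normalizer
  by_cases huniq : Subsingleton (Sylow 2 ↥M)
  · haveI := huniq
    have hRn : ((R : Subgroup ↥M)).Normal := Sylow.normal_of_subsingleton R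
    obtain ⟨RG, hRGdef⟩ : ∃ RG : Subgroup G, RG = (R : Subgroup ↥M).map M.subtype := ⟨_, rfl⟩
    have hRGp : IsPGroup 2 RG := hRGdef ▸ R.isPGroup'.map _
    have hPR : P ≤ RG := fun x hx => hRGdef ▸ ⟨⟨x, hPM hx⟩, hR hx, rfl⟩
    have hgR : g ∈ normalizer (RG : Set G) := by
      rw [mem_normalizer_iff, hRGdef]
      intro y
      constructor
      · rintro ⟨r, hr, rfl⟩
        exact ⟨⟨g, hgN⟩ * r * ⟨g, hgN⟩⁻¹, hRn.conj_mem r hr _, rfl⟩
      · rintro ⟨r, hr, hre⟩
        refine ⟨⟨g, hgN⟩⁻¹ * r * ⟨g, hgN⟩⁻¹⁻¹, hRn.conj_mem r hr _, ?_⟩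
        simp only [map_mul, map_inv, inv_inv]
        rw [hre]
        simp [mul_assoc]
    have hnot : g ∉ centralizer (RG : Set G) := fun h =>
      hgC (centralizer_le (SetLike.coe_subset_coe.2 (hPgrow.le.trans hPR)) h)
    obtain ⟨eR⟩ := quaternion_eight_of_odd_action h1 hRGp hgR hgo hnot
    have hcard : Nat.card RG = Nat.card E := (Nat.card_congr eR.toEquiv).trans (Nat.card_congr eE.toEquiv).symm
    exact absurd (eq_of_le_of_card_ge (hPgrow.le.trans hPR) hcard.le) (hPgrow.trans_le hPR).ne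
  · rw [not_subsingleton_iff_nontrivial] at huniq
    obtain ⟨R₁, R₂, hne⟩ := exists_pair_ne (Sylow 2 ↥M)
    obtain ⟨S₁, hS₁⟩ := (R₁.isPGroup'.map M.subtype).exists_le_sylow
    obtain ⟨S₂, hS₂⟩ := (R₂.isPGroup'.map M.subtype).exists_le_sylow
    have hER : ∀ R' : Sylow 2 ↥M, E ≤ (R' : Subgroup ↥M).map M.subtype := fun R' x hx =>
      ⟨⟨x, hEM hx⟩, ((hE.comap_subtype (K := M) : IsPGroup 2 ↥(E.subgroupOf M))).le_sylow_of_normal (N := E.subgroupOf M) R' hx, rfl⟩
    have hne' : S₁ ≠ S₂ := by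
      intro h
      refine hne ?_
      have h3 : ∀ R' : Sylow 2 ↥M, (R' : Subgroup ↥M).map M.subtype ≤ (S₁ : Subgroup G) →
          (R' : Subgroup ↥M) = (S₁ : Subgroup G).comap M.subtype := fun R' hR' =>
        (R'.is_maximal' (S₁.isPGroup'.comap_subtype (K := M)) (fun x hx => hR' ⟨x, hx, rfl⟩)).symm
      exact Sylow.ext ((h3 R₁ hS₁).trans (h3 R₂ (h ▸ hS₂)).symm)
    haveI := hC S₁ S₂ hne'
    exact hEnc (isCyclic_of_injective (inclusion (le_inf ((hER R₁).trans hS₁) ((hER R₂).trans hS₂)))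
      (inclusion_injective _))

/-- A group whose Sylow 2-subgroups are quaternion has 2-rank one. -/
theorem pRankLE_of_quaternion {G : Type u} [Group G] [Finite G]
    (hQ : ∀ S : Sylow 2 G, ∃ n : ℕ, Nonempty (↥(S : Subgroup G) ≃* QuaternionGroup (2 ^ (n + 1)))) :
    Cfsg.PRankLE 2 1 G := by
  intro A hA hA2
  haveI : Fact (Nat.Prime 2) := ⟨Nat.prime_two⟩
  have hp : IsPGroup 2 ↥A := fun a => ⟨1, Subtype.ext (by rw [pow_one]; exact hA2 a a.2)⟩
  obtain ⟨S, hS⟩ := hp.exists_le_sylow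
  obtain ⟨n, ⟨e⟩⟩ := hQ S
  rw [pow_one]
  haveI := Fintype.ofFinite ↥A
  by_contra hlt
  rw [Nat.card_eq_fintype_card, not_le, Fintype.two_lt_card_iff] at hlt
  obtain ⟨a, b, c, hab, hac, hbc⟩ := hlt
  have key : ∀ x : ↥A, x ≠ 1 → orderOf (e ⟨(x : G), hS x.2⟩) = 2 := fun x hx => by
    rw [e.orderOf_eq, Subgroup.orderOf_mk, orderOf_eq_prime_iff]
    exact ⟨hA2 x x.2, fun h => hx (Subtype.ext h)⟩
  have huniq : ∀ x y : ↥A, x ≠ 1 → y ≠ 1 → x = y := fun x y hx hy => by
    have hsub := Nat.card_eq_one_iff_unique.1 (S0218.result n)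
    have := @Subsingleton.elim _ hsub.1 ⟨_, key x hx⟩ ⟨_, key y hy⟩
    have h := e.injective (congrArg Subtype.val this)
    exact Subtype.ext (congrArg (fun s : ↥(S : Subgroup G) => (s : G)) h)
  by_cases ha : a = 1
  · exact hbc (huniq b c (fun h => hab (ha.trans h.symm)) fun h => hac (ha.trans h.symm))
  by_cases hb : b = 1
  · exact hac (huniq a c ha fun h => hbc (hb.trans h.symm))
  exact hab (huniq a b ha hb)

/-- The group modulo its core has a normal `SL₂(F)` of odd index. -/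
theorem core_free_q8 (hGW : DihedralStatement.{u}) {Y : Type u} [Group Y] [Finite Y]
    (hO : Cfsg.oddCore Y = ⊥) (hns : ¬ Group.IsSolvable Y) (h1 : Cfsg.PRankLE 2 1 Y)
    (h8 : ∀ S : Sylow 2 Y, Nat.card (S : Subgroup Y) = 8) :
    ∃ (L : Subgroup Y), L.Normal ∧ Odd L.index ∧
      ∃ (F : Type) (_ : Field F) (_ : Fintype F), (Fintype.card F % 8 = 3 ∨ Fintype.card F % 8 = 5) ∧
        3 < Fintype.card F ∧ Nonempty (↥L ≃* Matrix.SpecialLinearGroup (Fin 2) F) := by
  classical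
  haveI : Fact (Nat.Prime 2) := ⟨Nat.prime_two⟩
  obtain ⟨L, hLn, hLbot, hLL⟩ := H61.ClassDiam.exists_perfect_normal hns
  haveI := hLn
  haveI hLp : Group.IsPerfect ↥L := Subgroup.isPerfect_iff.2 hLL
  have hLO : Cfsg.oddCore ↥L = ⊥ := by
    have h := le_bot_iff.1 ((Cores.map_pPrimeCore_le_of_normal (p := 2) L).trans hO.le)
    exact (Subgroup.map_eq_bot_iff_of_injective _ L.subtype_injective).1 h
  have hLeven : Even (Nat.card ↥L) := by
    by_contra h
    haveI : Nontrivial ↥L := (Subgroup.nontrivial_iff_ne_bot L).2 hLbot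
    exact Group.IsPerfect.not_isSolvable (G := ↥L) (S0205.result (Nat.not_even_iff_odd.1 h))
  have hLr : Cfsg.PRankLE 2 1 ↥L := by
    intro A hA hA2
    haveI := hA
    have h := h1 (A.map L.subtype) inferInstance (by rintro _ ⟨a, ha, rfl⟩; rw [← map_pow, hA2 a ha, map_one])
    rwa [Nat.card_congr (equivMapOfInjective A L.subtype L.subtype_injective).symm.toEquiv] at h
  obtain ⟨S⟩ : Nonempty (Sylow 2 Y) := inferInstance
  obtain ⟨R⟩ : Nonempty (Sylow 2 ↥L) := inferInstance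
  have hbound : Nat.card (R : Subgroup ↥L) ≤ 8 := by
    obtain ⟨T, hT⟩ := (R.isPGroup'.map L.subtype).exists_le_sylow
    calc Nat.card (R : Subgroup ↥L) = Nat.card ((R : Subgroup ↥L).map L.subtype) :=
          Nat.card_congr (equivMapOfInjective _ L.subtype L.subtype_injective).toEquiv
      _ ≤ Nat.card (T : Subgroup Y) := card_le_of_le hT
      _ = 8 := h8 T
  have h16 : ¬ 16 ∣ Nat.card ↥L := fun h => by
    obtain ⟨K, hK⟩ := Sylow.exists_subgroup_card_pow_prime 2 (n := 4) (show 2 ^ 4 ∣ Nat.card ↥L from h)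
    obtain ⟨R', hR'⟩ := (IsPGroup.of_card hK).exists_le_sylow
    have h2 := card_le_of_le hR'
    rw [hK, R'.card_eq_multiplicity, ← R.card_eq_multiplicity] at h2
    omega
  rcases rank_one_core_free hGW hLO hLeven hLr with ⟨F, iF, iT, hodd, h3, ⟨f⟩⟩ | h7
  · haveI : NeZero (2 : ℕ) := ⟨two_ne_zero⟩
    let R' : Sylow 2 (Matrix.SpecialLinearGroup (Fin 2) F) :=
      R.mapSurjective (f := f.toMonoidHom) f.surjective
    obtain ⟨k, hk, ⟨g⟩⟩ := S0261.result hodd R'
    haveI : NeZero (2 ^ k) := ⟨by positivity⟩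
    have hcard : Nat.card (R : Subgroup ↥L) = 4 * 2 ^ k := by
      rw [Nat.card_congr ((equivMapOfInjective _ f.toMonoidHom f.injective).trans g).toEquiv,
        Nat.card_eq_fintype_card, QuaternionGroup.card]
    have hk1 : k = 1 := by
      by_contra hne
      have : 2 ^ 2 ≤ 2 ^ k := Nat.pow_le_pow_right two_pos (by omega)
      omega
    subst hk1
    refine ⟨L, hLn, ?_, F, iF, iT, ?_, h3, ⟨f⟩⟩
    · refine Nat.not_even_iff_odd.1 fun he => ?_
      have hS8 := S.card_eq_multiplicity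
      rw [h8 S] at hS8
      have hR8 : 8 ∣ Nat.card ↥L := by
        have h := (R : Subgroup ↥L).card_subgroup_dvd_card
        rw [hcard] at h
        exact h
      have h5 : 2 ^ ((Nat.card Y).factorization 2 + 1) ∣ Nat.card Y := by
        rw [pow_succ, ← hS8, ← L.index_mul_card]
        rw [mul_comm 8 2]
        exact Nat.mul_dvd_mul he.two_dvd hR8
      exact Nat.pow_succ_factorization_not_dvd Nat.card_pos.ne' Nat.prime_two h5
    · have hq : Nat.card ↥L = Fintype.card F * (Fintype.card F ^ 2 - 1) := by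
        rw [Nat.card_congr f.toEquiv, Linear.card_SL_two]
      by_contra hcon
      refine h16 (hq ▸ Dvd.dvd.mul_left ?_ _)
      obtain ⟨j, hj⟩ := hodd
      have hmod : Fintype.card F % 8 = 1 ∨ Fintype.card F % 8 = 7 := by omega
      obtain ⟨m, hm⟩ : ∃ m, Fintype.card F = 8 * m + 1 ∨ Fintype.card F = 8 * m + 7 :=
        ⟨Fintype.card F / 8, by omega⟩
      rcases hm with hm | hm
      · refine ⟨4 * m ^ 2 + m, ?_⟩
        rw [hm]; ring_nf; omega
      · refine ⟨4 * m ^ 2 + 7 * m + 3, ?_⟩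
        rw [hm]; ring_nf; omega
  · obtain ⟨hZ, ⟨e7⟩, -⟩ := h7
    refine absurd ?_ h16
    rw [Subgroup.card_eq_card_quotient_mul_card_subgroup (center ↥L), hZ, Nat.card_congr e7.toEquiv,
      nat_card_alternatingGroup, Nat.card_fin]
    decide

/-- The statement about quaternion Sylow 2-subgroups with cyclic intersections. -/
theorem quaternion_cyclic_int (hGW : DihedralStatement.{u}) {G : Type u} [Group G] [Finite G]
    (hns : ¬ Group.IsSolvable G)
    (hQ : ∀ S : Sylow 2 G, ∃ n : ℕ, Nonempty (↥(S : Subgroup G) ≃* QuaternionGroup (2 ^ (n + 1))))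
    (hC : ∀ S T : Sylow 2 G, S ≠ T → IsCyclic ↥((S : Subgroup G) ⊓ (T : Subgroup G))) :
    (∀ S : Sylow 2 G, Nonempty (↥(S : Subgroup G) ≃* QuaternionGroup 2)) ∧
    ∃ (G₁ : Subgroup G) (_ : G₁.Normal) (_ : ((Cfsg.oddCore G).subgroupOf G₁).Normal),
      Odd G₁.index ∧ Cfsg.oddCore G ≤ G₁ ∧
      ∃ (F : Type) (_ : Field F) (_ : Fintype F), (Fintype.card F % 8 = 3 ∨ Fintype.card F % 8 = 5) ∧
        3 < Fintype.card F ∧
        Nonempty (↥G₁ ⧸ (Cfsg.oddCore G).subgroupOf G₁ ≃* Matrix.SpecialLinearGroup (Fin 2) F) := by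
  classical
  haveI : Fact (Nat.Prime 2) := ⟨Nat.prime_two⟩
  have h1 := pRankLE_of_quaternion hQ
  have h8 := sylow_quaternion_eight hns hQ h1 hC
  refine ⟨h8, ?_⟩
  let O := Cfsg.oddCore G
  let mk : G →* G ⧸ O := QuotientGroup.mk' O
  have hodd : Odd (Nat.card O) := Cores.odd_card_oddCore
  have hinjS : ∀ (S : Sylow 2 G), Function.Injective (mk.comp (S : Subgroup G).subtype) := by
    intro S
    refine (injective_iff_map_eq_one _).2 fun x hx => ?_
    have h4 : (Nat.card (S : Subgroup G)).Coprime (Nat.card O) := by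
      obtain ⟨k, hk⟩ := S.isPGroup'.exists_card_eq
      rw [hk]; exact (Nat.coprime_two_left.2 hodd).pow_left k
    exact Subtype.ext (Subgroup.mem_bot.1
      (Subgroup.inf_eq_bot_of_coprime h4 ▸ ⟨x.2, (QuotientGroup.eq_one_iff (x : G)).1 hx⟩))
  have hlift : ∀ T : Sylow 2 (G ⧸ O), ∃ S : Sylow 2 G,
      Nonempty (↥(S : Subgroup G) ≃* ↥(T : Subgroup (G ⧸ O))) := by
    intro T
    obtain ⟨S, hS⟩ := Sylow.mapSurjective_surjective (QuotientGroup.mk'_surjective O) 2 T
    refine ⟨S, ⟨(MonoidHom.ofInjective (hinjS S)).trans (MulEquiv.subgroupCongr ?_)⟩⟩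
    rw [MonoidHom.range_comp, Subgroup.range_subtype, ← hS]
    rfl
  have hQY : ∀ T : Sylow 2 (G ⧸ O), ∃ n : ℕ,
      Nonempty (↥(T : Subgroup (G ⧸ O)) ≃* QuaternionGroup (2 ^ (n + 1))) := by
    intro T
    obtain ⟨S, ⟨e⟩⟩ := hlift T
    obtain ⟨n, ⟨e'⟩⟩ := hQ S
    exact ⟨n, ⟨e.symm.trans e'⟩⟩
  have h8Y : ∀ T : Sylow 2 (G ⧸ O), Nat.card (T : Subgroup (G ⧸ O)) = 8 := by
    intro T
    obtain ⟨S, ⟨e⟩⟩ := hlift T
    obtain ⟨e'⟩ := h8 S
    rw [Nat.card_congr (e.symm.trans e').toEquiv, Nat.card_eq_fintype_card, QuaternionGroup.card]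
  have hnsY : ¬ Group.IsSolvable (G ⧸ O) := fun h => hns (by
    haveI : Group.IsSolvable O := S0205.result hodd
    exact Group.isSolvable_of_ker_le_range O.subtype mk
      (by rw [QuotientGroup.ker_mk', range_subtype]))
  obtain ⟨L, hLn, hLidx, F, iF, iT, hq, h3, ⟨f⟩⟩ :=
    core_free_q8 hGW (Cores.pPrimeCore_quotient_pPrimeCore (p := 2)) hnsY (pRankLE_of_quaternion hQY) h8Y
  haveI := hLn
  have hle : O ≤ L.comap mk := fun x hx => by
    rw [mem_comap, show mk x = 1 from (QuotientGroup.eq_one_iff x).2 hx]; exact one_mem _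
  refine ⟨L.comap mk, inferInstance, inferInstance, ?_, hle, F, iF, iT, hq, h3, ?_⟩
  · rwa [L.index_comap_of_surjective (QuotientGroup.mk'_surjective O)]
  · let r : ↥(L.comap mk) →* ↥L := mk.subgroupComap L
    have hr : Function.Surjective r :=
      MonoidHom.subgroupComap_surjective_of_surjective mk L (QuotientGroup.mk'_surjective O)
    have hk : r.ker = O.subgroupOf (L.comap mk) := by
      ext x
      rw [MonoidHom.mem_ker, mem_subgroupOf, ← QuotientGroup.eq_one_iff]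
      exact ⟨fun h => congrArg Subtype.val h, fun h => Subtype.ext h⟩
    exact ⟨((QuotientGroup.quotientMulEquivOfEq hk).symm.trans
      (QuotientGroup.quotientKerEquivOfSurjective r hr)).trans f⟩

end Cfsg.Agent.H80.GW
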