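import Cfsg.Agent.H25.BrauerSuzuki
import Cfsg.Agent.H63.GW.Hereditary
import Cfsg.Agent.H74.SchurPerfect
import Cfsg.Agent.H74.SchurBasic
import Cfsg.Agent.H63.GW.Shape
import Cfsg.Agent.Cores.PCore
import Cfsg.Agent.S0016
import Cfsg.Agent.S1307
import Cfsg.Agent.Linear.Mult.SLCommute
import Cfsg.Agent.S2117
import Cfsg.Agent.S2118
import Cfsg.Agent.Linear.Mult.CentralQuot
import Cfsg.Prelude.Def_CaseTheorems
import Cfsg.Prelude.Def_KGroupFacts

/-!
# Perfect groups of 2-rank one modulo the core, from the Gorenstein-Walter statement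
-/

set_option autoImplicit false

namespace Cfsg.Agent.H80.GW

open Subgroup Cfsg.Agent

universe u v

/-- The statement of the dihedral Sylow theorem for perfect groups. -/
def DihedralStatement : Prop :=
  ∀ (X : Type u) [Group X] [Finite X], Group.IsPerfect X →
    ∀ (S : Sylow 2 X) (n : ℕ), 2 ≤ n → Nonempty ((S : Subgroup X) ≃* DihedralGroup n) →
    (∃ (F : Type) (_ : Field F) (_ : Fintype F), Odd (Fintype.card F) ∧ 3 < Fintype.card F ∧
        Nonempty (X ⧸ Cfsg.oddCore X ≃* Matrix.ProjectiveSpecialLinearGroup (Fin 2) F)) ∨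
      Nonempty (X ⧸ Cfsg.oddCore X ≃* alternatingGroup (Fin 7))

/-- Reduction modulo `m` of the cyclic part. -/
def quaternionToDihedral (m : ℕ) [NeZero m] : QuaternionGroup m →* DihedralGroup m where
  toFun
    | .a i => .r (ZMod.castHom (Dvd.intro_left 2 rfl) (ZMod m) i)
    | .xa i => .sr (ZMod.castHom (Dvd.intro_left 2 rfl) (ZMod m) i)
  map_one' := by
    simp only [QuaternionGroup.one_def, DihedralGroup.one_def, map_zero]
  map_mul' := by
    rintro (i | i) (j | j) <;>
      simp only [QuaternionGroup.a_mul_a, QuaternionGroup.a_mul_xa, QuaternionGroup.xa_mul_a,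
        QuaternionGroup.xa_mul_xa, DihedralGroup.r_mul_r, DihedralGroup.r_mul_sr, DihedralGroup.sr_mul_r,
        DihedralGroup.sr_mul_sr, map_add, map_sub, map_natCast, ZMod.natCast_self, zero_add]

theorem quaternionToDihedral_surjective (m : ℕ) [NeZero m] :
    Function.Surjective (quaternionToDihedral m) := by
  have h := ZMod.castHom_surjective (n := 2 * m) (m := m) (Dvd.intro_left 2 rfl)
  rintro (i | i) <;> obtain ⟨j, rfl⟩ := h i
  exacts [⟨.a j, rfl⟩, ⟨.xa j, rfl⟩]

/-- The only involution of a quaternion group lies in the kernel. -/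
theorem quaternionToDihedral_involution {m : ℕ} [NeZero m] {x : QuaternionGroup m}
    (hx : x * x = 1) : quaternionToDihedral m x = 1 := by
  rcases x with i | i
  · rw [QuaternionGroup.a_mul_a, QuaternionGroup.one_def, QuaternionGroup.a.injEq] at hx
    have h1 : m ∣ i.val := by
      have h2 : 2 * m ∣ i.val + i.val := by
        rw [← ZMod.natCast_eq_zero_iff]; push_cast; rw [ZMod.natCast_zmod_val, hx]
      rw [← two_mul] at h2
      exact Nat.dvd_of_mul_dvd_mul_left two_pos h2
    show DihedralGroup.r _ = _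
    rw [DihedralGroup.one_def]
    congr 1
    rw [← ZMod.natCast_zmod_val i, map_natCast, ZMod.natCast_eq_zero_iff]
    exact h1
  · rw [QuaternionGroup.xa_mul_xa, add_sub_cancel_right, QuaternionGroup.one_def,
      QuaternionGroup.a.injEq] at hx
    exact absurd ((ZMod.natCast_eq_zero_iff _ _).1 hx) (fun h => by
      have := Nat.le_of_dvd (Nat.pos_of_ne_zero (NeZero.ne m)) h
      have := NeZero.ne m; omega)

/-- A central extension, with kernel of order prime to the multiplier, of a perfect group splits. -/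
theorem exists_section_coprime {G : Type u} [Group G] [Finite G] (hG : Group.IsPerfect G) {n : ℕ}
    (hm : Cfsg.HasCyclicSchurMultiplier G n) {P : Type v} [Group P] [Finite P] (ρ : P →* G)
    (hρ : Function.Surjective ρ) (hc : ρ.ker ≤ center P) (hco : Nat.Coprime n (Nat.card ρ.ker)) :
    ∃ s : G →* P, ρ.comp s = MonoidHom.id G := by
  obtain ⟨hmap, hD⟩ := H74.Schur.commutator_perfect hρ hc hG
  let σ : commutator P →* G := ρ.comp (commutator P).subtype
  have hσs : Function.Surjective σ := fun q => by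
    obtain ⟨d, hd, hde⟩ : q ∈ (commutator P).map ρ := hmap ▸ mem_top _
    exact ⟨⟨d, hd⟩, hde⟩
  have hst : Cfsg.IsStemExtension σ := by
    refine ⟨hσs, fun x hx => mem_center_iff.2 fun y =>
      Subtype.ext (mem_center_iff.1 (hc hx) (y : P)), ?_⟩
    rw [hD.commutator_eq_top]
    exact le_top
  obtain ⟨f, hf⟩ := H74.Schur.exists_surjective_ker hm hst
  have hfin : Finite (Multiplicative (ZMod n)) := H74.Schur.finite_of_hasSchurMultiplier hm
  have hn : Nat.card (Multiplicative (ZMod n)) = n :=
    (Nat.card_congr Multiplicative.toAdd).trans (Nat.card_zmod n)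
  have h1 : Nat.card σ.ker ∣ n := hn ▸ Subgroup.card_dvd_of_surjective f hf
  have h2 : Nat.card σ.ker ∣ Nat.card ρ.ker :=
    Subgroup.card_dvd_of_injective
      (((commutator P).subtype.comp σ.ker.subtype).codRestrict ρ.ker fun x => x.2)
      fun a b h => Subtype.ext (Subtype.ext (congrArg (fun t : ρ.ker => (t : P)) h))
  have hk : σ.ker = ⊥ := card_eq_one.1 (Nat.eq_one_of_dvd_coprimes hco h1 h2)
  let e : commutator P ≃* G := MulEquiv.ofBijective σ ⟨σ.ker_eq_bot_iff.1 hk, hσs⟩
  exact ⟨(commutator P).subtype.comp e.symm.toMonoidHom, MonoidHom.ext fun x => e.apply_symm_apply x⟩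

/-- A perfect double cover of `PSL₂(F)` is `SL₂(F)`. -/
theorem nonempty_SL_of_double_cover {F : Type} [Field F] [Fintype F] (hodd : Odd (Fintype.card F))
    (h3 : 3 < Fintype.card F) {Y : Type u} [Group Y] [Finite Y] [Group.IsPerfect Y]
    (π : Y →* Matrix.ProjectiveSpecialLinearGroup (Fin 2) F) (hπ : Function.Surjective π)
    (hker : π.ker ≤ center Y) (hcard : Nat.card π.ker = 2) :
    Nonempty (Y ≃* Matrix.SpecialLinearGroup (Fin 2) F) := by
  classical
  let SL := Matrix.SpecialLinearGroup (Fin 2) F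
  let p : SL →* Matrix.ProjectiveSpecialLinearGroup (Fin 2) F :=
    QuotientGroup.mk' (Subgroup.center SL)
  have hperf : Group.IsPerfect SL := by
    refine ⟨Linear.commutator_SL_eq_top (Or.inr ?_)⟩
    obtain ⟨s, hs0, hs⟩ := Linear.Mult.exists_sq_ne_one (F := F) (by omega) (by omega)
    exact ⟨s, hs0, hs⟩
  let D : Subgroup (Y × SL) :=
    { carrier := {x | π x.1 = p x.2}
      one_mem' := by simp
      mul_mem' := fun {a b} ha hb => by
        simp only [Set.mem_setOf_eq] at ha hb ⊢
        simp [ha, hb]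
      inv_mem' := fun {a} ha => by
        simp only [Set.mem_setOf_eq] at ha ⊢
        simp [ha] }
  let ρ : D →* SL := (MonoidHom.snd Y SL).comp D.subtype
  have hρ : Function.Surjective ρ := fun s => by
    obtain ⟨y, hy⟩ := hπ (p s)
    exact ⟨⟨(y, s), hy⟩, rfl⟩
  have hker1 : ∀ x : D, x ∈ ρ.ker → (x : Y × SL).1 ∈ π.ker := fun x hx => by
    have h2 : (x : Y × SL).2 = 1 := hx
    rw [MonoidHom.mem_ker, show π (x : Y × SL).1 = p (x : Y × SL).2 from x.2, h2, map_one]
  have hc : ρ.ker ≤ center D := fun x hx => mem_center_iff.2 fun y => by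
    have h2 : (x : Y × SL).2 = 1 := hx
    refine Subtype.ext (Prod.ext (mem_center_iff.1 (hker (hker1 x hx)) _) ?_)
    show (y : Y × SL).2 * (x : Y × SL).2 = (x : Y × SL).2 * (y : Y × SL).2
    rw [h2, one_mul, mul_one]
  have hρcard : Nat.card ρ.ker ∣ 2 := by
    refine dvd_trans (Subgroup.card_dvd_of_injective
      (((MonoidHom.fst Y SL).comp (D.subtype.comp ρ.ker.subtype)).codRestrict π.ker
        fun x => hker1 x x.2) ?_) (dvd_of_eq hcard)
    intro a b h
    have ha : ((a : D) : Y × SL).2 = 1 := MonoidHom.mem_ker.1 a.2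
    have hb : ((b : D) : Y × SL).2 = 1 := MonoidHom.mem_ker.1 b.2
    exact Subtype.ext (Subtype.ext
      (Prod.ext (congrArg (fun t : π.ker => (t : Y)) h) (ha.trans hb.symm)))
  obtain ⟨s, hs⟩ : ∃ s : SL →* D, ρ.comp s = MonoidHom.id SL := by
    by_cases h9 : Fintype.card F = 9
    · exact exists_section_coprime hperf (S2118.result h9) ρ hρ hc
        ((Nat.Coprime.coprime_dvd_right hρcard (by norm_num)))
    · have h4 : Fintype.card F ≠ 4 := fun h => absurd (h ▸ hodd) (by decide)
      exact exists_section_coprime hperf (S2117.result h4 h9) ρ hρ hc (Nat.coprime_one_left _)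
  let η : SL →* Y := (MonoidHom.fst Y SL).comp (D.subtype.comp s)
  have hη : ∀ g, π (η g) = p g := fun g =>
    (show π (η g) = p ((s g : Y × SL).2) from (s g).2).trans
      (congrArg p (DFunLike.congr_fun hs g))
  have hsurj : Function.Surjective η := by
    have htop : η.range = ⊤ := by
      have hgen : η.range ⊔ center Y = ⊤ := by
        refine eq_top_iff.2 fun y _ => ?_
        obtain ⟨g, hg⟩ := QuotientGroup.mk'_surjective (Subgroup.center SL) (π y)
        have h1 : (η g)⁻¹ * y ∈ center Y := hker (by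
          rw [MonoidHom.mem_ker, map_mul, map_inv, hη, show p g = π y from hg, inv_mul_cancel])
        have := mul_mem (mem_sup_left (T := center Y) (MonoidHom.mem_range.2 ⟨g, rfl⟩))
          (mem_sup_right (S := η.range) h1)
        rwa [mul_inv_cancel_left] at this
      refine eq_top_iff.2 ?_
      rw [← Group.IsPerfect.commutator_eq_top (G := Y)]
      refine Subgroup.commutator_le.2 fun a _ b _ => ?_
      obtain ⟨a', ha', z, hz, rfl⟩ := Subgroup.mem_sup_of_normal_right.1
        (hgen ▸ mem_top a : a ∈ η.range ⊔ center Y)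
      obtain ⟨b', hb', z', hz', rfl⟩ := Subgroup.mem_sup_of_normal_right.1
        (hgen ▸ mem_top b : b ∈ η.range ⊔ center Y)
      rw [commutatorElement_def, H74.Schur.commutatorElement_mul_central hz hz']
      exact mul_mem (mul_mem (mul_mem ha' hb') (inv_mem ha')) (inv_mem hb')
    exact MonoidHom.range_eq_top.1 htop
  have h1 : Nat.card Y = Nat.card (Matrix.ProjectiveSpecialLinearGroup (Fin 2) F) * 2 := by
    rw [Subgroup.card_eq_card_quotient_mul_card_subgroup π.ker, hcard,
      Nat.card_congr (QuotientGroup.quotientKerEquivOfSurjective π hπ).toEquiv]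
  have h2 : Nat.card SL = Nat.card (Matrix.ProjectiveSpecialLinearGroup (Fin 2) F) * 2 := by
    rw [Subgroup.card_eq_card_quotient_mul_card_subgroup (Subgroup.center SL),
      Linear.card_center_SL, Fintype.card_fin]
    have : Nat.gcd 2 (Fintype.card F - 1) = 2 := by
      rcases hodd with ⟨k, hk⟩
      rw [hk, show 2 * k + 1 - 1 = 2 * k by omega]
      exact Nat.gcd_eq_left ⟨k, rfl⟩
    rw [this]
  have hcards : Nat.card SL = Nat.card Y := h2.trans h1.symm
  exact ⟨(MulEquiv.ofBijective η (hsurj.bijective_of_nat_card_le hcards.le)).symm⟩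

/-- Core-free perfect groups with one involution in a Sylow 2-subgroup. -/
theorem rank_one_core_free (hGW : DihedralStatement.{u}) {Y : Type u} [Group Y] [Finite Y]
    [Group.IsPerfect Y] (hO : Cfsg.oddCore Y = ⊥) (heven : Even (Nat.card Y))
    (h1 : Cfsg.PRankLE 2 1 Y) :
    (∃ (F : Type) (_ : Field F) (_ : Fintype F), Odd (Fintype.card F) ∧ 3 < Fintype.card F ∧
        Nonempty (Y ≃* Matrix.SpecialLinearGroup (Fin 2) F)) ∨
      Cfsg.IsNonsplitDoubleCover Y ↥(alternatingGroup (Fin 7)) := by
  classical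
  haveI : Fact (Nat.Prime 2) := ⟨Nat.prime_two⟩
  obtain ⟨S⟩ : Nonempty (Sylow 2 Y) := inferInstance
  have hne : Nontrivial Y := Finite.one_lt_card_iff_nontrivial.1 (by
    rcases heven with ⟨k, hk⟩; have := Nat.card_pos (α := Y); omega)
  have hS : IsCyclic (S : Subgroup Y) ∨ ∃ k : ℕ, Nonempty (↥(S : Subgroup Y) ≃* QuaternionGroup (2 ^ k)) := by
    refine (S0016.result 2 S.isPGroup' fun H K hH hK => ?_).imp id (fun h => h.2)
    obtain ⟨x, hx⟩ := exists_prime_orderOf_dvd_card' (G := H) 2 (by rw [hH])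
    obtain ⟨z, -, hz⟩ := S1307.exists_invol_unique h1 S
      ⟨((x : ↥(S : Subgroup Y)) : Y), (x : ↥(S : Subgroup Y)).2,
        by rw [Subgroup.orderOf_coe, Subgroup.orderOf_coe, hx]⟩
    exact S1307.eq_of_card_two hz hH hK
  have hncyc : ¬ IsCyclic (S : Subgroup Y) := by
    intro hc
    have hp : IsPGroup 2 Y :=
      H63.GW.isPGroup_of_complement hO (H63.GW.hasNormalPComplement_of_cyclic S)
    exact Group.IsPerfect.not_isNilpotent (G := Y) hp.isNilpotent
  obtain ⟨k, ⟨e⟩⟩ := hS.resolve_left hncyc
  obtain ⟨n, rfl⟩ : ∃ n, k = n + 1 := Nat.exists_eq_succ_of_ne_zero fun h => hncyc (by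
    subst h
    exact e.isCyclic.2 (by rw [pow_zero]; exact QuaternionGroup.quaternionGroup_one_isCyclic))
  have hZ : Nat.card (center Y) = 2 := H25.brauerSuzuki_card_center S e hO
  let Q := Y ⧸ center Y
  haveI : Group.IsPerfect Q := inferInstance
  let mk : Y →* Q := QuotientGroup.mk' (center Y)
  let T : Sylow 2 Q := S.mapSurjective (f := mk) (QuotientGroup.mk'_surjective _)
  haveI : NeZero (2 ^ (n + 1)) := ⟨by positivity⟩
  have hT : Nonempty (↥(T : Subgroup Q) ≃* DihedralGroup (2 ^ (n + 1))) := by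
    let f : ↥(S : Subgroup Y) →* DihedralGroup (2 ^ (n + 1)) :=
      (quaternionToDihedral _).comp e.toMonoidHom
    let g : ↥(S : Subgroup Y) →* ↥(T : Subgroup Q) := mk.subgroupMap (S : Subgroup Y)
    have hg : Function.Surjective g := mk.subgroupMap_surjective _
    have hle : g.ker ≤ f.ker := by
      intro x hx
      have hxz : (x : Y) ∈ center Y := (QuotientGroup.eq_one_iff _).1 (congrArg Subtype.val hx)
      have hx2 : x * x = 1 := by
        refine Subtype.ext ?_
        have := congrArg Subtype.val (pow_card_eq_one' (x := (⟨(x : Y), hxz⟩ : center Y)))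
        rw [hZ, sq] at this
        exact this
      show quaternionToDihedral _ (e x) = 1
      exact quaternionToDihedral_involution (by rw [← map_mul, hx2, map_one])
    have hfs : Function.Surjective f := (quaternionToDihedral_surjective _).comp e.surjective
    let φ : ↥(T : Subgroup Q) →* DihedralGroup (2 ^ (n + 1)) :=
      g.liftOfSurjective hg ⟨f, hle⟩
    have hφ : ∀ x, φ (g x) = f x := fun x => g.liftOfRightInverse_comp_apply _ _ ⟨f, hle⟩ x
    have hφs : Function.Surjective φ := fun d => by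
      obtain ⟨x, rfl⟩ := hfs d; exact ⟨g x, hφ x⟩
    refine ⟨MulEquiv.ofBijective φ (hφs.bijective_of_nat_card_le ?_)⟩
    have h2 : Nat.card (S : Subgroup Y) = 4 * 2 ^ (n + 1) := by
      rw [Nat.card_congr e.toEquiv, Nat.card_eq_fintype_card, QuaternionGroup.card]
    have hkerle : (center Y).subgroupOf (S : Subgroup Y) ≤ g.ker := by
      intro x hx
      exact Subtype.ext ((QuotientGroup.eq_one_iff _).2 (mem_subgroupOf.1 hx))
    have hzS : center Y ≤ (S : Subgroup Y) :=
      (IsPGroup.of_card (n := 1) (by rw [hZ, pow_one])).le_sylow_of_normal S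
    have h3 : 2 ∣ Nat.card g.ker := by
      have := card_dvd_of_le hkerle
      rwa [Nat.card_congr (subgroupOfEquivOfLe hzS).toEquiv, hZ] at this
    have h4 := Subgroup.card_eq_card_quotient_mul_card_subgroup g.ker
    rw [Nat.card_congr (QuotientGroup.quotientKerEquivOfSurjective g hg).toEquiv, h2] at h4
    rw [DihedralGroup.nat_card]
    have h5 := Nat.le_of_dvd Nat.card_pos h3
    nlinarith
  have hOQ : Cfsg.oddCore Q = ⊥ := by
    refine le_bot_iff.1 fun q hq => ?_
    let N : Subgroup Y := (Cfsg.oddCore Q).comap mk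
    have hcardN : Nat.card N = 2 * Nat.card (Cfsg.oddCore Q) := by
      let r : N →* Cfsg.oddCore Q := mk.subgroupComap _
      have hr : Function.Surjective r :=
        MonoidHom.subgroupComap_surjective_of_surjective mk _ (QuotientGroup.mk'_surjective _)
      rw [Subgroup.card_eq_card_quotient_mul_card_subgroup r.ker,
        Nat.card_congr (QuotientGroup.quotientKerEquivOfSurjective r hr).toEquiv, mul_comm]
      congr 1
      have hker : r.ker = (center Y).subgroupOf N := by
        ext x
        rw [MonoidHom.mem_ker, mem_subgroupOf, ← QuotientGroup.eq_one_iff]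
        exact ⟨fun h => congrArg Subtype.val h, fun h => Subtype.ext h⟩
      rw [hker, Nat.card_congr (subgroupOfEquivOfLe fun z hz => by
        show z ∈ (Cfsg.oddCore Q).comap mk
        rw [mem_comap]
        rw [show mk z = 1 from (QuotientGroup.eq_one_iff _).2 hz]; exact one_mem _).toEquiv, hZ]
    have hON : Cfsg.oddCore ↥N = ⊥ := by
      haveI : N.Normal := Subgroup.Normal.comap inferInstance mk
      have h := le_bot_iff.1 ((Cores.map_pPrimeCore_le_of_normal (p := 2) N).trans hO.le)
      exact (Subgroup.map_eq_bot_iff_of_injective _ N.subtype_injective).1 h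
    obtain ⟨R⟩ : Nonempty (Sylow 2 ↥N) := inferInstance
    haveI : IsCyclic ↥(R : Subgroup ↥N) := by
      refine isCyclic_of_prime_card (p := 2) ?_
      rw [R.card_eq_multiplicity, hcardN,
        Nat.factorization_mul two_ne_zero Nat.card_pos.ne', Finsupp.add_apply,
        Nat.prime_two.factorization_self,
        Nat.factorization_eq_zero_of_not_dvd fun h =>
          Nat.not_even_iff_odd.2 Cores.odd_card_oddCore (even_iff_two_dvd.2 h), pow_one]
    have hp : IsPGroup 2 ↥N :=
      H63.GW.isPGroup_of_complement hON (H63.GW.hasNormalPComplement_of_cyclic R)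
    have h1' : Nat.card (Cfsg.oddCore Q) = 1 := by
      obtain ⟨j, hj⟩ := hp.exists_card_eq
      have hodd := Cores.odd_card_oddCore (G := Q)
      rw [hcardN] at hj
      refine Nat.eq_one_of_dvd_coprimes (a := 2 ^ j) (b := Nat.card (Cfsg.oddCore Q))
        ((Nat.coprime_two_left.2 hodd).pow_left j) ?_ dvd_rfl
      exact hj ▸ Dvd.intro_left 2 rfl
    rw [card_eq_one.1 h1'] at hq
    exact hq
  have hn2 : 2 ≤ 2 ^ (n + 1) := le_self_pow₀ one_le_two (Nat.succ_ne_zero n)
  let e0 : Q ⧸ Cfsg.oddCore Q ≃* Q :=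
    (QuotientGroup.quotientMulEquivOfEq hOQ).trans QuotientGroup.quotientBot
  rcases hGW Q inferInstance T _ hn2 hT with ⟨F, iF, iT, hodd, h3, ⟨f⟩⟩ | h7
  · refine Or.inl ⟨F, iF, iT, hodd, h3, ?_⟩
    let π : Y →* Matrix.ProjectiveSpecialLinearGroup (Fin 2) F :=
      (e0.symm.trans f).toMonoidHom.comp mk
    have hker : π.ker = center Y := by
      ext y
      simp only [π, MonoidHom.mem_ker, MonoidHom.coe_comp, MulEquiv.coe_toMonoidHom,
        Function.comp_apply, EmbeddingLike.map_eq_one_iff]
      exact QuotientGroup.eq_one_iff y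
    exact nonempty_SL_of_double_cover hodd h3 π
      ((e0.symm.trans f).surjective.comp (QuotientGroup.mk'_surjective _)) hker.le (hker ▸ hZ)
  · obtain ⟨f⟩ := h7
    refine Or.inr ⟨hZ, ⟨e0.symm.trans f⟩, fun L hL => ?_⟩
    have hsup : center Y ⊔ L = ⊤ := hL.sup_eq_top
    have htop : L = ⊤ := by
      refine eq_top_iff.2 ?_
      rw [← Group.IsPerfect.commutator_eq_top (G := Y)]
      refine Subgroup.commutator_le.2 fun a _ b _ => ?_
      obtain ⟨z, hz, a', ha', rfl⟩ := Subgroup.mem_sup_of_normal_left.1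
        (hsup ▸ mem_top a : a ∈ center Y ⊔ L)
      obtain ⟨z', hz', b', hb', rfl⟩ := Subgroup.mem_sup_of_normal_left.1
        (hsup ▸ mem_top b : b ∈ center Y ⊔ L)
      rw [mem_center_iff.1 hz a' |>.symm, mem_center_iff.1 hz' b' |>.symm, commutatorElement_def,
        H74.Schur.commutatorElement_mul_central hz hz']
      exact mul_mem (mul_mem (mul_mem ha' hb') (inv_mem ha')) (inv_mem hb')
    have := hL.card_mul
    rw [hZ, htop, Subgroup.card_top] at this
    have := Nat.card_pos (α := Y)
    omega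

/-- The statement about perfect groups of 2-rank one, from the dihedral one. -/
theorem perfect_rank_one (hGW : DihedralStatement.{u}) {X : Type u} [Group X] [Finite X]
    (hP : Group.IsPerfect X) (h1 : Cfsg.PRankLE 2 1 X) (h2 : Even (Nat.card X)) :
    (∃ (F : Type) (_ : Field F) (_ : Fintype F), Odd (Fintype.card F) ∧ 3 < Fintype.card F ∧
        Nonempty (X ⧸ Cfsg.oddCore X ≃* Matrix.SpecialLinearGroup (Fin 2) F)) ∨
      Cfsg.IsNonsplitDoubleCover (X ⧸ Cfsg.oddCore X) ↥(alternatingGroup (Fin 7)) := by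
  classical
  haveI : Fact (Nat.Prime 2) := ⟨Nat.prime_two⟩
  haveI := hP
  have hodd : Odd (Nat.card (Cfsg.oddCore X)) := Cores.odd_card_oddCore
  refine rank_one_core_free hGW (Cores.pPrimeCore_quotient_pPrimeCore (p := 2)) ?_ ?_
  · rw [Subgroup.card_eq_card_quotient_mul_card_subgroup (Cfsg.oddCore X), Nat.even_mul] at h2
    exact h2.resolve_right (Nat.not_even_iff_odd.2 hodd)
  · intro A hA hA2
    have hp : IsPGroup 2 ↥A := fun a => ⟨1, Subtype.ext (by rw [pow_one]; exact hA2 a a.2)⟩
    obtain ⟨T, hT⟩ := hp.exists_le_sylow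
    obtain ⟨P, hP'⟩ := Sylow.mapSurjective_surjective
      (QuotientGroup.mk'_surjective (Cfsg.oddCore X)) 2 T
    have hinj : ∀ x ∈ (P : Subgroup X), QuotientGroup.mk' (Cfsg.oddCore X) x = 1 → x = 1 := by
      intro x hx hx1
      have h4 : (Nat.card (P : Subgroup X)).Coprime (Nat.card (Cfsg.oddCore X)) := by
        obtain ⟨k, hk⟩ := P.isPGroup'.exists_card_eq
        rw [hk]; exact (Nat.coprime_two_left.2 hodd).pow_left k
      exact Subgroup.mem_bot.1
        (Subgroup.inf_eq_bot_of_coprime h4 ▸ ⟨hx, (QuotientGroup.eq_one_iff x).1 hx1⟩)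
    let f : ↥((P : Subgroup X) ⊓ A.comap (QuotientGroup.mk' (Cfsg.oddCore X))) →* ↥A :=
      { toFun := fun x => ⟨QuotientGroup.mk' (Cfsg.oddCore X) x, x.2.2⟩
        map_one' := Subtype.ext (map_one _)
        map_mul' := fun x y => Subtype.ext (map_mul _ _ _) }
    have hf : Function.Injective f := (injective_iff_map_eq_one f).2 fun x hx =>
      Subtype.ext (hinj x x.2.1 (congrArg Subtype.val hx))
    have hfs : Function.Surjective f := by
      intro a
      obtain ⟨x, hx, hxa⟩ : (a : X ⧸ Cfsg.oddCore X) ∈ (P : Subgroup X).map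
          (QuotientGroup.mk' (Cfsg.oddCore X)) := by
        have := hT a.2
        rw [← hP'] at this
        exact this
      exact ⟨⟨x, hx, by show _ ∈ A; rw [hxa]; exact a.2⟩, Subtype.ext hxa⟩
    let e := MulEquiv.ofBijective f ⟨hf, hfs⟩
    rw [← Nat.card_congr e.toEquiv]
    refine h1 _ ⟨⟨fun x y => ?_⟩⟩ fun x hx => ?_
    · exact hf (by rw [map_mul, map_mul]; exact hA.is_comm.comm _ _)
    · have : f ⟨x, hx⟩ ^ 2 = 1 := Subtype.ext (hA2 _ (f ⟨x, hx⟩).2)
      rw [← map_pow] at this
      exact congrArg Subtype.val (hf (this.trans (map_one f).symm))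

end Cfsg.Agent.H80.GW
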