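import Cfsg.Agent.H80.GW.LinearKill
import Cfsg.Agent.H62.GW.MixedSetting
import Cfsg.Agent.H4.GW.LayerCount

/-!
# GW programme, M3, piece CONGRUENCE: the index of `C(t)` at the primes of `F(O)`

`c` centralises `O = O(C(t))`, so an involution of `C(t) = O S` other than `t` acts on `O` as a
conjugate of `s`.  If `s` moves `R = O_r(O)` then `R` acting on the cosets of `C(t)` has one fixed
point, as `N(R) = C(t)`; so the index of `C(t)` is `1` modulo `r`.
-/

set_option autoImplicit false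
set_option linter.unusedSectionVars false
set_option linter.style.haveILetI false

namespace Cfsg.Agent.H80.GW

open Subgroup Cfsg.Agent
open Cfsg.Agent.GW (Cfg coreAt pairCore CentMax)
open Cfsg.Agent.Components (pCoreIn fitIn)
open Cfsg.Agent.H62.GW (odd_orderOf_of_mem odd_coreAt eq_one_of_odd commute_of_sq pCoreAt_le
  centralizer_le_normalizer_pCoreAt MixedData torusPart)
open Cfsg.Agent.H80.GW.M2 (exists_centralizer_decomp eq_one_of_mem_core commute_coreAt_t)

universe u

variable {G : Type u} [Group G] [Finite G] {S : Sylow 2 G} {l : ℕ} {c s : G}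

/-- An involution of `C(t)` centralising `O_r(O)`, which `s` moves, is `t`. -/
theorem eq_z_of_centralises (h : Cfg S l c s) (hc : ∀ v ∈ coreAt (c ^ l), Commute c v) {r : ℕ}
    (hs : ∃ v ∈ pCoreIn r (coreAt (c ^ l)), ¬ Commute v s) {u : G} (hu : u * u = 1) (hu1 : u ≠ 1)
    (hut : Commute u (c ^ l)) (hcen : ∀ v ∈ pCoreIn r (coreAt (c ^ l)), Commute v u) :
    u = c ^ l := by
  have hss : s * s = 1 := H39.mul_self_of_orderOf_eq_two h.gen.os
  have hst : Commute s (c ^ l) := h.gen.z_central h.gen.mem_s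
  have hcz : ∀ (i : ℤ) (v : G), v ∈ coreAt (c ^ l) → Commute (c ^ i) v :=
    fun i v hv => (hc v hv).zpow_left i
  obtain ⟨o, ho, σ, hσ, rfl⟩ := exists_centralizer_decomp h hut
  have hoo : Odd (orderOf o) := odd_orderOf_of_mem (odd_coreAt _) ho
  rcases h.gen.cases σ hσ with hσc | hσc
  · obtain ⟨i, rfl⟩ := mem_zpowers_iff.1 hσc
    have hco : Commute (c ^ i) o := hcz i o ho
    have h2 : c ^ i * c ^ i = 1 := by
      refine eq_one_of_mem_core (mul_mem hσ hσ) (t := c ^ l) ?_
      have : c ^ i * c ^ i = (o * o)⁻¹ := by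
        refine eq_inv_of_mul_eq_one_right ?_
        rw [← hu]
        exact hco.symm.mul_mul_mul_comm o (c ^ i)
      rw [this]
      exact inv_mem (mul_mem ho ho)
    have ho1 : o = 1 := by
      refine eq_one_of_odd hoo ?_
      rw [← hu]
      calc o * o = o * o * (c ^ i * c ^ i) := by rw [h2, mul_one]
        _ = o * c ^ i * (o * c ^ i) := hco.symm.mul_mul_mul_comm o (c ^ i)
    rw [ho1, one_mul] at hu1 ⊢
    exact (h.gen.sq_one_cases hσc h2).resolve_left hu1
  · exfalso
    obtain ⟨i, hi⟩ := mem_zpowers_iff.1 hσc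
    obtain ⟨v₀, hv₀, hns⟩ := hs
    have hσ' : σ = c ^ i * s := by rw [hi, mul_assoc, hss, mul_one]
    -- conjugation by `s` is conjugation by `o⁻¹` on `O_r(O)`
    have key : ∀ v ∈ pCoreIn r (coreAt (c ^ l)), s * v * s⁻¹ = o⁻¹ * v * o := by
      intro v hv
      have hsv : s * v * s⁻¹ ∈ coreAt (c ^ l) := H62.GW.conj_mem_coreAt hst (pCoreAt_le _ _ hv)
      calc s * v * s⁻¹ = c ^ i * (s * v * s⁻¹) * (c ^ i)⁻¹ := by
            rw [(hcz i _ hsv).eq, mul_inv_cancel_right]
        _ = o⁻¹ * ((o * σ) * v * (o * σ)⁻¹) * o := by rw [hσ']; group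
        _ = o⁻¹ * v * o := by rw [← (hcen v hv).eq, mul_inv_cancel_right]
    refine hns ?_
    have hv' : o⁻¹ * v₀ * o ∈ pCoreIn r (coreAt (c ^ l)) := by
      simpa using M2.pCoreIn_conj_mem (commute_coreAt_t ho).inv_left hv₀
    have h1 : s * (o⁻¹ * v₀ * o) * s⁻¹ = v₀ := by
      rw [← key v₀ hv₀]
      calc s * (s * v₀ * s⁻¹) * s⁻¹ = s * s * v₀ * (s * s)⁻¹ := by group
        _ = v₀ := by rw [hss, one_mul, inv_one, mul_one]
    rw [key _ hv'] at h1
    have hov : Commute o v₀ := commute_of_sq hoo (by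
      show o * o * v₀ = v₀ * (o * o)
      conv_lhs => rw [← h1]
      group)
    refine (mul_inv_eq_iff_eq_mul.1 (show s * v₀ * s⁻¹ = v₀ from ?_) : Commute s v₀).symm
    rw [key v₀ hv₀, mul_assoc, ← hov.eq, inv_mul_cancel_left]

/-- **CONGRUENCE.**  The index of `C(t)` is `1` modulo `r` when `s` moves `O_r(O)`. -/
theorem index_modEq_one_of_moves (h : Cfg S l c s) (hmax : CentMax l c)
    (hc : ∀ v ∈ coreAt (c ^ l), Commute c v) {r : ℕ} [Fact r.Prime]
    (hs : ∃ v ∈ pCoreIn r (coreAt (c ^ l)), ¬ Commute v s) :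
    (centralizer ({c ^ l} : Set G)).index ≡ 1 [MOD r] := by
  set t := c ^ l with ht
  have hne : pCoreIn r (coreAt t) ≠ ⊥ := fun e => by
    obtain ⟨v, hv, hvs⟩ := hs
    rw [e, mem_bot] at hv
    exact hvs (hv ▸ Commute.one_left s)
  refine H4.GW.index_modEq_one_of_fixed (Components.isPGroup_pCoreIn (coreAt t))
    (fun a ha => commute_coreAt_t (pCoreAt_le _ _ ha)) fun g hg => ?_
  have hto : orderOf (g * t * g⁻¹) = 2 := by rw [H39.orderOf_conj, h.gen.z_order]
  have hgC : g * t * g⁻¹ ∈ centralizer ({t} : Set G) :=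
    H62.GW.normalizer_le h hmax hne ((pCoreAt_le _ _).trans (H62.GW.coreAt_le t))
      (centralizer_le_normalizer_pCoreAt t r)
      (centralizer_le_normalizer _ (mem_centralizer_iff.2 fun v hv => (hg v hv).eq))
  exact eq_z_of_centralises h hc hs (H39.mul_self_of_orderOf_eq_two hto)
    (H39.ne_one_of_orderOf_eq_two hto) (mem_centralizer_singleton_iff.1 hgC) hg

/-- CONGRUENCE from the data of a mixed side. -/
theorem index_modEq_one_of_data {L : Subgroup G} (hM : MixedData S l c s L)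
    (hc : ∀ v ∈ coreAt (c ^ l), Commute c v) {r : ℕ} (hr : r.Prime)
    (hdvd : r ∣ Nat.card ↥(fitIn (coreAt (c ^ l)))) :
    (centralizer ({c ^ l} : Set G)).index ≡ 1 [MOD r] := by
  haveI := Fact.mk hr
  obtain ⟨z, hz, hzL, hzo⟩ := hM.torus_prime r hr hdvd
  refine index_modEq_one_of_moves hM.cfg hM.cmax hc ⟨z, hz, fun hzs => hr.ne_one ?_⟩
  rw [← hzo, orderOf_eq_one_iff]
  exact H62.GW.eq_one_of_inverted (odd_orderOf_of_mem (odd_coreAt _) (pCoreAt_le _ _ hz))
    (hM.torus_inverted z ⟨pCoreAt_le _ _ hz, hzL⟩) hzs.symm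

end Cfsg.Agent.H80.GW
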