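import Cfsg.Agent.CharBasic.Kernel
import Cfsg.Agent.CharInduce.Ops
import Cfsg.Agent.Cores.ProductRule

/-!
# GW programme, M2: a three-dimensional fixed space kills the inverted part

If a character of degree `15` is `-1` on `c A`, `c² A`, `c³ A` then the `A`-character on the fixed
space of `c` has degree three, and no nontrivial linear character fits into it when `A` has a fixed
point free automorphism of order three and is inverted inside the group.
-/

set_option autoImplicit false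
set_option linter.unusedSectionVars false
set_option linter.style.haveILetI false

namespace Cfsg.Agent.H80.GW.M2

open Subgroup Cfsg.Agent CharBasic CharInduce

universe u

/-- Functions multiplicative with value one at one. -/
def IsLinFun {A : Type*} [Group A] (f : A → ℂ) : Prop := f 1 = 1 ∧ ∀ x y, f (x * y) = f x * f y

section Abelian

variable {A : Type*} [Group A] [Fintype A]

theorem linFun_inv {f : A → ℂ} (hf : IsLinFun f) (x : A) : f x⁻¹ * f x = 1 := by
  rw [← hf.2, inv_mul_cancel, hf.1]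

theorem sum_linFun {f g : A → ℂ} (hf : IsLinFun f) (hg : IsLinFun g) (hne : f ≠ g) :
    ∑ x : A, f x * g x⁻¹ = 0 := by
  obtain ⟨a, ha⟩ : ∃ a, f a ≠ g a := by
    by_contra! hh
    exact hne (funext hh)
  have h1 : ∑ x : A, f x * g x⁻¹ = (f a * g a⁻¹) * ∑ x : A, f x * g x⁻¹ := by
    conv_lhs => rw [← Equiv.sum_comp (Equiv.mulLeft a) (fun x => f x * g x⁻¹)]
    rw [Finset.mul_sum]
    refine Finset.sum_congr rfl fun x _ => ?_
    simp only [Equiv.coe_mulLeft, hf.2, mul_inv_rev, hg.2]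
    ring
  have h2 : f a * g a⁻¹ ≠ 1 := by
    intro h
    apply ha
    calc f a = f a * (g a⁻¹ * g a) := by rw [linFun_inv hg, mul_one]
      _ = g a := by rw [← mul_assoc, h, one_mul]
  have h3 : (f a * g a⁻¹ - 1) * ∑ x : A, f x * g x⁻¹ = 0 := by rw [sub_mul, one_mul, ← h1, sub_self]
  exact (mul_eq_zero.1 h3).resolve_left (sub_ne_zero.2 h2)

/-- Two equal sums of linear functions have the same members. -/
theorem linFun_mem_of_sum_eq {P Q : Multiset (A → ℂ)} (hP : ∀ f ∈ P, IsLinFun f)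
    (hQ : ∀ f ∈ Q, IsLinFun f) (heq : ∀ x, (P.map fun f => f x).sum = (Q.map fun f => f x).sum)
    {μ : A → ℂ} (hμ : μ ∈ P) : μ ∈ Q := by
  classical
  have hm := hP μ hμ
  have key : ∀ R : Multiset (A → ℂ), (∀ f ∈ R, IsLinFun f) →
      ∑ x : A, (R.map fun f => f x).sum * μ x⁻¹ = (Fintype.card A : ℂ) * (R.count μ : ℂ) := by
    intro R
    induction R using Multiset.induction_on with
    | empty => simp
    | cons f R ih =>
      intro hR
      simp only [Multiset.map_cons, Multiset.sum_cons, add_mul, Finset.sum_add_distrib]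
      rw [ih fun g hg => hR g (Multiset.mem_cons_of_mem hg)]
      by_cases hf : f = μ
      · subst hf
        rw [Multiset.count_cons_self, Finset.sum_congr rfl (g := fun _ => (1 : ℂ))
          (fun x _ => by rw [mul_comm, linFun_inv hm]), Finset.sum_const, Finset.card_univ,
          nsmul_eq_mul, mul_one]
        push_cast
        ring
      · rw [Multiset.count_cons_of_ne (Ne.symm hf), sum_linFun (hR f (Multiset.mem_cons_self f R)) hm hf,
          zero_add]
  have h1 := key P hP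
  simp only [heq] at h1
  rw [key Q hQ] at h1
  have h0 : (Fintype.card A : ℂ) ≠ 0 := Nat.cast_ne_zero.2 Fintype.card_ne_zero
  have h2 : Q.count μ = P.count μ := by exact_mod_cast mul_left_cancel₀ h0 h1
  exact Multiset.count_pos.1 (h2 ▸ Multiset.count_pos.2 hμ)

/-- Three linear functions, stable under inversion and a fixed point free map of order three. -/
theorem linFun_eq_one {Φ : Multiset (A → ℂ)} (hΦ : ∀ f ∈ Φ, IsLinFun f)
    (hcard : Φ.card = 3) (E : A →* A) (hE3 : ∀ x, E (E (E x)) = x) (hfree : ∀ x, E x = x → x = 1)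
    (hsq : ∀ x : A, ∃ y, x = y * y) (habel : ∀ x y : A, Commute x y)
    (hinv : ∀ x, (Φ.map fun f => f x⁻¹).sum = (Φ.map fun f => f x).sum)
    (hEinv : ∀ x, (Φ.map fun f => f (E x)).sum = (Φ.map fun f => f x).sum) :
    ∀ f ∈ Φ, ∀ x, f x = 1 := by
  classical
  intro f hf
  by_contra! hne
  obtain ⟨a₀, ha₀⟩ := hne
  have hstabE : ∀ g ∈ Φ, (fun x => g (E x)) ∈ Φ := fun g hg =>
    linFun_mem_of_sum_eq (P := Φ.map fun g x => g (E x))
      (fun k hk => by
        obtain ⟨k', hk', rfl⟩ := Multiset.mem_map.1 hk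
        exact ⟨by simpa using (hΦ k' hk').1,
          fun x y => by simpa using (hΦ k' hk').2 (E x) (E y)⟩)
      hΦ (fun x => by rw [Multiset.map_map]; exact hEinv x) (Multiset.mem_map_of_mem _ hg)
  have hstabI : ∀ g ∈ Φ, (fun x => g x⁻¹) ∈ Φ := fun g hg =>
    linFun_mem_of_sum_eq (P := Φ.map fun g x => g x⁻¹)
      (fun k hk => by
        obtain ⟨k', hk', rfl⟩ := Multiset.mem_map.1 hk
        exact ⟨by simpa using (hΦ k' hk').1, fun x y => by
          show k' (x * y)⁻¹ = k' x⁻¹ * k' y⁻¹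
          rw [mul_inv_rev, (habel y⁻¹ x⁻¹).eq]; exact (hΦ k' hk').2 _ _⟩)
      hΦ (fun x => by rw [Multiset.map_map]; exact hinv x) (Multiset.mem_map_of_mem _ hg)
  have hf' := hΦ f hf
  have hmove : ¬ ∀ x, f (E x) = f x := by
    intro hfix
    have hinj : Function.Injective fun x => E x * x⁻¹ := by
      intro x y e
      have e' : E x * x⁻¹ = E y * y⁻¹ := e
      have h1 : E (y⁻¹ * x) = y⁻¹ * x := by
        rw [map_mul, map_inv, inv_mul_eq_iff_eq_mul, ← mul_assoc, ← mul_inv_eq_iff_eq_mul]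
        exact e'
      exact (inv_mul_eq_one.1 (hfree _ h1)).symm
    obtain ⟨y, hy⟩ := Finite.injective_iff_surjective.1 hinj a₀
    refine ha₀ ?_
    rw [← hy, hf'.2, hfix, mul_comm, linFun_inv hf']
  set f₁ : A → ℂ := fun x => f (E x) with hf₁
  set f₂ : A → ℂ := fun x => f (E (E x)) with hf₂
  have hm1 : f₁ ∈ Φ := hstabE f hf
  have hm2 : f₂ ∈ Φ := hstabE f₁ hm1
  have h01 : f ≠ f₁ := fun e => hmove fun x => (congrFun e x).symm
  have h02 : f ≠ f₂ := fun e => hmove fun x => by
    calc f (E x) = f (E (E (E x))) := congrFun e (E x)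
      _ = f x := by rw [hE3]
  have h12 : f₁ ≠ f₂ := fun e => h02 (funext fun x => by
    calc f x = f (E (E (E x))) := by rw [hE3]
      _ = f (E (E (E (E x)))) := congrFun e (E (E x))
      _ = f₁ x := by rw [hE3]
      _ = f₂ x := congrFun e x)
  have hset : Φ.toFinset = {f, f₁, f₂} := by
    refine (Finset.eq_of_subset_of_card_le ?_ ?_).symm
    · intro g hg
      simp only [Finset.mem_insert, Finset.mem_singleton] at hg
      rcases hg with rfl | rfl | rfl <;> rwa [Multiset.mem_toFinset]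
    · refine (Multiset.toFinset_card_le Φ).trans (le_of_eq ?_)
      rw [hcard, Finset.card_insert_of_notMem (by simp [h01, h02]),
        Finset.card_insert_of_notMem (by simp [h12]), Finset.card_singleton]
  have hI : (fun x => f x⁻¹) ∈ Φ.toFinset := Multiset.mem_toFinset.2 (hstabI f hf)
  rw [hset] at hI
  simp only [Finset.mem_insert, Finset.mem_singleton] at hI
  rcases hI with e | e | e
  · obtain ⟨y, hy⟩ := hsq a₀
    refine ha₀ ?_
    rw [hy, hf'.2]
    nth_rw 1 [← congrFun e y]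
    exact linFun_inv hf' y
  · refine h02 (funext fun x => ?_)
    calc f x = f (x⁻¹)⁻¹ := by rw [inv_inv]
      _ = f (E x⁻¹) := congrFun e x⁻¹
      _ = f ((E x)⁻¹) := by rw [map_inv]
      _ = f₂ x := congrFun e (E x)
  · refine h01 (funext fun x => ?_)
    calc f x = f (x⁻¹)⁻¹ := by rw [inv_inv]
      _ = f (E (E x⁻¹)) := congrFun e x⁻¹
      _ = f ((E (E x))⁻¹) := by rw [map_inv, map_inv]
      _ = f (E (E (E (E x)))) := congrFun e (E (E x))
      _ = f₁ x := by rw [hE3]

end Abelian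

variable {G : Type u} [Group G] [Finite G]

theorem apply_eq_of_weight_three {χ : G → ℂ} (hχ : Cfsg.IsCharacter G χ) {A : Subgroup G}
    (hA : ∀ x ∈ A, ∀ y ∈ A, Commute x y) (hodd : Odd (Nat.card A)) {c s e : G}
    (hc : orderOf c = 4) (hAc : ∀ α ∈ A, Commute c α) (h15 : χ 1 = 15)
    (hval : ∀ k : ℕ, 0 < k → k < 4 → ∀ α ∈ A, χ (c ^ k * α) = -1)
    (hs : ∀ α ∈ A, s * α * s⁻¹ = α⁻¹) (he : e ∈ normalizer (A : Set G)) (he3 : e ^ 3 = 1)
    (hfree : ∀ α ∈ A, Commute α e → α = 1) : ∀ α ∈ A, χ α = 15 := by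
  classical
  cases nonempty_fintype G
  haveI : Fintype ↥A := Fintype.ofFinite _
  haveI : Fintype ↥(zpowers c) := Fintype.ofFinite _
  let φ : ↥A × ↥(zpowers c) →* G := MonoidHom.mk' (fun p => (p.1 : G) * p.2) fun p q => by
    obtain ⟨i, hi⟩ := mem_zpowers_iff.1 p.2.2
    have h := ((hAc _ q.1.2).zpow_left i).eq
    rw [hi] at h
    show (p.1 : G) * q.1 * ((p.2 : G) * q.2) = p.1 * p.2 * (q.1 * q.2)
    rw [mul_assoc, ← mul_assoc (q.1 : G), ← h]
    group
  have hK : ∀ a b : ↥A × ↥(zpowers c), a * b = b * a := fun a b =>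
    Prod.ext (Subtype.ext (hA _ a.1.2 _ b.1.2).eq) (mul_comm' a.2 b.2)
  obtain ⟨m, hm⟩ := IsChar.eq_multiset_sum (IsChar.comp hχ φ)
  set cc : ↥(zpowers c) := ⟨c, mem_zpowers c⟩
  have hlin : ∀ ξ : Cfsg.IrrCharacter (↥A × ↥(zpowers c)), IsLinFun ξ.1 := fun ξ =>
    ⟨commutative_iff_forall_linear.1 hK ξ,
      fun x y => Cores.ProductRule.linear_mul (commutative_iff_forall_linear.1 hK ξ) x y⟩
  have hval' : ∀ (x : ↥A × ↥(zpowers c)),
      χ (φ x) = (m.map fun ξ => ξ.1 x).sum := by
    intro x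
    have h1 := congrFun hm x
    rw [h1]
    clear h1 hm
    induction m using Multiset.induction_on with
    | empty => simp
    | cons ξ m ih => simp [ih]
  set Φ : Multiset (↥A → ℂ) :=
    (m.filter fun ξ : Cfsg.IrrCharacter (↥A × ↥(zpowers c)) => ξ.1 ((1 : ↥A), cc) = 1).map
      fun ξ α => ξ.1 (α, (1 : ↥(zpowers c))) with hΦ
  have hΦlin : ∀ f ∈ Φ, IsLinFun f := fun f hf => by
    obtain ⟨ξ, -, rfl⟩ := Multiset.mem_map.1 hf
    refine ⟨(hlin ξ).1, fun x y => ?_⟩
    have h := (hlin ξ).2 (x, 1) (y, 1)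
    rwa [Prod.mk_mul_mk, mul_one] at h
  have hsum : ∀ α : A, 4 * (Φ.map fun f => f α).sum = χ α - 3 := by
    intro α
    have hfour : ∀ ξ : Cfsg.IrrCharacter (↥A × ↥(zpowers c)),
        ξ.1 (α, (1 : ↥(zpowers c))) + ξ.1 (α, cc) + ξ.1 (α, cc ^ 2) +
          ξ.1 (α, cc ^ 3) =
          if ξ.1 ((1 : ↥A), cc) = 1 then 4 * ξ.1 (α, (1 : ↥(zpowers c))) else 0 := by
      intro ξ
      have hz : ∀ k : ℕ, ξ.1 (α, cc ^ k) =
          ξ.1 (α, (1 : ↥(zpowers c))) * ξ.1 ((1 : ↥A), cc) ^ k := by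
        intro k
        induction k with
        | zero => simp
        | succ k ih =>
          rw [pow_succ, pow_succ, ← mul_assoc, ← ih, ← (hlin ξ).2, Prod.mk_mul_mk, mul_one]
      have h4 : ξ.1 ((1 : ↥A), cc) ^ 4 = 1 := by
        have h0 : ∀ k : ℕ, ξ.1 ((1 : ↥A), cc) ^ k = ξ.1 ((1 : ↥A), cc ^ k) := by
          intro k
          induction k with
          | zero => rw [pow_zero, pow_zero]; exact (hlin ξ).1.symm
          | succ k ih => rw [pow_succ, pow_succ, ih, ← (hlin ξ).2, Prod.mk_mul_mk, mul_one]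
        rw [h0, show cc ^ 4 = 1 from Subtype.ext (by rw [← hc]; exact pow_orderOf_eq_one c)]
        exact (hlin ξ).1
      have h1 := hz 1
      rw [pow_one] at h1
      rw [h1, hz 2, hz 3]
      split_ifs with hz1
      · rw [hz1]; ring
      · set z := ξ.1 ((1 : ↥A), cc)
        have h3 : (z - 1) * ((z ^ 0) + z + z ^ 2 + z ^ 3) = 0 := by linear_combination h4
        have h5 := (mul_eq_zero.1 h3).resolve_left (sub_ne_zero.2 hz1)
        linear_combination ξ.1 (α, (1 : ↥(zpowers c))) * h5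
    have hR : 4 * (Φ.map fun f => f α).sum = (m.map fun ξ => ξ.1 (α, (1 : ↥(zpowers c))) +
        ξ.1 (α, cc) + ξ.1 (α, cc ^ 2) + ξ.1 (α, cc ^ 3)).sum := by
      simp only [hfour, hΦ, Multiset.map_map, Function.comp_def]
      clear hm hval' hΦ hΦlin
      induction m using Multiset.induction_on with
      | empty => simp
      | cons ξ m ih =>
        by_cases hp : ξ.1 ((1 : ↥A), cc) = 1 <;>
          simp [hp, mul_add, ← ih]
    rw [hR, Multiset.sum_map_add, Multiset.sum_map_add, Multiset.sum_map_add,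
      ← hval', ← hval', ← hval', ← hval']
    have hk : ∀ k : ℕ, 0 < k → k < 4 → χ (φ (α, cc ^ k)) = -1 := fun k h0 h4 => by
      show χ ((α : G) * ((cc ^ k : zpowers c) : G)) = -1
      rw [Subgroup.coe_pow, ← ((hAc _ α.2).pow_left k).eq]
      exact hval k h0 h4 α α.2
    have hk1 := hk 1 one_pos (by norm_num)
    rw [pow_one] at hk1
    rw [hk1, hk 2 two_pos (by norm_num), hk 3 (by norm_num) (by norm_num),
      show φ (α, 1) = (α : G) from mul_one _]
    ring
  have hone : (Φ.map fun f => f (1 : A)).sum = (Φ.card : ℂ) := by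
    rw [Multiset.map_congr rfl fun f hf => (hΦlin f hf).1]
    simp
  have hcard : Φ.card = 3 := by
    have h := hsum 1
    rw [hone, OneMemClass.coe_one, h15] at h
    have h' : (4 * Φ.card : ℂ) = ((12 : ℕ) : ℂ) := by rw [h]; norm_num
    have : 4 * Φ.card = 12 := by exact_mod_cast h'
    omega
  let E : ↥A →* ↥A := MonoidHom.mk' (fun α => ⟨e * α * e⁻¹, Coprime.conj_mem he α.2⟩)
    fun x y => Subtype.ext (by
      show e * (x * y : G) * e⁻¹ = e * x * e⁻¹ * (e * y * e⁻¹)
      group)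
  have hclass := fun x g : G => (IsChar.isClassFunction hχ) x g
  have hall := linFun_eq_one hΦlin hcard E (fun x => Subtype.ext (by
      show e * (e * (e * (x : G) * e⁻¹) * e⁻¹) * e⁻¹ = x
      calc e * (e * (e * (x : G) * e⁻¹) * e⁻¹) * e⁻¹ = e ^ 3 * x * (e ^ 3)⁻¹ := by
            rw [pow_three]; group
        _ = x := by rw [he3, one_mul, inv_one, mul_one]))
    (fun x hx => Subtype.ext (hfree x x.2
      (show Commute (x : G) e from (mul_inv_eq_iff_eq_mul.1 (congrArg Subtype.val hx) :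
        e * (x : G) = x * e).symm)))
    (fun x => by
      obtain ⟨k, hk⟩ := hodd.of_dvd_nat (orderOf_dvd_natCard x)
      exact ⟨x ^ (k + 1), by
        rw [← pow_add, show k + 1 + (k + 1) = orderOf x + 1 by omega, pow_succ, pow_orderOf_eq_one,
          one_mul]⟩)
    (fun x y => Subtype.ext (hA _ x.2 _ y.2).eq)
    (fun x => mul_left_cancel₀ (by norm_num : (4 : ℂ) ≠ 0) (by
      rw [hsum, hsum, Subgroup.coe_inv, ← hs _ x.2, hclass]))
    (fun x => mul_left_cancel₀ (by norm_num : (4 : ℂ) ≠ 0) (by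
      rw [hsum, hsum]
      show χ (e * (x : G) * e⁻¹) - 3 = _
      rw [hclass]))
  intro α hα
  have h := hsum ⟨α, hα⟩
  rw [Multiset.map_congr rfl fun f hf => hall f hf ⟨α, hα⟩] at h
  simp only [Multiset.map_const', Multiset.sum_replicate, hcard, nsmul_eq_mul, mul_one] at h
  linear_combination -h

end Cfsg.Agent.H80.GW.M2
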