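import Cfsg.Agent.H80.GW.Pure
import Cfsg.Agent.H15.GW.LinearChar

/-!
# GW programme, M3, piece KILL: an invariant linear character of `O(C(t))` with centralising fusion

`ψ` linear on `O = O(C(t))`, nontrivial and invariant under `C(t)`; the four groups `⟨t, s⟩` and
`⟨t, c * s⟩` are fused by elements centralising `D`, `D'`.  Then `ψ` is stable, so `O` is abelian.
-/

set_option autoImplicit false
set_option linter.unusedSectionVars false
set_option linter.style.haveILetI false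

namespace Cfsg.Agent.H80.GW

open Subgroup Cfsg.Agent
open Cfsg.Agent.GW (Cfg coreAt pairCore CentMax Fuses)
open Cfsg.Agent.H62.GW (odd_orderOf_of_mem conj_mem_coreAt odd_coreAt mem_coreAt_of_odd)
open Cfsg.Agent.H80.GW.M2 (exists_centralizer_decomp eq_one_of_mem_core commute_coreAt_t)

universe u

variable {G : Type u} [Group G] [Finite G] {S : Sylow 2 G} {l : ℕ} {c s : G}

/-- Invariance under `C(t)` and centralising fusion give a `StableDatum`. -/
theorem stableDatum_of_fused (h : Cfg S l c s)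
    (hs : ∃ g, Fuses g (c ^ l) s ∧ ∀ x ∈ pairCore (c ^ l) s, Commute g x)
    (hcs : ∃ g, Fuses g (c ^ l) (c * s) ∧ ∀ x ∈ pairCore (c ^ l) (c * s), Commute g x)
    {ψ : G → ℂ}
    (hinv : ∀ x ∈ centralizer ({c ^ l} : Set G), ∀ y ∈ coreAt (c ^ l), ψ (x * y * x⁻¹) = ψ y) :
    H15.GW.StableDatum (c ^ l) ψ := by
  have hD := h.gen
  have hss : s * s = 1 := H39.mul_self_of_orderOf_eq_two hD.os
  obtain ⟨θ, hθ, hθc⟩ := hs
  obtain ⟨θ', hθ', hθc'⟩ := hcs
  have hinv' : ∀ x y : G, Commute x (c ^ l) → y ∈ coreAt (c ^ l) → ψ (x * y * x⁻¹) = ψ y :=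
    fun x y hx hy => hinv x (mem_centralizer_singleton_iff.2 hx.eq) y hy
  set t := c ^ l with ht
  set O := coreAt t with hO
  refine ⟨hD.z_order, fun w hw => H61.GW.isConj_z h hw,
    fun x y hx hyt hyo => hinv' x y hx (mem_coreAt_of_odd h hyt hyo),
    fun g y hgc hyt hyo hyw => ?_⟩
  have hy : y ∈ O := mem_coreAt_of_odd h hyt hyo
  set w := g * t * g⁻¹ with hwdef
  by_cases hwt' : w = t
  · have hgt : Commute g t := mul_inv_eq_iff_eq_mul.1 hwt'
    simpa using hinv' g⁻¹ y hgt.inv_left hy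
  have hw2 : orderOf w = 2 := by rw [hwdef, H39.orderOf_conj, hD.z_order]
  have hww := H39.mul_self_of_orderOf_eq_two hw2
  obtain ⟨o, ho, σ, hσ, hwσ⟩ := exists_centralizer_decomp h (show Commute w t from hgc)
  have hσt : Commute σ t := hD.z_central hσ
  have h5 : o * (σ * o * σ⁻¹) * (σ * σ) = 1 := by rw [← hww, hwσ]; group
  have hσ2 : σ * σ = 1 := by
    refine eq_one_of_mem_core (mul_mem hσ hσ) (t := t) ?_
    rw [← inv_eq_of_mul_eq_one_right h5]
    exact inv_mem (mul_mem ho (conj_mem_coreAt hσt ho))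
  have hoi : σ * o * σ⁻¹ = o⁻¹ := by
    rw [hσ2, mul_one] at h5
    exact (inv_eq_of_mul_eq_one_right h5).symm
  have hoo : Odd (orderOf o) := odd_orderOf_of_mem (odd_coreAt t) ho
  obtain ⟨i, hi⟩ : ∃ i : ℤ, σ = c ^ i * s := by
    rcases hD.cases σ hσ with hc | hc
    · exfalso
      rcases hD.sq_one_cases hc hσ2 with e | e
      · rw [e, mul_one] at hwσ
        refine H39.ne_one_of_orderOf_eq_two hw2 (H62.GW.eq_one_of_odd ?_ hww)
        rwa [hwσ]
      · have hσ' : σ = t := e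
        rw [hσ', ← (commute_coreAt_t ho).eq, mul_inv_cancel_right] at hoi
        have ho1 : o = 1 := H62.GW.eq_one_of_odd hoo (mul_eq_one_iff_eq_inv.2 hoi)
        rw [ho1, one_mul, hσ'] at hwσ
        exact hwt' hwσ
    · obtain ⟨i, hi⟩ := mem_zpowers_iff.1 hc
      exact ⟨i, by rw [hi, mul_assoc, hss, mul_one]⟩
  obtain ⟨k, hk⟩ := H62.GW.sq_pow_self hoo
  set u := o ^ k with hu
  have huu : u * u = o := by rw [hu, ← (Commute.refl o).mul_pow]; exact hk
  have huO : u ∈ O := pow_mem ho k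
  have huσ : u * σ * u⁻¹ = w := by
    have h1 : σ * u * σ⁻¹ = u⁻¹ := by rw [hu, ← conj_pow, hoi, inv_pow]
    calc u * σ * u⁻¹ = u * (σ * u * σ⁻¹)⁻¹ * σ := by group
      _ = u * u * σ := by rw [h1, inv_inv]
      _ = w := by rw [huu, hwσ]
  obtain ⟨j, r, hr, hσr⟩ : ∃ (j : ℤ) (r : G), (r = s ∨ r = c * s) ∧
      σ = c ^ j * r * (c ^ j)⁻¹ := by
    rcases Int.even_or_odd' i with ⟨j, hj | hj⟩
    · refine ⟨j, s, Or.inl rfl, ?_⟩
      have h0 := hD.conj_reflection 0 j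
      rw [zpow_zero, one_mul, zero_add] at h0
      rw [h0, hi, hj]
    · refine ⟨j, c * s, Or.inr rfl, ?_⟩
      have h0 := hD.conj_reflection 1 j
      rw [zpow_one, add_comm] at h0
      rw [h0, hi, hj]
  have hcjt : Commute (c ^ j) t := ((Commute.refl c).zpow_left j).pow_right l
  set a := u * c ^ j with ha
  have hat : Commute a t := (commute_coreAt_t huO).mul_left hcjt
  have haw : a * r * a⁻¹ = w := by
    calc a * r * a⁻¹ = u * (c ^ j * r * (c ^ j)⁻¹) * u⁻¹ := by rw [ha]; group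
      _ = w := by rw [← hσr, huσ]
  set y' := a⁻¹ * y * a with hy'
  have hy'O : y' ∈ O := by simpa using conj_mem_coreAt hat.inv_left hy
  have hy'r : y' ∈ pairCore t r := Subgroup.mem_inf.2 ⟨hy'O, mem_centralizer_singleton_iff.2 (by
    have hyw' : Commute y (a * r * a⁻¹) := haw ▸ hyw
    calc y' * r = a⁻¹ * (y * (a * r * a⁻¹)) * a := by rw [hy']; group
      _ = a⁻¹ * ((a * r * a⁻¹) * y) * a := by rw [hyw'.eq]
      _ = r * y' := by rw [hy']; group)⟩
  obtain ⟨η, hη, hηc⟩ : ∃ η, η * t * η⁻¹ = r ∧ Commute η y' := by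
    rcases hr with rfl | rfl
    · exact ⟨θ, hθ.1, hθc y' hy'r⟩
    · exact ⟨θ', hθ'.1, hθc' y' hy'r⟩
  set b := η⁻¹ * a⁻¹ * g with hb
  have hbt : Commute b t := mul_inv_eq_iff_eq_mul.1 (by
    calc b * t * b⁻¹ = η⁻¹ * (a⁻¹ * w * a) * η := by rw [hb, hwdef]; group
      _ = η⁻¹ * r * η := by rw [← haw]; group
      _ = t := by rw [← hη]; group)
  have e1 : g⁻¹ * y * g = b⁻¹ * y' * b := by
    calc g⁻¹ * y * g = b⁻¹ * (η⁻¹ * (a⁻¹ * y * a) * η) * b := by rw [hb]; group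
      _ = b⁻¹ * y' * b := by rw [← hy', hηc.inv_left.eq, inv_mul_cancel_right]
  rw [e1]
  have e2 := hinv' b⁻¹ y' hbt.inv_left hy'O
  rw [inv_inv] at e2
  rw [e2, hy']
  simpa using hinv' a⁻¹ y hat.inv_left hy

/-- **KILL.**  An invariant nontrivial linear character of `O(C(t))` makes it abelian when the
elements fusing the two four groups centralise `D` and `D'`. -/
theorem abelian_of_linear (h : Cfg S l c s)
    (hs : ∃ g, Fuses g (c ^ l) s ∧ ∀ x ∈ pairCore (c ^ l) s, Commute g x)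
    (hcs : ∃ g, Fuses g (c ^ l) (c * s) ∧ ∀ x ∈ pairCore (c ^ l) (c * s), Commute g x)
    {ψ : G → ℂ}
    (hmul : ∀ x ∈ coreAt (c ^ l), ∀ y ∈ coreAt (c ^ l), ψ (x * y) = ψ x * ψ y) (h1 : ψ 1 = 1)
    (hnt : ∃ x ∈ coreAt (c ^ l), ψ x ≠ 1)
    (hinv : ∀ x ∈ centralizer ({c ^ l} : Set G), ∀ y ∈ coreAt (c ^ l), ψ (x * y * x⁻¹) = ψ y) :
    ∀ x ∈ coreAt (c ^ l), ∀ y ∈ coreAt (c ^ l), Commute x y :=
  H15.GW.linearCharStep S l c s h ψ (stableDatum_of_fused h hs hcs hinv) hmul h1 hnt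

/-- The form in which `ψ` is only asked to be invariant under the Sylow group. -/
theorem abelian_of_linear_sylow (h : Cfg S l c s)
    (hs : ∃ g, Fuses g (c ^ l) s ∧ ∀ x ∈ pairCore (c ^ l) s, Commute g x)
    (hcs : ∃ g, Fuses g (c ^ l) (c * s) ∧ ∀ x ∈ pairCore (c ^ l) (c * s), Commute g x)
    {ψ : G → ℂ}
    (hmul : ∀ x ∈ coreAt (c ^ l), ∀ y ∈ coreAt (c ^ l), ψ (x * y) = ψ x * ψ y) (h1 : ψ 1 = 1)
    (hnt : ∃ x ∈ coreAt (c ^ l), ψ x ≠ 1)
    (hinv : ∀ x ∈ (S : Subgroup G), ∀ y ∈ coreAt (c ^ l), ψ (x * y * x⁻¹) = ψ y) :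
    ∀ x ∈ coreAt (c ^ l), ∀ y ∈ coreAt (c ^ l), Commute x y := by
  refine abelian_of_linear h hs hcs hmul h1 hnt fun x hx y hy => ?_
  obtain ⟨o, ho, σ, hσ, rfl⟩ := exists_centralizer_decomp h (mem_centralizer_singleton_iff.1 hx)
  have hy' : σ * y * σ⁻¹ ∈ coreAt (c ^ l) := conj_mem_coreAt (h.gen.z_central hσ) hy
  rw [show o * σ * y * (o * σ)⁻¹ = o * (σ * y * σ⁻¹) * o⁻¹ by group,
    hmul _ (mul_mem ho hy') _ (inv_mem ho), hmul _ ho _ hy', mul_right_comm,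
    ← hmul _ ho _ (inv_mem ho), mul_inv_cancel, h1, one_mul, hinv σ hσ y hy]

/-- **The `B`-case.**  `O = B D` with `B ∩ D = 1`, `B` normalised by `C(t)` and `c` central on `O`
is impossible: a character of `O / B` makes `O` abelian, and then `D` is normal in `C(t)`. -/
theorem false_of_complement (h : Cfg S l c s) (hmax : CentMax l c)
    (hne : pairCore (c ^ l) s ≠ ⊥)
    (hs : ∃ g, Fuses g (c ^ l) s ∧ ∀ x ∈ pairCore (c ^ l) s, Commute g x)
    (hcs : ∃ g, Fuses g (c ^ l) (c * s) ∧ ∀ x ∈ pairCore (c ^ l) (c * s), Commute g x)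
    {B : Subgroup G} (hBO : B ≤ coreAt (c ^ l))
    (hBn : centralizer ({c ^ l} : Set G) ≤ normalizer (B : Set G))
    (hdisj : B ⊓ pairCore (c ^ l) s = ⊥) (hsup : B ⊔ pairCore (c ^ l) s = coreAt (c ^ l))
    (hc : ∀ o ∈ coreAt (c ^ l), Commute c o) : False := by
  classical
  set O := coreAt (c ^ l) with hO
  have hON : O ≤ normalizer (B : Set G) :=
    fun o ho => hBn (H62.GW.coreAt_le _ ho)
  set K := B.subgroupOf O with hK
  haveI : K.Normal := normal_subgroupOf_of_le_normalizer hON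
  have hKtop : K ≠ ⊤ := fun e => hne (eq_bot_iff.2 (fun d hd =>
    hdisj ▸ Subgroup.mem_inf.2 ⟨(subgroupOf_eq_top.1 e : O ≤ B) hd.1, hd⟩))
  haveI : Group.IsSolvable ↥O := S0205.result (odd_coreAt _)
  haveI : Group.IsSolvable (↥O ⧸ K) := Group.isSolvable_of_surjective (QuotientGroup.mk'_surjective K)
  haveI : Nontrivial (↥O ⧸ K) := QuotientGroup.nontrivial_iff.2 hKtop
  obtain ⟨μ, hμ⟩ := H84.exists_hom_ne_one_of_imperfect
    (Group.IsSolvable.commutator_lt_top_of_nontrivial (↥O ⧸ K)).ne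
  let μ' : ↥O →* ℂˣ := μ.comp (QuotientGroup.mk' K)
  let ψ : G → ℂ := fun y => if hy : y ∈ O then ((μ' ⟨y, hy⟩ : ℂˣ) : ℂ) else 0
  have hψO : ∀ y (hy : y ∈ O), ψ y = ((μ' ⟨y, hy⟩ : ℂˣ) : ℂ) := fun y hy => dif_pos hy
  have hψ1 : ψ 1 = 1 := by
    rw [hψO 1 (one_mem _), show (⟨1, one_mem _⟩ : ↥O) = 1 from rfl, map_one, Units.val_one]
  have hψmul : ∀ x ∈ O, ∀ y ∈ O, ψ (x * y) = ψ x * ψ y := fun x hx y hy => by
    rw [hψO x hx, hψO y hy, hψO _ (mul_mem hx hy), ← Units.val_mul, ← map_mul]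
    rfl
  have hψB : ∀ b ∈ B, ψ b = 1 := fun b hb => by
    rw [hψO b (hBO hb)]
    show ((μ (QuotientGroup.mk' K ⟨b, hBO hb⟩) : ℂˣ) : ℂ) = 1
    rw [QuotientGroup.mk'_apply, (QuotientGroup.eq_one_iff (N := K) ⟨b, hBO hb⟩).2 hb, map_one,
      Units.val_one]
  have hψnt : ∃ x ∈ O, ψ x ≠ 1 := by
    by_contra! hh
    refine hμ (MonoidHom.ext fun q => ?_)
    obtain ⟨⟨x, hx⟩, rfl⟩ := QuotientGroup.mk'_surjective K q
    refine Units.ext ?_
    have := hh x hx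
    rw [hψO x hx] at this
    exact this
  have hst : Commute s (c ^ l) := h.gen.z_central h.gen.mem_s
  have hinvs : ∀ y ∈ O, ψ (s * y * s⁻¹) = ψ y := by
    intro y hy
    obtain ⟨b, hb, d, hd, rfl⟩ := (Coprime.mem_sup_iff
      ((inf_le_left : pairCore (c ^ l) s ≤ O).trans hON)).1 (hsup.symm ▸ hy : y ∈ B ⊔ pairCore (c ^ l) s)
    have hsb : s * b * s⁻¹ ∈ B :=
      Coprime.conj_mem (hBn (mem_centralizer_singleton_iff.2 hst.eq)) hb
    have hds : Commute d s := mem_centralizer_singleton_iff.1 hd.2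
    rw [show s * (b * d) * s⁻¹ = (s * b * s⁻¹) * (s * d * s⁻¹) by group, ← hds.eq,
      mul_inv_cancel_right, hψmul _ (hBO hsb) _ hd.1, hψmul _ (hBO hb) _ hd.1, hψB _ hsb, hψB _ hb]
  have hcz : ∀ (i : ℤ) (o : G), o ∈ O → Commute (c ^ i) o := fun i o ho => (hc o ho).zpow_left i
  have hab := abelian_of_linear_sylow h hs hcs hψmul hψ1 hψnt fun x hx y hy => by
    rcases h.gen.cases x hx with hxc | hxc
    · obtain ⟨i, rfl⟩ := mem_zpowers_iff.1 hxc
      rw [(hcz i y hy).eq, mul_inv_cancel_right]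
    · obtain ⟨i, hi⟩ := mem_zpowers_iff.1 hxc
      have hss : s * s = 1 := H39.mul_self_of_orderOf_eq_two h.gen.os
      have hx' : x = c ^ i * s := by rw [hi, mul_assoc, hss, mul_one]
      have hsy : s * y * s⁻¹ ∈ O := conj_mem_coreAt hst hy
      rw [hx', show c ^ i * s * y * (c ^ i * s)⁻¹ = c ^ i * (s * y * s⁻¹) * (c ^ i)⁻¹ by group,
        (hcz i _ hsy).eq, mul_inv_cancel_right, hinvs y hy]
  exact M2.false_of_abelian h hmax hne (fun o ho => (hc o ho).mul_left (hc o ho)) hab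

end Cfsg.Agent.H80.GW
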