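import Cfsg.Agent.H80.GW.Pure
import Cfsg.Agent.H15.GW.LinearChar

/-!
# GW programme: `MaxStep` from the mixed case

`false_of_pure` (M2) disposes of the configurations in which `s` and `c * s` act as `±1` on every
`O_r(O(C(t)))`.  Otherwise, after possibly swapping `s` and `c * s`, some `O_q(O)` is mixed for `s`:
it holds an element of order `q` fixed by `s` and an element moved by `s`.
-/

set_option autoImplicit false
set_option linter.unusedSectionVars false

namespace Cfsg.Agent.H80.GW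

open Subgroup Cfsg.Agent
open Cfsg.Agent.GW (Cfg coreAt pairCore CentMax MaxStep)
open Cfsg.Agent.Components (pCoreIn)
open Cfsg.Agent.H62.GW (odd_orderOf_of_mem eq_one_of_odd)

universe u

variable {G : Type u} [Group G] [Finite G]

/-- An element of prime order `q` of `D` in a `O_q(O)` moved by `s`. -/
def MixedAt (l : ℕ) (c s : G) (q : ℕ) (y : G) : Prop :=
  q.Prime ∧ y ∈ pairCore (c ^ l) s ∧ y ∈ pCoreIn q (coreAt (c ^ l)) ∧ orderOf y = q ∧
    ∃ v ∈ pCoreIn q (coreAt (c ^ l)), ¬ Commute v s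

/-- An involution of `C(t)` inverts `O_q(O)` if it fixes none of its elements. -/
theorem inverted_of_no_fixed_core {t s : G} (hss : s * s = 1) (hst : Commute s t) {q : ℕ}
    (h0 : ∀ v ∈ pCoreIn q (coreAt t), Commute v s → v = 1) :
    ∀ v ∈ pCoreIn q (coreAt t), s * v * s⁻¹ = v⁻¹ := by
  set K := pCoreIn q (coreAt t) with hK
  let f : ↥K → ↥K := fun v => ⟨(v : G)⁻¹ * (s * (v : G) * s⁻¹),
    mul_mem (inv_mem v.2) (M2.pCoreIn_conj_mem hst v.2)⟩
  have hinj : Function.Injective f := by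
    intro a b hab
    have e : (a : G)⁻¹ * (s * (a : G) * s⁻¹) = (b : G)⁻¹ * (s * (b : G) * s⁻¹) :=
      congrArg Subtype.val hab
    have hc : Commute ((b : G) * (a : G)⁻¹) s := by
      refine Commute.symm (mul_inv_eq_iff_eq_mul.1 ?_)
      calc s * ((b : G) * (a : G)⁻¹) * s⁻¹ = (s * (b : G) * s⁻¹) * (s * (a : G) * s⁻¹)⁻¹ := by group
        _ = (b : G) * ((b : G)⁻¹ * (s * (b : G) * s⁻¹)) * (s * (a : G) * s⁻¹)⁻¹ := by group
        _ = (b : G) * ((a : G)⁻¹ * (s * (a : G) * s⁻¹)) * (s * (a : G) * s⁻¹)⁻¹ := by rw [e]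
        _ = (b : G) * (a : G)⁻¹ := by group
    exact Subtype.ext (mul_inv_eq_one.1 (h0 _ (mul_mem b.2 (inv_mem a.2)) hc)).symm
  intro x hx
  obtain ⟨⟨v, hv⟩, e⟩ := (Finite.injective_iff_surjective.1 hinj) ⟨x, hx⟩
  have e' : v⁻¹ * (s * v * s⁻¹) = x := congrArg Subtype.val e
  have hs' : s⁻¹ = s := inv_eq_of_mul_eq_one_right hss
  rw [← e']
  calc s * (v⁻¹ * (s * v * s⁻¹)) * s⁻¹ = s * v⁻¹ * s⁻¹ * ((s * s) * v * (s⁻¹ * s⁻¹)) := by group
    _ = (v⁻¹ * (s * v * s⁻¹))⁻¹ := by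
      rw [hss, show s⁻¹ * s⁻¹ = (1 : G) by rw [hs', hss]]; group

/-- If `s` does not act as `±1` on every `O_r(O)`, some `O_q(O)` is mixed. -/
theorem exists_mixedAt {S : Sylow 2 G} {l : ℕ} {c s : G} (h : Cfg S l c s)
    (hs : ¬ M2.ActsPM (c ^ l) s) : ∃ q y, MixedAt l c s q y := by
  simp only [M2.ActsPM, not_forall, not_or] at hs
  obtain ⟨q, hq, ⟨v, hv, hvs⟩, hw⟩ := hs
  have hss : s * s = 1 := H39.mul_self_of_orderOf_eq_two h.gen.os
  have hst : Commute s (c ^ l) := h.gen.z_central h.gen.mem_s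
  obtain ⟨w, hwK, hws, hw1⟩ : ∃ w ∈ pCoreIn q (coreAt (c ^ l)), Commute w s ∧ w ≠ 1 := by
    by_contra hne
    push Not at hne
    obtain ⟨x, hx, hxi⟩ := hw
    exact hxi (inverted_of_no_fixed_core hss hst hne x hx)
  have := Fact.mk hq
  have hdvd : q ∣ orderOf w := by
    have hp : IsPGroup q ↥(pCoreIn q (coreAt (c ^ l))) := Components.isPGroup_pCoreIn _
    obtain ⟨k, hk⟩ := hp ⟨w, hwK⟩
    have hk' : w ^ q ^ k = 1 := congrArg Subtype.val hk
    obtain ⟨j, -, hj⟩ := (Nat.dvd_prime_pow hq).1 (orderOf_dvd_of_pow_eq_one hk')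
    rcases j with _ | j
    · exact absurd (orderOf_eq_one_iff.1 (by simpa using hj)) hw1
    · exact ⟨q ^ j, by rw [hj, pow_succ]; ring⟩
  set y := w ^ (orderOf w / q)
  have hyo : orderOf y = q := orderOf_pow_orderOf_div (orderOf_pos w).ne' hdvd
  have hyK : y ∈ pCoreIn q (coreAt (c ^ l)) := pow_mem hwK _
  exact ⟨q, y, hq, ⟨H62.GW.pCoreAt_le _ _ hyK,
    mem_centralizer_singleton_iff.2 (hws.pow_left _).eq⟩, hyK, hyo, v, hv, hvs⟩

/-- **`MaxStep` from the mixed case.** -/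
theorem maxStep_of_mixed
    (hM3 : ∀ (S : Sylow 2 G) (l : ℕ) (c s : G), Cfg S l c s → CentMax l c →
      pairCore (c ^ l) s ≠ ⊥ → pairCore (c ^ l) (c * s) ≠ ⊥ →
      ∀ (q : ℕ) (y : G), MixedAt l c s q y → False) : MaxStep (G := G) := by
  intro S l c s h hmax hD hD'
  by_cases hs : M2.ActsPM (c ^ l) s
  · by_cases hcs : M2.ActsPM (c ^ l) (c * s)
    · exact M2.false_of_pure h hmax hD hs hcs H15.GW.linearCharStep
    · obtain ⟨q, y, hy⟩ := exists_mixedAt (H4.GW.cfg_swap h) hcs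
      have hccs : pairCore (c ^ l) (c * (c * s)) ≠ ⊥ := by
        obtain ⟨w, hw, hw'⟩ : ∃ w : G, Commute w (c ^ l) ∧ w * s * w⁻¹ = c * (c * s) := by
          refine ⟨c, (Commute.refl c).pow_right l, ?_⟩
          have h0 := h.gen.conj_reflection 0 1
          rw [zpow_zero, one_mul, zero_add, mul_one, zpow_one, zpow_two] at h0
          rw [h0, mul_assoc]
        obtain ⟨d, hd1⟩ := Subgroup.ne_bot_iff_exists_ne_one.1 hD
        intro e
        refine hd1 (Subtype.ext ?_)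
        have hmem : w * (d : G) * w⁻¹ ∈ pairCore (c ^ l) (c * (c * s)) := by
          refine ⟨H62.GW.conj_mem_coreAt hw d.2.1, mem_centralizer_singleton_iff.2 ?_⟩
          rw [← hw']
          have hc : Commute (d : G) s := mem_centralizer_singleton_iff.1 d.2.2
          exact (hc.map (MulAut.conj w).toMonoidHom).eq
        rw [e, mem_bot] at hmem
        exact conj_eq_one_iff.1 hmem
      exact hM3 S l c (c * s) (H4.GW.cfg_swap h) hmax hD' hccs q y hy
  · obtain ⟨q, y, hy⟩ := exists_mixedAt h hs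
    exact hM3 S l c s h hmax hD hD' q y hy

end Cfsg.Agent.H80.GW
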