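import Cfsg.Agent.H80.GW.MixedBoundBase

/-!
# GW programme, M3, piece BOUND: `m + 2 ≤ q` and `j ∈ {1, q}`

If `F ≤ N(E)` the count of conjugates in the elements of order `r ∣ |E|` gives `m ≤ r`.  Otherwise
`E ≤ P = O_q(O)` for one prime `q`, and with `Z = Z(P)`, `U = Z₂(P)`: either `U ∩ C(s) = 1` and the
inverted elements of `O` lie in a normal complement of `D` in `F(O)`, or `v ↦ [v, y]` gives `j = q`
and the count in `Ω₁(U)` gives `m ≤ q`.  Equality would make the inverted part of the counted group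
normal in `O`, and then `O = F(O) D`, `m = 1`.
-/

set_option autoImplicit false
set_option linter.unusedSectionVars false
set_option linter.style.haveILetI false

namespace Cfsg.Agent.H80.GW

open Subgroup Cfsg.Agent
open Cfsg.Agent.GW (Cfg coreAt pairCore CentMax)
open Cfsg.Agent.Components (pCoreIn fitIn)
open Cfsg.Agent.H62.GW (MixedData fixPart torusPart jNum mNum centreCore)

universe u

variable {G : Type u} [Group G] [Finite G]

/-- The preimage in `O_q(O)` of the centre of `O_q(O)` modulo its centre. -/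
def secondCore (q : ℕ) (t : G) : Subgroup G where
  carrier := {v | v ∈ pCoreIn q (coreAt t) ∧
    ∀ w ∈ pCoreIn q (coreAt t), v * w * v⁻¹ * w⁻¹ ∈ centreCore q t}
  one_mem' := ⟨one_mem _, fun w _ => by simp⟩
  mul_mem' := by
    rintro a b ⟨ha, ha'⟩ ⟨hb, hb'⟩
    refine ⟨mul_mem ha hb, fun w hw => ?_⟩
    have h : Commute a (b * w * b⁻¹ * w⁻¹) := (hb' w hw).2 a ha
    rw [show a * b * w * (a * b)⁻¹ * w⁻¹ =
      a * (b * w * b⁻¹ * w⁻¹) * a⁻¹ * (a * w * a⁻¹ * w⁻¹) by group, h.eq, mul_inv_cancel_right]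
    exact mul_mem (hb' w hw) (ha' w hw)
  inv_mem' := by
    rintro a ⟨ha, ha'⟩
    refine ⟨inv_mem ha, fun w hw => ?_⟩
    have h : Commute a⁻¹ (a * w * a⁻¹ * w⁻¹) := (ha' w hw).2 _ (inv_mem ha)
    rw [show a⁻¹ * w * a⁻¹⁻¹ * w⁻¹ = (a⁻¹ * (a * w * a⁻¹ * w⁻¹) * a⁻¹⁻¹)⁻¹ by group, h.eq,
      mul_inv_cancel_right]
    exact inv_mem (ha' w hw)

theorem centralizer_le_normalizer_secondCore (q : ℕ) (t : G) :
    centralizer ({t} : Set G) ≤ normalizer (secondCore q t : Set G) := fun g hg => by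
  have hP := H62.GW.centralizer_le_normalizer_pCoreAt t q
  refine M2.mem_normalizer_of_forall fun v hv => ⟨Coprime.conj_mem (hP hg) hv.1, fun w hw => ?_⟩
  have h := hv.2 _ (Coprime.conj_mem' (hP hg) hw)
  rw [show g * v * g⁻¹ * w * (g * v * g⁻¹)⁻¹ * w⁻¹ =
    g * (v * (g⁻¹ * w * g) * v⁻¹ * (g⁻¹ * w * g)⁻¹) * g⁻¹ by group]
  exact Coprime.conj_mem (H62.GW.centreCore_normal q t hg) h

theorem centreCore_le_secondCore (q : ℕ) (t : G) : centreCore q t ≤ secondCore q t :=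
  fun v hv => ⟨hv.1, fun w hw => by
    rw [← show w * v = v * w from hv.2 w hw, mul_inv_cancel_right, mul_inv_cancel]
    exact one_mem _⟩

variable {S : Sylow 2 G} {l : ℕ} {c s : G} {L : Subgroup G} (hM : MixedData S l c s L)
include hM

theorem odd_prime_fixed {q : ℕ} {e : G} (he : e ∈ fixPart (c ^ l) s) (heq : orderOf e = q) :
    Odd q :=
  heq ▸ odd_of_mem_core hM (H62.GW.fixPart_le_core _ _ he)

theorem fix_le_core {q : ℕ} [Fact q.Prime]
    (h : ∀ e ∈ fixPart (c ^ l) s, (orderOf e).Prime → orderOf e = q) :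
    fixPart (c ^ l) s ≤ pCoreIn q (coreAt (c ^ l)) := by
  intro e he
  refine mem_of_primeParts fun p hp y hy hyp => ?_
  obtain ⟨k, hk⟩ := hyp
  by_cases hy1 : y = 1
  · rw [hy1]; exact one_mem _
  have hyE : y ∈ fixPart (c ^ l) s := zpowers_le.2 he hy
  obtain ⟨n, hn⟩ := H62.GW.exists_prime_power hy1
  have hpq : p = q := by
    rw [← h _ (pow_mem hyE n) hn]
    exact ((Nat.prime_dvd_prime_iff_eq hn hp).1 (hn.dvd_of_dvd_pow
      ((orderOf_pow_dvd n).trans (orderOf_dvd_of_pow_eq_one hk)))).symm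
  subst hpq
  exact H62.GW.mem_pCoreIn_of_fitIn hyE.1 hk

/-- `O_r(O)` is inverted by `s` if it has no part of `E`. -/
theorem inverted_core {q r : ℕ} [Fact q.Prime] [Fact r.Prime] (hr : r ≠ q)
    (hEP : fixPart (c ^ l) s ≤ pCoreIn q (coreAt (c ^ l))) :
    ∀ w ∈ pCoreIn r (coreAt (c ^ l)), s * w * s⁻¹ = w⁻¹ :=
  H77.GW.inverts_of_fpf (s_mul_self hM)
    (H62.GW.centralizer_le_normalizer_pCoreAt _ r (s_mem_cent hM)) fun _ hw hsw =>
      eq_one_of_mem_pCores hr hw (hEP (fix_mem hM (H62.GW.pCoreIn_le_fitIn r _ hw) hsw.symm))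

/-- An inverted element centralises an inverted set that it stabilises. -/
theorem commute_inverted {i : G} (hi : i ∈ coreAt (c ^ l)) (hsi : s * i * s⁻¹ = i⁻¹) {v : G}
    (hv : s * v * s⁻¹ = v⁻¹) (hiv : s * (i * v * i⁻¹) * s⁻¹ = (i * v * i⁻¹)⁻¹) : Commute i v :=
  commute_of_inverted_conj (odd_of_mem_core hM hi) hsi hv hiv

/-- If the inverted part `J` of the counted group is normal in `O` then `m = 1`. -/
theorem mNum_eq_one_of_invariant {q : ℕ} [Fact q.Prime] {A J : Subgroup G} {y : G}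
    (hyA : y ∈ A) (hyE : y ∈ fixPart (c ^ l) s) (hy : orderOf y = q)
    (hAP : A ≤ pCoreIn q (coreAt (c ^ l)))
    (hEP : fixPart (c ^ l) s ≤ pCoreIn q (coreAt (c ^ l)))
    (hAn : centralizer ({c ^ l} : Set G) ≤ normalizer (A : Set G))
    (hfix : ∀ v ∈ A, Commute v s → v ∈ zpowers y)
    (hJ : ∀ v, v ∈ J ↔ v ∈ A ∧ s * v * s⁻¹ = v⁻¹)
    (hJn : ∀ o ∈ coreAt (c ^ l), ∀ v ∈ J, o * v * o⁻¹ ∈ J)
    (hTJ : ∀ k ∈ torusPart (c ^ l) L, k ∈ pCoreIn q (coreAt (c ^ l)) → k ^ q = 1 → k ∈ J) :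
    mNum (c ^ l) s = 1 := by
  set O := coreAt (c ^ l) with hO
  set P := pCoreIn q O with hP
  have hAO : A ≤ O := hAP.trans (H62.GW.pCoreAt_le _ q)
  have hJA : J ≤ A := fun v hv => ((hJ v).1 hv).1
  have hAO' : ∀ o ∈ O, ∀ v ∈ A, o * v * o⁻¹ ∈ A := fun o ho v hv =>
    Coprime.conj_mem (hAn (H62.GW.coreAt_le _ ho)) hv
  let K : Subgroup G :=
  { carrier := {o | o ∈ O ∧
      (∀ r : ℕ, r.Prime → r ≠ q → ∀ w ∈ pCoreIn r O, Commute o w) ∧
      (∀ v ∈ J, Commute o v) ∧ ∀ v ∈ A, o * v * o⁻¹ * v⁻¹ ∈ J}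
    one_mem' := ⟨one_mem _, fun _ _ _ w _ => Commute.one_left w, fun v _ => Commute.one_left v,
      fun v _ => by simp⟩
    mul_mem' := by
      rintro a b ⟨ha, ha₁, ha₂, ha₃⟩ ⟨hb, hb₁, hb₂, hb₃⟩
      refine ⟨mul_mem ha hb, fun r hr hrq w hw => (ha₁ r hr hrq w hw).mul_left (hb₁ r hr hrq w hw),
        fun v hv => (ha₂ v hv).mul_left (hb₂ v hv), fun v hv => ?_⟩
      rw [show a * b * v * (a * b)⁻¹ * v⁻¹ =
        a * (b * v * b⁻¹ * v⁻¹) * a⁻¹ * (a * v * a⁻¹ * v⁻¹) by group]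
      exact mul_mem (hJn a ha _ (hb₃ v hv)) (ha₃ v hv)
    inv_mem' := by
      rintro a ⟨ha, ha₁, ha₂, ha₃⟩
      refine ⟨inv_mem ha, fun r hr hrq w hw => (ha₁ r hr hrq w hw).inv_left,
        fun v hv => (ha₂ v hv).inv_left, fun v hv => ?_⟩
      rw [show a⁻¹ * v * a⁻¹⁻¹ * v⁻¹ = (a⁻¹ * (a * v * a⁻¹ * v⁻¹) * a⁻¹⁻¹)⁻¹ by group]
      exact inv_mem (hJn _ (inv_mem ha) _ (ha₃ v hv)) }
  have hKn : O ≤ normalizer (K : Set G) := fun o ho => M2.mem_normalizer_of_forall fun k hk => by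
    obtain ⟨hkO, hk₁, hk₂, hk₃⟩ := hk
    refine ⟨mul_mem (mul_mem ho hkO) (inv_mem ho), fun r hr hrq w hw => ?_, fun v hv => ?_,
      fun v hv => ?_⟩
    · have h := (Commute.conj_iff o).2 (hk₁ r hr hrq _ (Coprime.conj_mem
        (H62.GW.centralizer_le_normalizer_pCoreAt _ r (H62.GW.coreAt_le _ (inv_mem ho))) hw))
      rwa [show o * (o⁻¹ * w * o⁻¹⁻¹) * o⁻¹ = w by group] at h
    · have h := (Commute.conj_iff o).2 (hk₂ _ (hJn _ (inv_mem ho) v hv))
      rwa [show o * (o⁻¹ * v * o⁻¹⁻¹) * o⁻¹ = v by group] at h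
    · have h := hJn o ho _ (hk₃ _ (hAO' _ (inv_mem ho) v hv))
      rw [show o * k * o⁻¹ * v * (o * k * o⁻¹)⁻¹ * v⁻¹ = o * (k * (o⁻¹ * v * o⁻¹⁻¹) * k⁻¹ *
        (o⁻¹ * v * o⁻¹⁻¹)⁻¹) * o⁻¹ by group]
      exact h
  -- the inverted elements lie in `K`
  have hKi : ∀ i ∈ O, s * i * s⁻¹ = i⁻¹ → i ∈ K := by
    intro i hi hsi
    have h₁ : ∀ r : ℕ, r.Prime → r ≠ q → ∀ w ∈ pCoreIn r O, Commute i w := fun r hr hrq w hw => by
      haveI := Fact.mk hr
      exact commute_inverted hM hi hsi (inverted_core hM hrq hEP w hw) (inverted_core hM hrq hEP _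
        (Coprime.conj_mem (H62.GW.centralizer_le_normalizer_pCoreAt _ r
          (H62.GW.coreAt_le _ hi)) hw))
    have h₂ : ∀ v ∈ J, Commute i v := fun v hv =>
      commute_inverted hM hi hsi ((hJ v).1 hv).2 ((hJ _).1 (hJn i hi v hv)).2
    obtain ⟨j, hj, d, -, he, hsj, hds⟩ := decomp hM hAO hAn (hAO' i hi y hyA)
    have hjJ : j ∈ J := (hJ j).2 ⟨hj, hsj⟩
    have hd : s * d * s⁻¹ = d := by rw [← hds.eq, mul_inv_cancel_right]
    have hys : s * y * s⁻¹ = y := by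
      rw [← (H62.GW.commute_s_of_fix hyE).eq, mul_inv_cancel_right]
    have h4 : i⁻¹ * y * i = j⁻¹ * d := by
      calc i⁻¹ * y * i = (s * i * s⁻¹) * (s * y * s⁻¹) * (s * i * s⁻¹)⁻¹ := by
            rw [hsi, hys, inv_inv]
        _ = s * (i * y * i⁻¹) * s⁻¹ := by group
        _ = (s * j * s⁻¹) * (s * d * s⁻¹) := by rw [he]; group
        _ = _ := by rw [hsj, hd]
    have h5 : i * i * y * (i * i)⁻¹ * y⁻¹ ∈ J := by
      have h6 : i * i * y * (i * i)⁻¹ = j * j * y := by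
        calc i * i * y * (i * i)⁻¹ = i * (i * y * i⁻¹) * i⁻¹ := by group
          _ = i * (j * j * (i⁻¹ * y * i)) * i⁻¹ := by rw [he, h4]; group
          _ = (i * (j * j)) * i⁻¹ * y := by group
          _ = j * j * y := by rw [((h₂ j hjJ).mul_right (h₂ j hjJ)).eq, mul_inv_cancel_right]
      rw [h6, mul_inv_cancel_right]
      exact mul_mem hjJ hjJ
    have hiO : i * i ∈ O := mul_mem hi hi
    have h₃ : ∀ v ∈ A, i * i * v * (i * i)⁻¹ * v⁻¹ ∈ J := by
      let M : Subgroup G :=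
      { carrier := {v | v ∈ A ∧ i * i * v * (i * i)⁻¹ * v⁻¹ ∈ J}
        one_mem' := ⟨one_mem _, by simp⟩
        mul_mem' := by
          rintro a b ⟨ha, ha'⟩ ⟨hb, hb'⟩
          refine ⟨mul_mem ha hb, ?_⟩
          rw [show i * i * (a * b) * (i * i)⁻¹ * (a * b)⁻¹ = i * i * a * (i * i)⁻¹ * a⁻¹ *
            (a * (i * i * b * (i * i)⁻¹ * b⁻¹) * a⁻¹) by group]
          exact mul_mem ha' (hJn a (hAO ha) _ hb')
        inv_mem' := by
          rintro a ⟨ha, ha'⟩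
          refine ⟨inv_mem ha, ?_⟩
          rw [show i * i * a⁻¹ * (i * i)⁻¹ * a⁻¹⁻¹ =
            a⁻¹ * (i * i * a * (i * i)⁻¹ * a⁻¹)⁻¹ * a⁻¹⁻¹ by simp [mul_assoc]]
          exact hJn _ (inv_mem (hAO ha)) _ (inv_mem ha') }
      intro v hv
      obtain ⟨j', hj', d', hd', he', hsj', hds'⟩ := decomp hM hAO hAn hv
      have hj'' : j' ∈ J := (hJ j').2 ⟨hj', hsj'⟩
      have hjM : j' ∈ M := ⟨hj', by
        rw [((h₂ j' hj'').mul_left (h₂ j' hj'')).eq, mul_inv_cancel_right, mul_inv_cancel]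
        exact one_mem _⟩
      have hdM : d' ∈ M :=
        (zpowers_le.2 (show y ∈ M from ⟨hyA, h5⟩)) (hfix d' hd' hds')
      exact he' ▸ (mul_mem hjM hdM).2
    have hii : i * i ∈ K := ⟨hiO, fun r hr hrq w hw => (h₁ r hr hrq w hw).mul_left (h₁ r hr hrq w hw),
      fun v hv => (h₂ v hv).mul_left (h₂ v hv), h₃⟩
    obtain ⟨k, hk⟩ := H62.GW.sq_pow_self (odd_of_mem_core hM hi)
    exact hk ▸ pow_mem hii k
  -- the elements of `K` of order prime to `q` centralise `P`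
  have hy1 : y ≠ 1 := fun e => (Fact.out : q.Prime).ne_one (by rw [← hy, e, orderOf_one])
  have hcop : ∀ x ∈ K, (orderOf x).Coprime q → ∀ w ∈ P, Commute x w := by
    rintro x ⟨hx, -, hx₂, hx₃⟩ hxq
    have hxC := H62.GW.coreAt_le _ hx
    have hxP := H62.GW.centralizer_le_normalizer_pCoreAt (c ^ l) q hxC
    have hxy : Commute x y := by
      obtain ⟨k, hk⟩ := exists_pow_of_mem (hAP (hJA (hx₃ y hyA)))
      exact commute_of_coprime hxq hk (hx₂ _ (hx₃ y hyA))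
    have hU : ∀ v ∈ P, Commute v y →
        v ∈ fitIn O ∧ v ∈ normalizer (fixPart (c ^ l) s : Set G) := fun v hv hvy =>
      ⟨H62.GW.pCoreIn_le_fitIn q _ hv, mem_normalizer_of_commute hM
        (H62.GW.coreAt_le _ (H62.GW.pCoreAt_le _ q hv)) hyE hy1 hvy⟩
    have hbase : ∀ v ∈ P, Commute v y → v ^ q = 1 → Commute x v := by
      intro v hv hvy hvq
      obtain ⟨f, hf, k, hk, hkF, rfl⟩ := fit_norm hM (hU v hv hvy).1 (hU v hv hvy).2
      rw [(hM.commute_fix k hk.2 f hf).symm.mul_pow] at hvq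
      have hkq : k ^ q = 1 := eq_one_of_torus hM (pow_mem hk q) (by
        rw [eq_inv_of_mul_eq_one_right hvq]
        exact ((H62.GW.commute_s_of_fix hf).pow_left q).inv_left)
      rw [hkq, mul_one] at hvq
      haveI := hM.fix_cyclic
      obtain ⟨n, rfl⟩ := mem_zpowers_iff.1 (mem_zpowers_of_cyclic hyE hf hy hvq)
      exact (hxy.zpow_right n).mul_right (hx₂ k
        (hTJ k hk (H62.GW.mem_pCoreIn_of_fitIn hkF (k := 1) (by rwa [pow_one])) hkq))
    have hcent : ∀ k : ℕ, ∀ v ∈ P, Commute v y → v ^ q ^ k = 1 → Commute x v := by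
      intro k
      induction k with
      | zero =>
        intro v _ _ hv
        rw [pow_zero, pow_one] at hv
        rw [hv]; exact Commute.one_right x
      | succ k ih =>
        intro v hv hvy hvk
        have h1 : Commute x (v ^ q) :=
          ih _ (pow_mem hv q) (hvy.pow_left q) (by rw [← pow_mul, ← pow_succ']; exact hvk)
        have hv' : x * v * x⁻¹ ∈ P := Coprime.conj_mem hxP hv
        have hv'y : Commute (x * v * x⁻¹) y := by
          have h := (Commute.conj_iff x).2 hvy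
          rwa [hxy.eq, mul_inv_cancel_right] at h
        have hcomm : Commute (x * v * x⁻¹) v := commute_fit_norm hM (hU _ hv' hv'y).1
          (hU _ hv' hv'y).2 (hU v hv hvy).1 (hU v hv hvy).2
        have hdq : (x * v * x⁻¹ * v⁻¹) ^ q = 1 := by
          rw [hcomm.inv_right.mul_pow, conj_pow, h1.eq, mul_inv_cancel_right, inv_pow,
            mul_inv_cancel]
        exact commute_of_coprime (k := 1) hxq (by rwa [pow_one])
          (hbase _ (mul_mem hv' (inv_mem hv)) (hv'y.mul_left hvy.inv_left) hdq)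
    have hQ : (Nat.card ↥(zpowers x)).Coprime q := by rwa [Nat.card_zpowers]
    have hle : zpowers x ≤ centralizer (P : Set G) := by
      refine Coprime.thompson_AxB
        (IsPGroup.of_card (n := 1) (by rw [Nat.card_zpowers, hy, pow_one]) : IsPGroup q (zpowers y))
        hQ (zpowers_le.2 (mem_centralizer_iff.2 fun z hz => ?_)) _ (Components.isPGroup_pCoreIn _)
        (zpowers_le.2 (H62.GW.centralizer_le_normalizer_pCoreAt _ q
          (H62.GW.coreAt_le _ (hAO hyA)))) (zpowers_le.2 hxP) ?_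
      · obtain ⟨n, rfl⟩ := mem_zpowers_iff.1 hz
        exact (hxy.zpow_left n).eq
      · rintro v ⟨hv, hvy⟩
        obtain ⟨k, hk⟩ := exists_pow_of_mem hv
        have h := hcent k v hv
          (show Commute v y from (mem_centralizer_iff.1 hvy y (mem_zpowers y)).symm) hk
        refine mem_centralizer_iff.2 fun z hz => ?_
        obtain ⟨n, rfl⟩ := mem_zpowers_iff.1 hz
        exact (h.zpow_left n).eq
    exact fun w hw => (mem_centralizer_iff.1 (hle (mem_zpowers x)) w hw).symm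
  have hKF : K ≤ fitIn O :=
    le_fitIn_of_central (fun x hx => hx.1) hKn (fun x hx => hx.2.1) hcop
  exact mNum_eq_one_of_inverted hM fun i hi hsi => hKF (hKi i hi hsi)

/-- The count in the elements of order `r` of an abelian `F`. -/
theorem bound_of_normal
    (hFN : fitIn (coreAt (c ^ l)) ≤ normalizer (fixPart (c ^ l) s : Set G))
    {r : ℕ} [Fact r.Prime] {e : G} (he : e ∈ fixPart (c ^ l) s) (her : orderOf e = r) :
    mNum (c ^ l) s ≤ r ∧
      (mNum (c ^ l) s = r → fixPart (c ^ l) s ≤ pCoreIn r (coreAt (c ^ l)) →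
        mNum (c ^ l) s = 1) := by
  set F₁ := fitIn (coreAt (c ^ l)) with hF
  have hj : jNum (c ^ l) s = 1 := relIndex_eq_one.2 (le_inf le_rfl hFN)
  have hab : ∀ u ∈ F₁, ∀ v ∈ F₁, Commute u v := fun u hu v hv =>
    commute_fit_norm hM hu (hFN hu) hv (hFN hv)
  let A := expPart F₁ r fun u hu v hv h1 h2 => by rw [(hab u hu v hv).mul_pow, h1, h2, one_mul]
  have hAn : centralizer ({c ^ l} : Set G) ≤ normalizer (A : Set G) := fun g hg =>
    M2.mem_normalizer_of_forall fun v hv => ⟨H62.GW.conj_mem_fit hg hv.1, by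
      rw [conj_pow, hv.2, mul_one, mul_inv_cancel]⟩
  have hyA : e ∈ A := ⟨he.1, her ▸ pow_orderOf_eq_one e⟩
  have hAP : A ≤ pCoreIn r (coreAt (c ^ l)) := fun v hv =>
    H62.GW.mem_pCoreIn_of_fitIn hv.1 (k := 1) (by rw [pow_one]; exact hv.2)
  have he1 : e ≠ 1 := fun h => (Fact.out : r.Prime).ne_one (by rw [← her, h, orderOf_one])
  have hfix : ∀ v ∈ A, Commute v s → v ∈ zpowers e := fun v hv hvs => by
    haveI := hM.fix_cyclic
    exact mem_zpowers_of_cyclic he (fix_mem hM hv.1 hvs) her hv.2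
  have hJ : ∀ v, v ∈ A ⊓ torusPart (c ^ l) L ↔ v ∈ A ∧ s * v * s⁻¹ = v⁻¹ := fun v =>
    ⟨fun hv => ⟨hv.1, hM.torus_inverted v hv.2⟩, fun hv => ⟨hv.1,
      hM.mem_torus v (map_subtype_le _ hv.1.1) hv.2 e he he1 (hab v hv.1.1 e he.1)⟩⟩
  have h := orbit_bound hM (hAP.trans (H62.GW.pCoreAt_le _ r)) hAn hyA he her hfix hJ
  rw [hj, one_mul] at h
  haveI := hM.torus_cyclic
  have hcard : Nat.card ↥(A ⊓ torusPart (c ^ l) L) ≤ r :=
    Nat.le_of_dvd (Fact.out : r.Prime).pos (card_dvd_of_cyclic inf_le_right fun v hv => hv.1.2)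
  refine ⟨h.1.trans hcard, fun hm hEP => ?_⟩
  refine mNum_eq_one_of_invariant hM hyA he her hAP hEP hAn hfix hJ
    (h.2 (le_antisymm h.1 (hcard.trans hm.ge))) fun k hk hkP hkr =>
      ⟨⟨H62.GW.pCoreIn_le_fitIn r _ hkP, hkr⟩, hk⟩

/-- `Z(O_q(O))` is inverted, in the torus. -/
theorem centre_facts {q : ℕ} [Fact q.Prime] {y : G} (hyE : y ∈ fixPart (c ^ l) s)
    (hy : orderOf y = q) (hyP : y ∈ pCoreIn q (coreAt (c ^ l)))
    (hPN : ¬ pCoreIn q (coreAt (c ^ l)) ≤ normalizer (fixPart (c ^ l) s : Set G)) :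
    (∀ v ∈ centreCore q (c ^ l), Commute v s → v = 1) ∧
      centreCore q (c ^ l) ≤ torusPart (c ^ l) L := by
  have h1 : ∀ v ∈ centreCore q (c ^ l), Commute v s → v = 1 := fun v hv hvs => by
    by_contra hv1
    exact hPN fun w hw => mem_normalizer_of_commute hM
      (H62.GW.coreAt_le _ (H62.GW.pCoreAt_le _ q hw))
      (fix_mem hM (H62.GW.pCoreIn_le_fitIn q _ hv.1) hvs) hv1 (hv.2 w hw)
  refine ⟨h1, fun v hv => hM.mem_torus v (H62.GW.pCoreAt_le _ q hv.1) ?_ y hyE ?_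
    (hv.2 y hyP).symm⟩
  · exact H77.GW.inverts_of_fpf (s_mul_self hM) (H62.GW.centreCore_normal q _ (s_mem_cent hM))
      (fun w hw hsw => h1 w hw hsw.symm) v hv
  · exact fun h => (Fact.out : q.Prime).ne_one (by rw [← hy, h, orderOf_one])

/-- If `Z₂(P)` has no fixed element, the inverted elements form a normal complement of `D`. -/
theorem complement_of_free {q : ℕ} [Fact q.Prime] {y : G} (hyE : y ∈ fixPart (c ^ l) s)
    (hy : orderOf y = q) (hEP : fixPart (c ^ l) s ≤ pCoreIn q (coreAt (c ^ l)))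
    (hPN : ¬ pCoreIn q (coreAt (c ^ l)) ≤ normalizer (fixPart (c ^ l) s : Set G))
    (hU : ∀ v ∈ secondCore q (c ^ l), Commute v s → v = 1) :
    mNum (c ^ l) s = 1 ∧ ∃ B : Subgroup G, B ≤ coreAt (c ^ l) ∧
      centralizer ({c ^ l} : Set G) ≤ normalizer (B : Set G) ∧
      B ⊓ pairCore (c ^ l) s = ⊥ ∧ B ⊔ pairCore (c ^ l) s = coreAt (c ^ l) := by
  set O := coreAt (c ^ l) with hO
  set P := pCoreIn q O with hP
  set U := secondCore q (c ^ l) with hU'
  have hPn := H62.GW.centralizer_le_normalizer_pCoreAt (c ^ l) q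
  have hUn := centralizer_le_normalizer_secondCore q (c ^ l)
  have hPO : P ≤ O := H62.GW.pCoreAt_le _ q
  have hy1 : y ≠ 1 := fun h => (Fact.out : q.Prime).ne_one (by rw [← hy, h, orderOf_one])
  have hUinv : ∀ v ∈ U, s * v * s⁻¹ = v⁻¹ :=
    H77.GW.inverts_of_fpf (s_mul_self hM) (hUn (s_mem_cent hM)) fun v hv hsv => hU v hv hsv.symm
  have habel : ∀ {V : Subgroup G}, (∀ v ∈ V, s * v * s⁻¹ = v⁻¹) →
      ∀ u ∈ V, ∀ v ∈ V, Commute u v := fun {V} h u hu v hv => by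
    have h1 := h _ (mul_mem hu hv)
    rw [← conj_mul, h u hu, h v hv] at h1
    have h2 := congrArg Inv.inv h1
    rw [inv_inv, mul_inv_rev, inv_inv, inv_inv] at h2
    exact h2.symm
  set B₀ := P ⊓ centralizer (U : Set G) with hB₀
  have hUB : U ≤ B₀ := fun v hv => ⟨hv.1, fun w hw => habel hUinv w hw v hv⟩
  have hBn : centralizer ({c ^ l} : Set G) ≤ normalizer (B₀ : Set G) := fun g hg =>
    M2.mem_normalizer_of_forall fun v hv => ⟨Coprime.conj_mem (hPn hg) hv.1, fun w hw => by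
      have h : Commute (g⁻¹ * w * g) v := hv.2 _ (Coprime.conj_mem' (hUn hg) hw)
      have h' := (Commute.conj_iff g).2 h
      rw [show g * (g⁻¹ * w * g) * g⁻¹ = w by group] at h'
      exact h'⟩
  have hUi : ∀ i ∈ O, s * i * s⁻¹ = i⁻¹ → ∀ u ∈ U, Commute i u := fun i hi hsi u hu =>
    commute_inverted hM hi hsi (hUinv u hu)
      (hUinv _ (Coprime.conj_mem (hUn (H62.GW.coreAt_le _ hi)) hu))
  have hBfix : ∀ v ∈ B₀, Commute v s → v = 1 := by
    intro v hv hvs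
    by_contra hv1
    have hvE := fix_mem hM (H62.GW.pCoreIn_le_fitIn q _ hv.1) hvs
    have hUT : U ≤ torusPart (c ^ l) L := fun u hu =>
      hM.mem_torus u (hPO hu.1) (hUinv u hu) v hvE hv1 (hv.2 u hu)
    have hUP : ∀ w ∈ P, ∀ u ∈ U, Commute w u := by
      intro w hw u hu
      obtain ⟨i, hi, d, hd, rfl, hsi, hds⟩ := decomp hM hPO hPn hw
      exact (hUi i (hPO hi) hsi u hu).mul_left
        (hM.commute_fix u (hUT hu).2 d (fix_mem hM (H62.GW.pCoreIn_le_fitIn q _ hd) hds)).symm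
    have hcen : center ↥P = ⊤ := by
      by_contra hne
      haveI : Nontrivial (↥P ⧸ center ↥P) := QuotientGroup.nontrivial_iff.2 hne
      haveI : Group.IsNilpotent ↥P :=
        (Components.isPGroup_pCoreIn (p := q) O).isNilpotent
      obtain ⟨z, hz, hz1⟩ := (Subgroup.bot_or_exists_ne_one _).resolve_left
        (Group.IsNilpotent.center_ne_bot (↥P ⧸ center ↥P))
      obtain ⟨x, rfl⟩ := QuotientGroup.mk_surjective z
      refine hz1 ((QuotientGroup.eq_one_iff x).2 (mem_center_iff.2 fun g => Subtype.ext ?_))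
      refine hUP g g.2 x ⟨x.2, fun w hw => ?_⟩
      have h1 : x * ⟨w, hw⟩ * x⁻¹ * ⟨w, hw⟩⁻¹ ∈ center ↥P := by
        rw [← QuotientGroup.eq_one_iff]
        simp only [QuotientGroup.mk_mul, QuotientGroup.mk_inv]
        rw [← mem_center_iff.1 hz, mul_inv_cancel_right, mul_inv_cancel]
      exact ⟨(x * (⟨w, hw⟩ : ↥P) * x⁻¹ * (⟨w, hw⟩ : ↥P)⁻¹).2,
        fun p hp => congrArg Subtype.val (mem_center_iff.1 h1 ⟨p, hp⟩)⟩
    refine hPN fun w hw => mem_normalizer_of_commute hM (H62.GW.coreAt_le _ (hPO hw)) hyE hy1 ?_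
    exact congrArg Subtype.val
      (mem_center_iff.1 (hcen ▸ mem_top (⟨y, hEP hyE⟩ : ↥P)) ⟨w, hw⟩)
  have hBinv : ∀ v ∈ B₀, s * v * s⁻¹ = v⁻¹ :=
    H77.GW.inverts_of_fpf (s_mul_self hM) (hBn (s_mem_cent hM)) fun v hv hsv => hBfix v hv hsv.symm
  let W : Set G := {w | w ∈ B₀ ∨ ∃ r : ℕ, r.Prime ∧ r ≠ q ∧ w ∈ pCoreIn r O}
  set K := O ⊓ centralizer W with hK
  have hKn : centralizer ({c ^ l} : Set G) ≤ normalizer (K : Set G) := fun g hg =>
    M2.mem_normalizer_of_forall fun k hk =>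
      ⟨Coprime.conj_mem (H62.GW.centralizer_le_normalizer_coreAt _ hg) hk.1, fun w hw => by
        have hw' : g⁻¹ * w * g ∈ W := by
          rcases hw with h | ⟨r, hr, hrq, h⟩
          · exact Or.inl (Coprime.conj_mem' (hBn hg) h)
          · exact Or.inr ⟨r, hr, hrq,
              Coprime.conj_mem' (H62.GW.centralizer_le_normalizer_pCoreAt _ r hg) h⟩
        have h' := (Commute.conj_iff g).2 (show Commute (g⁻¹ * w * g) k from hk.2 _ hw')
        rw [show g * (g⁻¹ * w * g) * g⁻¹ = w by group] at h'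
        exact h'⟩
  have hKi : ∀ i ∈ O, s * i * s⁻¹ = i⁻¹ → i ∈ K := fun i hi hsi => ⟨hi, fun w hw => by
    have hin := H62.GW.coreAt_le _ hi
    rcases hw with h | ⟨r, hr, hrq, h⟩
    · exact (commute_inverted hM hi hsi (hBinv w h)
        (hBinv _ (Coprime.conj_mem (hBn hin) h))).symm
    · haveI := Fact.mk hr
      exact (commute_inverted hM hi hsi (inverted_core hM hrq hEP w h) (inverted_core hM hrq hEP _
        (Coprime.conj_mem (H62.GW.centralizer_le_normalizer_pCoreAt _ r hin) h))).symm⟩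
  have hKB : ∀ v ∈ P, v ∈ K → v ∈ B₀ := fun v hv hvK =>
    ⟨hv, fun u hu => hvK.2 u (Or.inl (hUB hu))⟩
  have hKF : K ≤ fitIn O := by
    refine le_fitIn_of_central inf_le_left ((H62.GW.coreAt_le _).trans hKn)
      (fun x hx r hr hrq w hw => (hx.2 w (Or.inr ⟨r, hr, hrq, hw⟩)).symm) fun x hx hxq p hp => ?_
    have hxC := H62.GW.coreAt_le _ hx.1
    have hdP : x * p * x⁻¹ * p⁻¹ ∈ P := mul_mem (Coprime.conj_mem (hPn hxC) hp) (inv_mem hp)
    have hdK : x * p * x⁻¹ * p⁻¹ ∈ K := by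
      rw [show x * p * x⁻¹ * p⁻¹ = x * (p * x⁻¹ * p⁻¹) by group]
      exact mul_mem hx (Coprime.conj_mem (hKn (H62.GW.coreAt_le _ (hPO hp))) (inv_mem hx))
    obtain ⟨k, hk⟩ := exists_pow_of_mem hdP
    exact commute_of_coprime hxq hk
      (show Commute x _ from (hx.2 _ (Or.inl (hKB _ hdP hdK))).symm)
  refine ⟨mNum_eq_one_of_inverted hM fun i hi hsi => hKF (hKi i hi hsi), K, inf_le_left, hKn,
    eq_bot_iff.2 fun v hv => ?_, le_antisymm (sup_le inf_le_left inf_le_left) fun o ho => ?_⟩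
  · have hvs : Commute v s := mem_centralizer_singleton_iff.1 hv.2.2
    have hvP : v ∈ P := hEP (fix_mem hM (hKF hv.1) hvs)
    exact (mem_bot (G := G)).2 (hBfix v (hKB v hvP hv.1) hvs)
  · obtain ⟨i, hi, d, hd, rfl, hsi⟩ := decomp_core hM ho
    exact mul_mem_sup (hKi i hi hsi) hd

/-- If `Z₂(P)` has a fixed element of order `q` then `j = q` and `m + 2 ≤ q`. -/
theorem bound_of_fixed {q : ℕ} [Fact q.Prime] {y : G} (hyE : y ∈ fixPart (c ^ l) s)
    (hy : orderOf y = q) (hEP : fixPart (c ^ l) s ≤ pCoreIn q (coreAt (c ^ l)))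
    (hPN : ¬ pCoreIn q (coreAt (c ^ l)) ≤ normalizer (fixPart (c ^ l) s : Set G))
    (hyU : y ∈ secondCore q (c ^ l)) :
    mNum (c ^ l) s + 2 ≤ q ∧ jNum (c ^ l) s = q := by
  set O := coreAt (c ^ l) with hO
  set P := pCoreIn q O with hP
  set Z := centreCore q (c ^ l) with hZ'
  set N := normalizer (fixPart (c ^ l) s : Set G) with hN
  have hq := (Fact.out : q.Prime)
  obtain ⟨hZfix, hZT⟩ := centre_facts hM hyE hy (hEP hyE) hPN
  have hy1 : y ≠ 1 := fun h => hq.ne_one (by rw [← hy, h, orderOf_one])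
  have hyq : y ^ q = 1 := hy ▸ pow_orderOf_eq_one y
  haveI := hM.torus_cyclic
  haveI := hM.fix_cyclic
  -- `v ↦ [v, y]`
  let Sy : Subgroup G :=
  { carrier := {v | (∀ z ∈ Z, Commute v z) ∧ v * y * v⁻¹ * y⁻¹ ∈ Z}
    one_mem' := ⟨fun z _ => Commute.one_left z, by simp⟩
    mul_mem' := by
      rintro a b ⟨ha, ha'⟩ ⟨hb, hb'⟩
      refine ⟨fun z hz => (ha z hz).mul_left (hb z hz), ?_⟩
      rw [show a * b * y * (a * b)⁻¹ * y⁻¹ =
        a * (b * y * b⁻¹ * y⁻¹) * a⁻¹ * (a * y * a⁻¹ * y⁻¹) by group, (ha _ hb').eq,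
        mul_inv_cancel_right]
      exact mul_mem hb' ha'
    inv_mem' := by
      rintro a ⟨ha, ha'⟩
      refine ⟨fun z hz => (ha z hz).inv_left, ?_⟩
      rw [show a⁻¹ * y * a⁻¹⁻¹ * y⁻¹ = (a⁻¹ * (a * y * a⁻¹ * y⁻¹) * a⁻¹⁻¹)⁻¹ by group,
        (ha _ ha').inv_left.eq, mul_inv_cancel_right]
      exact inv_mem ha' }
  have hFS : ∀ v ∈ fitIn O, v ∈ Sy := by
    have hle : fitIn O ≤ Sy := by
      show (Cfsg.fittingSubgroup ↥O).map O.subtype ≤ Sy
      rw [Components.fitting_eq_iSup_pCore, Subgroup.map_iSup]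
      refine iSup_le fun p v hv => ?_
      have hv' : v ∈ pCoreIn (p : ℕ) O := hv
      haveI := Fact.mk (Nat.prime_of_mem_primeFactors p.2)
      by_cases hpq : (p : ℕ) = q
      · rw [hpq] at hv'
        refine ⟨fun z hz => hz.2 v hv', ?_⟩
        have h := inv_mem (hyU.2 v hv')
        rwa [show (y * v * y⁻¹ * v⁻¹)⁻¹ = v * y * v⁻¹ * y⁻¹ by group] at h
      · refine ⟨fun z hz => H77.GW.commute_cross hpq hv' (H62.GW.pCoreAt_le _ _ hv') hz.1
          (H62.GW.pCoreAt_le _ _ hz.1), ?_⟩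
        rw [(H77.GW.commute_cross hpq hv' (H62.GW.pCoreAt_le _ _ hv') (hEP hyE)
          (H62.GW.pCoreAt_le _ _ (hEP hyE))).eq, mul_inv_cancel_right, mul_inv_cancel]
        exact one_mem _
    exact fun v hv => hle hv
  let φ : ↥(fitIn O) →* G :=
    MonoidHom.mk' (fun v => (v : G) * y * (v : G)⁻¹ * y⁻¹) fun a b => by
      have ha := hFS a a.2
      have hb := hFS b b.2
      show (a : G) * b * y * ((a : G) * b)⁻¹ * y⁻¹ = _
      rw [show (a : G) * b * y * ((a : G) * b)⁻¹ * y⁻¹ = (a : G) * ((b : G) * y * (b : G)⁻¹ * y⁻¹) *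
        (a : G)⁻¹ * ((a : G) * y * (a : G)⁻¹ * y⁻¹) by group, (ha.1 _ hb.2).eq,
        mul_inv_cancel_right]
      exact (hb.2.2 _ ha.2.1).symm
  have hφZ : ∀ v, φ v ∈ Z := fun v => (hFS v v.2).2
  have hφq : ∀ v, φ v ^ q = 1 := fun v => by
    set z := φ v with hz
    have hzy : Commute z y := ((hφZ v).2 y (hEP hyE)).symm
    have h1 : z * y = (v : G) * y * (v : G)⁻¹ := inv_mul_cancel_right _ y
    have h2 : (z * y) ^ q = 1 := by rw [h1, conj_pow, hyq, mul_one, mul_inv_cancel]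
    rwa [hzy.mul_pow, hyq, mul_one] at h2
  have hφ1 : ∀ v : ↥(fitIn O), φ v = 1 ↔ Commute (v : G) y := fun v =>
    ⟨fun h => mul_inv_eq_iff_eq_mul.1 (mul_inv_eq_one.1 h), fun h => by
      show (v : G) * y * (v : G)⁻¹ * y⁻¹ = 1
      rw [h.eq, mul_inv_cancel_right, mul_inv_cancel]⟩
  have hker : (fitIn O ⊓ N).subgroupOf (fitIn O) = φ.ker := by
    ext v
    rw [MonoidHom.mem_ker, hφ1, mem_subgroupOf]
    refine ⟨fun h => commute_fit_norm hM v.2 h.2 hyE.1 (le_normalizer hyE), fun h => ⟨v.2, ?_⟩⟩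
    exact mem_normalizer_of_commute hM (H62.GW.coreAt_le _ (map_subtype_le _ v.2)) hyE hy1 h
  have hjr : jNum (c ^ l) s = Nat.card ↥φ.range := by
    rw [jNum, relIndex, hker, Subgroup.index_ker]
  have hrT : φ.range ≤ torusPart (c ^ l) L := by
    rintro _ ⟨v, rfl⟩
    exact hZT (hφZ v)
  have hrq : ∀ z ∈ φ.range, z ^ q = 1 := by
    rintro _ ⟨v, rfl⟩
    exact hφq v
  have hj : jNum (c ^ l) s = q := by
    rcases (Nat.dvd_prime hq).1 (card_dvd_of_cyclic hrT hrq) with h | h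
    · refine absurd ((relIndex_eq_one.1 (hjr.trans h)).trans inf_le_right) fun hle => ?_
      exact hPN ((H62.GW.pCoreIn_le_fitIn q _).trans hle)
    · exact hjr.trans h
  -- the `q`-torsion of the torus is in `Z`
  have hTZ : ∀ k ∈ torusPart (c ^ l) L, k ^ q = 1 → k ∈ Z := fun k hk hkq => by
    let H := expPart (torusPart (c ^ l) L) q fun u hu v hv h1 h2 => by
      rw [(commute_of_cyclic hu hv).mul_pow, h1, h2, one_mul]
    have hle : φ.range ≤ H := fun z hz => ⟨hrT hz, hrq z hz⟩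
    have hc : Nat.card ↥H ≤ Nat.card ↥φ.range := by
      rw [← hjr, hj]
      exact Nat.le_of_dvd hq.pos
        (card_dvd_of_cyclic (T := torusPart (c ^ l) L) (H := H) (fun _ h => h.1) fun _ h => h.2)
    obtain ⟨v, hv⟩ := (Subgroup.eq_of_le_of_card_ge hle hc).ge (⟨hk, hkq⟩ : k ∈ H)
    exact hv ▸ hφZ v
  -- the counted group
  set U := secondCore q (c ^ l) with hU
  have hUn := centralizer_le_normalizer_secondCore q (c ^ l)
  have hq2 : 2 < q := by
    obtain ⟨n, hn⟩ := odd_prime_fixed hM hyE hy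
    have := hq.two_le
    omega
  have hUexp : ∀ u ∈ U, ∀ v ∈ U, u ^ q = 1 → v ^ q = 1 → (u * v) ^ q = 1 := by
    intro u hu v hv h1 h2
    set z := v * u * v⁻¹ * u⁻¹ with hz
    have hzZ : z ∈ Z := hv.2 u hu.1
    have hzu : Commute z u := (hzZ.2 u hu.1).symm
    have hzv : Commute z v := (hzZ.2 v hv.1).symm
    have hvu : v * u = z * (u * v) := by rw [hz]; group
    have hzq : z ^ q = 1 := by
      have h3 : (z * u) ^ q = 1 := by
        rw [show z * u = v * u * v⁻¹ by rw [hz, inv_mul_cancel_right], conj_pow, h1, mul_one,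
          mul_inv_cancel]
      rwa [hzu.mul_pow, h1, mul_one] at h3
    obtain ⟨n, hn⟩ := hq.dvd_choose_self (by norm_num : 2 ≠ 0) hq2
    rw [mul_pow_class_two hzu hzv hvu, hn, pow_mul, hzq, one_pow, one_mul, h1, h2, one_mul]
  let A := expPart U q hUexp
  have hAP : A ≤ P := fun v hv => hv.1.1
  have hAn : centralizer ({c ^ l} : Set G) ≤ normalizer (A : Set G) := fun g hg =>
    M2.mem_normalizer_of_forall fun v hv => ⟨Coprime.conj_mem (hUn hg) hv.1, by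
      rw [conj_pow, hv.2, mul_one, mul_inv_cancel]⟩
  have hyA : y ∈ A := ⟨hyU, hyq⟩
  have hfix : ∀ v ∈ A, Commute v s → v ∈ zpowers y := fun v hv hvs =>
    mem_zpowers_of_cyclic hyE (fix_mem hM (H62.GW.pCoreIn_le_fitIn q _ (hAP hv)) hvs) hy hv.2
  have hcomm : ∀ u ∈ A, ∀ v ∈ A, s * u * s⁻¹ = u⁻¹ → s * v * s⁻¹ = v⁻¹ → Commute u v := by
    intro u hu v hv hsu hsv
    set z := u * v * u⁻¹ * v⁻¹ with hz
    have hzZ : z ∈ Z := hu.1.2 v (hAP hv)
    have hzu : Commute u z := hzZ.2 u (hAP hu)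
    have hzv : Commute v z := hzZ.2 v (hAP hv)
    have hsz : s * z * s⁻¹ = z := by
      calc s * z * s⁻¹ = (s * u * s⁻¹) * (s * v * s⁻¹) * (s * u * s⁻¹)⁻¹ * (s * v * s⁻¹)⁻¹ := by
            rw [hz]; group
        _ = u⁻¹ * v⁻¹ * (z * (v * u)) := by rw [hsu, hsv, inv_inv, inv_inv, hz]; group
        _ = u⁻¹ * v⁻¹ * (v * u * z) := by rw [(hzv.mul_left hzu).symm.eq]
        _ = z := by group
    have h1 : z = 1 := hZfix z hzZ (mul_inv_eq_iff_eq_mul.1 hsz).symm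
    exact mul_inv_eq_iff_eq_mul.1 (mul_inv_eq_one.1 (hz ▸ h1))
  let J : Subgroup G :=
  { carrier := {v | v ∈ A ∧ s * v * s⁻¹ = v⁻¹}
    one_mem' := ⟨one_mem _, by simp⟩
    mul_mem' := fun {a b} ha hb => ⟨mul_mem ha.1 hb.1, by
      rw [← conj_mul, ha.2, hb.2, mul_inv_rev]
      exact (hcomm a ha.1 b hb.1 ha.2 hb.2).inv_inv.eq⟩
    inv_mem' := fun {a} ha => ⟨inv_mem ha.1, by rw [← conj_inv, ha.2]⟩ }
  have hJF : J ≤ fitIn O := fun v hv => H62.GW.pCoreIn_le_fitIn q _ (hAP hv.1)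
  have hcard : Nat.card ↥J ≤ q * q := by
    let ψ := φ.comp (Subgroup.inclusion hJF)
    rw [← ψ.ker.card_mul_index, Subgroup.index_ker]
    refine Nat.mul_le_mul ?_ ?_
    · rw [← Subgroup.card_map_of_injective J.subtype_injective]
      refine Nat.le_of_dvd hq.pos (card_dvd_of_cyclic (T := torusPart (c ^ l) L) ?_ ?_)
      · rintro _ ⟨v, hv, rfl⟩
        exact hM.mem_torus v (H62.GW.pCoreAt_le _ q (hAP v.2.1)) v.2.2 y hyE hy1
          ((hφ1 _).1 (MonoidHom.mem_ker.1 hv))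
      · rintro _ ⟨v, -, rfl⟩
        exact v.2.1.2
    · refine le_trans ?_ (hjr.symm.trans hj).le
      exact Subgroup.card_le_of_le (by rintro _ ⟨v, rfl⟩; exact ⟨_, rfl⟩)
  have h := orbit_bound hM (hAP.trans (H62.GW.pCoreAt_le _ q)) hAn hyA hyE hy hfix
    (J := J) fun v => Iff.rfl
  rw [hj] at h
  refine ⟨?_, hj⟩
  have hle : mNum (c ^ l) s ≤ q := Nat.le_of_mul_le_mul_left (h.1.trans hcard) hq.pos
  have hne : mNum (c ^ l) s ≠ q := fun he => by
    have hJn := h.2 (le_antisymm h.1 (hcard.trans (le_of_eq (by rw [he]))))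
    have := mNum_eq_one_of_invariant hM hyA hyE hy hAP hEP hAn hfix (J := J) (fun v => Iff.rfl) hJn
      fun k hk _ hkq => ⟨⟨centreCore_le_secondCore q _ (hTZ k hk hkq), hkq⟩,
        hM.torus_inverted k hk⟩
    have := hq.two_le
    omega
  obtain ⟨a, ha⟩ := odd_mNum hM
  obtain ⟨b, hb⟩ := odd_prime_fixed hM hyE hy
  omega

/-- `j ∈ {1, q}` (or the inverted elements form a complement of `D`) and `m + 2 ≤ q` for a prime
`q ∣ |E|`. -/
theorem exists_bound :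
    ∃ q, q.Prime ∧ q ∣ Nat.card ↥(fitIn (coreAt (c ^ l))) ∧
      (∃ e ∈ fixPart (c ^ l) s, orderOf e = q) ∧ mNum (c ^ l) s + 2 ≤ q ∧
      (jNum (c ^ l) s = 1 ∨ jNum (c ^ l) s = q ∨ (mNum (c ^ l) s = 1 ∧ ∃ B : Subgroup G,
        B ≤ coreAt (c ^ l) ∧ centralizer ({c ^ l} : Set G) ≤ normalizer (B : Set G) ∧
        B ⊓ pairCore (c ^ l) s = ⊥ ∧ B ⊔ pairCore (c ^ l) s = coreAt (c ^ l))) := by
  have hdvd : ∀ {e : G} {r : ℕ}, e ∈ fixPart (c ^ l) s → orderOf e = r →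
      r ∣ Nat.card ↥(fitIn (coreAt (c ^ l))) := fun he her =>
    her ▸ Subgroup.orderOf_dvd_natCard _ he.1
  obtain ⟨e₀, he₀, he₀1⟩ := (Subgroup.bot_or_exists_ne_one _).resolve_left hM.ne
  obtain ⟨n₀, hn₀⟩ := H62.GW.exists_prime_power he₀1
  have he₁ : e₀ ^ n₀ ∈ fixPart (c ^ l) s := pow_mem he₀ n₀
  generalize e₀ ^ n₀ = e₁ at hn₀ he₁
  obtain ⟨am, ham⟩ := odd_mNum hM
  by_cases hFN : fitIn (coreAt (c ^ l)) ≤ normalizer (fixPart (c ^ l) s : Set G)
  · have hj : jNum (c ^ l) s = 1 := relIndex_eq_one.2 (le_inf le_rfl hFN)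
    haveI := Fact.mk hn₀
    obtain ⟨a₁, ha₁⟩ := odd_prime_fixed hM he₁ rfl
    obtain ⟨hm₁, heq₁⟩ := bound_of_normal hM hFN he₁ rfl
    by_cases hlt : mNum (c ^ l) s + 2 ≤ orderOf e₁
    · exact ⟨_, hn₀, hdvd he₁ rfl, ⟨e₁, he₁, rfl⟩, hlt, Or.inl hj⟩
    have hm : mNum (c ^ l) s = orderOf e₁ := by omega
    by_cases hall : ∀ e ∈ fixPart (c ^ l) s, (orderOf e).Prime → orderOf e = orderOf e₁
    · have := heq₁ hm (fix_le_core hM hall)
      have := hn₀.two_le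
      omega
    push Not at hall
    obtain ⟨e₂, he₂, hn₂, hne⟩ := hall
    haveI := Fact.mk hn₂
    obtain ⟨a₂, ha₂⟩ := odd_prime_fixed hM he₂ rfl
    obtain ⟨hm₂, -⟩ := bound_of_normal hM hFN he₂ rfl
    exact ⟨_, hn₂, hdvd he₂ rfl, ⟨e₂, he₂, rfl⟩, by omega, Or.inl hj⟩
  obtain ⟨q, hq, hPN⟩ : ∃ q : ℕ, q.Prime ∧
      ¬ pCoreIn q (coreAt (c ^ l)) ≤ normalizer (fixPart (c ^ l) s : Set G) := by
    by_contra! hall
    refine hFN ?_
    show (Cfsg.fittingSubgroup ↥(coreAt (c ^ l))).map (coreAt (c ^ l)).subtype ≤ _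
    rw [Components.fitting_eq_iSup_pCore, Subgroup.map_iSup]
    exact iSup_le fun p => hall p (Nat.prime_of_mem_primeFactors p.2)
  haveI := Fact.mk hq
  have hone : ∀ e ∈ fixPart (c ^ l) s, (orderOf e).Prime → orderOf e = q := by
    intro e he hp
    by_contra hne
    haveI := Fact.mk hp
    have heP : e ∈ pCoreIn (orderOf e) (coreAt (c ^ l)) :=
      H62.GW.mem_pCoreIn_of_fitIn he.1 (k := 1) (by rw [pow_one, pow_orderOf_eq_one])
    refine hPN fun w hw => mem_normalizer_of_commute hM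
      (H62.GW.coreAt_le _ (H62.GW.pCoreAt_le _ q hw)) he
      (fun h => hp.ne_one (by rw [h, orderOf_one])) ?_
    exact (H77.GW.commute_cross hne heP (H62.GW.pCoreAt_le _ _ heP) hw
      (H62.GW.pCoreAt_le _ _ hw)).symm
  have hEP := fix_le_core hM hone
  have he₁q : orderOf e₁ = q := hone e₁ he₁ hn₀
  by_cases hU : ∀ v ∈ secondCore q (c ^ l), Commute v s → v = 1
  · obtain ⟨hm1, hB⟩ := complement_of_free hM he₁ he₁q hEP hPN hU
    refine ⟨q, hq, hdvd he₁ he₁q, ⟨e₁, he₁, he₁q⟩, ?_, Or.inr (Or.inr ⟨hm1, hB⟩)⟩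
    obtain ⟨b, hb⟩ := odd_prime_fixed hM he₁ he₁q
    have := hq.two_le
    omega
  push Not at hU
  obtain ⟨u, hu, hus, hu1⟩ := hU
  obtain ⟨n, hn⟩ := H62.GW.exists_prime_power hu1
  have hyE : u ^ n ∈ fixPart (c ^ l) s :=
    pow_mem (fix_mem hM (H62.GW.pCoreIn_le_fitIn q _ hu.1) hus) n
  obtain ⟨hm, hj⟩ := bound_of_fixed hM hyE (hone _ hyE hn) hEP hPN (pow_mem hu n)
  exact ⟨q, hq, hdvd hyE (hone _ hyE hn), ⟨_, hyE, hone _ hyE hn⟩, hm, Or.inr (Or.inl hj)⟩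

/-- The hypothesis `hBound` of `H62.GW.false_of_pieces`. -/
theorem mixed_bound :
    ∃ p, p.Prime ∧ p ∣ Nat.card ↥(fitIn (coreAt (c ^ l))) ∧ mNum (c ^ l) s + 2 ≤ p ∧
      (jNum (c ^ l) s = 1 ∨ jNum (c ^ l) s = p ∨ ∃ B : Subgroup G, B ≤ coreAt (c ^ l) ∧
        centralizer ({c ^ l} : Set G) ≤ normalizer (B : Set G) ∧
        B ⊓ pairCore (c ^ l) s = ⊥ ∧ B ⊔ pairCore (c ^ l) s = coreAt (c ^ l)) := by
  obtain ⟨q, hq, hd, -, hm, h⟩ := exists_bound hM
  exact ⟨q, hq, hd, hm, h.imp id (Or.imp id And.right)⟩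

end Cfsg.Agent.H80.GW
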