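import Cfsg.Agent.H62.GW.MixedGlobal
import Cfsg.Agent.H80.GW.PureBasics

/-!
# GW programme, M3, piece BOUND: tools

`O = O(C(t))`, `F = F(O)`, `E = F ∩ C(s)`, `τ = O ∩ L`.  Decomposition of elements into an inverted
and a fixed part, `F ∩ N(E) = E (τ ∩ F)`, and the count of the `O`-conjugates of a fixed element of
prime order in a normal subgroup `A`: they avoid the inverted part `J` of `A`, so `j m ≤ |J|`.
-/

set_option autoImplicit false
set_option linter.unusedSectionVars false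
set_option linter.style.haveILetI false

namespace Cfsg.Agent.H80.GW

open Subgroup Cfsg.Agent
open Cfsg.Agent.GW (Cfg coreAt pairCore CentMax)
open Cfsg.Agent.Components (pCoreIn fitIn)
open Cfsg.Agent.H62.GW (MixedData fixPart torusPart jNum mNum)

universe u

section General

variable {G : Type u} [Group G] [Finite G]

theorem commute_of_cyclic {T : Subgroup G} [IsCyclic ↥T] {a b : G} (ha : a ∈ T) (hb : b ∈ T) :
    Commute a b :=
  congrArg Subtype.val ((IsCyclic.isMulCommutative (α := ↥T)).is_comm.comm ⟨a, ha⟩ ⟨b, hb⟩)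

/-- The elements of exponent `q` of `A`. -/
def expPart (A : Subgroup G) (q : ℕ)
    (h : ∀ u ∈ A, ∀ v ∈ A, u ^ q = 1 → v ^ q = 1 → (u * v) ^ q = 1) : Subgroup G where
  carrier := {v | v ∈ A ∧ v ^ q = 1}
  one_mem' := ⟨one_mem _, one_pow q⟩
  mul_mem' := fun ha hb => ⟨mul_mem ha.1 hb.1, h _ ha.1 _ hb.1 ha.2 hb.2⟩
  inv_mem' := fun ha => ⟨inv_mem ha.1, by rw [inv_pow, ha.2, inv_one]⟩

theorem mem_expPart {A : Subgroup G} {q : ℕ}
    {h : ∀ u ∈ A, ∀ v ∈ A, u ^ q = 1 → v ^ q = 1 → (u * v) ^ q = 1} {v : G} :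
    v ∈ expPart A q h ↔ v ∈ A ∧ v ^ q = 1 := Iff.rfl

theorem card_dvd_of_cyclic {T H : Subgroup G} [IsCyclic ↥T] (hH : H ≤ T) {q : ℕ}
    (h : ∀ v ∈ H, v ^ q = 1) : Nat.card ↥H ∣ q := by
  haveI : IsCyclic ↥H := (subgroupOfEquivOfLe hH).isCyclic.1 inferInstance
  rw [← IsCyclic.exponent_eq_card]
  exact Monoid.exponent_dvd_of_forall_pow_eq_one fun v => Subtype.ext (h v v.2)

theorem mem_zpowers_of_cyclic {T : Subgroup G} [IsCyclic ↥T] {q : ℕ} [Fact q.Prime] {a b : G}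
    (ha : a ∈ T) (hb : b ∈ T) (hao : orderOf a = q) (hbq : b ^ q = 1) : b ∈ zpowers a := by
  let H := expPart T q fun u hu v hv h1 h2 => by
    rw [(commute_of_cyclic hu hv).mul_pow, h1, h2, one_mul]
  have hle : zpowers a ≤ H := zpowers_le.2 ⟨ha, hao ▸ pow_orderOf_eq_one a⟩
  have hc : Nat.card ↥H ≤ q :=
    Nat.le_of_dvd (Fact.out : q.Prime).pos
      (card_dvd_of_cyclic (T := T) (H := H) (fun _ hv => hv.1) fun _ hv => hv.2)
  rw [Subgroup.eq_of_le_of_card_ge hle (by rwa [Nat.card_zpowers, hao])]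
  exact ⟨hb, hbq⟩

theorem mul_pow_class_two {u v z : G} (hzu : Commute z u) (hzv : Commute z v)
    (hvu : v * u = z * (u * v)) (n : ℕ) : (u * v) ^ n = z ^ n.choose 2 * (u ^ n * v ^ n) := by
  have hp : ∀ n : ℕ, v ^ n * u = z ^ n * (u * v ^ n) := by
    intro n
    induction n with
    | zero => simp
    | succ n ih =>
      calc v ^ (n + 1) * u = v * (v ^ n * u) := by rw [pow_succ']; group
        _ = (v * z ^ n) * (u * v ^ n) := by rw [ih]; group
        _ = z ^ n * ((v * u) * v ^ n) := by rw [← (hzv.pow_left n).eq]; group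
        _ = z ^ n * z * (u * (v * v ^ n)) := by rw [hvu]; group
        _ = _ := by rw [← pow_succ, ← pow_succ']
  induction n with
  | zero => simp
  | succ n ih =>
    calc (u * v) ^ (n + 1) = z ^ n.choose 2 * (u ^ n * (v ^ n * u) * v) := by
          rw [pow_succ, ih]; group
      _ = z ^ n.choose 2 * ((u ^ n * z ^ n) * (u * v ^ n * v)) := by rw [hp]; group
      _ = z ^ n.choose 2 * z ^ n * ((u ^ n * u) * (v ^ n * v)) := by
        rw [← ((hzu.pow_left n).pow_right n).eq]; group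
      _ = _ := by
        rw [← pow_succ, ← pow_succ, ← pow_add]
        simp [Nat.choose_succ_succ, add_comm]

/-- `v` is the product of an element inverted by the involution `s` and one fixed by it. -/
theorem exists_inverted_decomp {s : G} (hss : s * s = 1) {H : Subgroup G}
    (hH : ∀ v ∈ H, Odd (orderOf v)) (hs : ∀ v ∈ H, s * v * s⁻¹ ∈ H) {o : G} (ho : o ∈ H) :
    ∃ i ∈ H, ∃ d ∈ H, o = i * d ∧ s * i * s⁻¹ = i⁻¹ ∧ Commute d s := by
  have hsinv : s⁻¹ = s := inv_eq_of_mul_eq_one_right hss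
  set w := o * s * o⁻¹ * s with hw
  have hwH : w ∈ H := by
    rw [hw, show o * s * o⁻¹ * s = o * (s * o⁻¹ * s⁻¹) by rw [hsinv]; group]
    exact mul_mem ho (hs _ (inv_mem ho))
  have hsw : s * w * s⁻¹ = w⁻¹ := by
    rw [hw]; simp only [mul_inv_rev, inv_inv, hsinv, mul_assoc, hss, mul_one]
  obtain ⟨k, hk⟩ := H62.GW.sq_pow_self (hH w hwH)
  rw [(Commute.refl w).mul_pow] at hk
  set i := w ^ k with hi
  have hiH : i ∈ H := pow_mem hwH k
  have hsi : s * i * s⁻¹ = i⁻¹ := by rw [hi, ← conj_pow, hsw, inv_pow]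
  refine ⟨i, hiH, i⁻¹ * o, mul_mem (inv_mem hiH) ho, by rw [mul_inv_cancel_left], hsi, ?_⟩
  have hsk : s * i = i⁻¹ * s := by rw [← hsi, inv_mul_cancel_right]
  have e1 : o * s * o⁻¹ = i * i * s := by
    rw [hk, hw, mul_assoc (o * s * o⁻¹), hss, mul_one]
  calc i⁻¹ * o * s = i⁻¹ * (o * s * o⁻¹) * o := by group
    _ = i * s * o := by rw [e1]; group
    _ = s * (i⁻¹ * o) := by
      rw [show i * s = s * i⁻¹ from ?_, mul_assoc]
      calc i * s = s * (s * i) * s := by rw [← mul_assoc s s, hss, one_mul]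
        _ = s * i⁻¹ := by rw [hsk]; simp [mul_assoc, hss]

/-- An inverted element of odd order that keeps an inverted element inverted centralises it. -/
theorem commute_of_inverted_conj {s i v : G} (hio : Odd (orderOf i)) (hi : s * i * s⁻¹ = i⁻¹)
    (hv : s * v * s⁻¹ = v⁻¹) (hiv : s * (i * v * i⁻¹) * s⁻¹ = (i * v * i⁻¹)⁻¹) : Commute i v := by
  have h1 : i⁻¹ * v⁻¹ * i = i * v⁻¹ * i⁻¹ := by
    calc i⁻¹ * v⁻¹ * i = (s * i * s⁻¹) * (s * v * s⁻¹) * (s * i * s⁻¹)⁻¹ := by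
          rw [hi, hv, inv_inv]
      _ = s * (i * v * i⁻¹) * s⁻¹ := by group
      _ = _ := by rw [hiv]; group
  refine H62.GW.commute_of_sq hio ?_
  have h2 : Commute (i * i) v⁻¹ := by
    calc i * i * v⁻¹ = i * (i * v⁻¹ * i⁻¹) * i := by group
      _ = i * (i⁻¹ * v⁻¹ * i) * i := by rw [h1]
      _ = v⁻¹ * (i * i) := by group
  exact inv_inv v ▸ h2.inv_right

/-- A conjugate of a fixed element `≠ 1` is not inverted. -/
theorem not_inverted_conj {s o v : G} (ho : Odd (orderOf (o⁻¹ * (s * o * s⁻¹))))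
    (hvo : Odd (orderOf v)) (hv1 : v ≠ 1) (hvs : Commute v s) :
    s * (o * v * o⁻¹) * s⁻¹ ≠ (o * v * o⁻¹)⁻¹ := by
  intro h
  set u := o⁻¹ * (s * o * s⁻¹) with hu
  have hsv : s * v * s⁻¹ = v := by rw [← hvs.eq, mul_inv_cancel_right]
  have h1 : u * v * u⁻¹ = v⁻¹ := by
    calc u * v * u⁻¹ = o⁻¹ * (s * o * s⁻¹) * (s * v * s⁻¹) * (o⁻¹ * (s * o * s⁻¹))⁻¹ := by
          rw [hsv]
      _ = o⁻¹ * (s * (o * v * o⁻¹) * s⁻¹) * o := by group
      _ = v⁻¹ := by rw [h]; group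
  have h2 : Commute (u * u) v := by
    refine mul_inv_eq_iff_eq_mul.1 ?_
    calc u * u * v * (u * u)⁻¹ = u * (u * v * u⁻¹) * u⁻¹ := by group
      _ = u * v⁻¹ * u⁻¹ := by rw [h1]
      _ = (u * v * u⁻¹)⁻¹ := by group
      _ = v := by rw [h1, inv_inv]
  have h3 : Commute u v := H62.GW.commute_of_sq ho h2
  rw [h3.eq, mul_inv_cancel_right] at h1
  exact hv1 (H62.GW.eq_one_of_odd hvo (mul_eq_one_iff_eq_inv.2 h1))

/-- An element lies in `H` if its parts of prime power order do. -/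
theorem mem_of_primeParts {H : Subgroup G} {x : G}
    (h : ∀ p : ℕ, p.Prime → ∀ y ∈ zpowers x, (∃ k : ℕ, y ^ p ^ k = 1) → y ∈ H) : x ∈ H := by
  induction hn : orderOf x using Nat.strong_induction_on generalizing x with
  | _ n ih =>
    by_cases hn1 : n = 1
    · rw [orderOf_eq_one_iff.1 (hn.trans hn1)]; exact one_mem _
    obtain ⟨p, hp, hpn⟩ := Nat.exists_prime_and_dvd hn1
    have hn0 : 0 < n := hn ▸ orderOf_pos x
    obtain ⟨a, m, hm, rfl⟩ := Nat.exists_eq_pow_mul_and_not_dvd hn0.ne' p hp.ne_one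
    have hy : x ^ m ∈ H := h p hp _ (npow_mem_zpowers x m)
      ⟨a, by rw [← pow_mul, mul_comm, ← hn, pow_orderOf_eq_one]⟩
    have ha : 0 < a := by
      rcases Nat.eq_zero_or_pos a with h0 | h0
      · exact absurd (by simpa [h0] using hpn) hm
      · exact h0
    have hz : x ^ p ^ a ∈ H := by
      refine ih m ?_ (fun r hr y hy => h r hr y ((zpowers_le.2 (npow_mem_zpowers x _)) hy)) ?_
      · exact lt_mul_of_one_lt_left (Nat.pos_of_ne_zero fun e => hm (e ▸ dvd_zero p))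
          (Nat.one_lt_pow ha.ne' hp.one_lt)
      · rw [orderOf_pow' x (pow_ne_zero _ hp.ne_zero), hn,
          Nat.gcd_eq_right (dvd_mul_right (p ^ a) m), Nat.mul_div_cancel_left _ (pow_pos hp.pos a)]
    have hc : Nat.Coprime (p ^ a) m := (hp.coprime_iff_not_dvd.2 hm).pow_left a
    have he := Nat.gcd_eq_gcd_ab (p ^ a) m
    rw [show (p ^ a).gcd m = 1 from hc] at he
    rw [← zpow_one x, ← Nat.cast_one, he, zpow_add, zpow_mul, zpow_mul, zpow_natCast, zpow_natCast]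
    exact mul_mem (zpow_mem hz _) (zpow_mem hy _)

theorem exists_pow_of_mem {q : ℕ} [Fact q.Prime] {A : Subgroup G} {v : G}
    (hv : v ∈ pCoreIn q A) : ∃ k : ℕ, v ^ q ^ k = 1 := by
  obtain ⟨k, hk⟩ := (Components.isPGroup_pCoreIn (p := q) A) ⟨v, hv⟩
  exact ⟨k, congrArg Subtype.val hk⟩

theorem eq_one_of_mem_pCores {q r : ℕ} [Fact q.Prime] [Fact r.Prime] (h : r ≠ q) {A : Subgroup G}
    {v : G} (h1 : v ∈ pCoreIn r A) (h2 : v ∈ pCoreIn q A) : v = 1 :=
  (mem_bot (G := G)).1 (Coprime.inf_eq_bot (H77.GW.coprime_pCoreIn h A A) ▸ ⟨h1, h2⟩)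

/-- A coprime element centralising its commutator with `v` centralises `v`. -/
theorem commute_of_coprime {p : ℕ} [Fact p.Prime] {x v : G} {k : ℕ} (hxp : (orderOf x).Coprime p)
    (hd : (x * v * x⁻¹ * v⁻¹) ^ p ^ k = 1) (hc : Commute x (x * v * x⁻¹ * v⁻¹)) : Commute x v := by
  set d := x * v * x⁻¹ * v⁻¹ with hd'
  have h1 := M2.conj_pow_fix (o := v) hc (by rw [hd']; group) (orderOf x)
  rw [pow_orderOf_eq_one, one_mul, inv_one, mul_one] at h1
  have h2 : d = 1 := H62.GW.eq_one_of_commutator hd (mul_eq_right.1 h1.symm) hxp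
  exact mul_inv_eq_iff_eq_mul.1 (mul_inv_eq_one.1 (hd' ▸ h2))

/-- A normal subgroup of `O` centralised modulo its `q`-part lies in `F(O)`. -/
theorem le_fitIn_of_central {t : G} {q : ℕ} [Fact q.Prime] {K : Subgroup G} (hKO : K ≤ coreAt t)
    (hKn : coreAt t ≤ normalizer (K : Set G))
    (hoth : ∀ x ∈ K, ∀ r : ℕ, r.Prime → r ≠ q → ∀ w ∈ pCoreIn r (coreAt t), Commute x w)
    (hcop : ∀ x ∈ K, (orderOf x).Coprime q → ∀ w ∈ pCoreIn q (coreAt t), Commute x w) :
    K ≤ fitIn (coreAt t) := by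
  have hfit : ∀ x ∈ K, (orderOf x).Coprime q → x ∈ fitIn (coreAt t) := fun x hx hxq =>
    H62.GW.mem_fitIn_of_commute (hKO hx) fun r hr w hw => by
      by_cases hrq : r = q
      · subst hrq; exact hcop x hx hxq w hw
      · exact hoth x hx r hr hrq w hw
  have hcen : ∀ x ∈ K, (orderOf x).Coprime q → ∀ k ∈ K, Commute x k := fun x hx hxq k hk => by
    refine (mem_centralizer_singleton_iff.1 (mem_of_primeParts (H := centralizer ({k} : Set G))
      fun p hp y hy hyp => ?_) : x * k = k * x)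
    obtain ⟨j, hj⟩ := hyp
    haveI := Fact.mk hp
    by_cases hpq : p = q
    · subst hpq
      have hyo : orderOf y ∣ orderOf x := orderOf_dvd_of_mem_zpowers hy
      have h1 : y = 1 := orderOf_eq_one_iff.1 (Nat.eq_one_of_dvd_coprimes
        (hxq.pow_right j) hyo (orderOf_dvd_of_pow_eq_one hj))
      rw [h1]; exact one_mem _
    · have hyF : y ∈ fitIn (coreAt t) := (zpowers_le.2 (hfit x hx hxq)) hy
      exact mem_centralizer_singleton_iff.2
        (hoth k hk p hp hpq y (H62.GW.mem_pCoreIn_of_fitIn hyF hj)).symm.eq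
  haveI hnil : Group.IsNilpotent ↥K := by
    refine Group.of_quotient_center_nilpotent ?_
    haveI : Finite (↥K ⧸ center ↥K) := inferInstance
    refine IsPGroup.isNilpotent (p := q) fun g => ?_
    induction g using QuotientGroup.induction_on with
    | _ k =>
      obtain ⟨a, m, hm, hka⟩ :=
        Nat.exists_eq_pow_mul_and_not_dvd (orderOf_pos (k : G)).ne' q (Fact.out : q.Prime).ne_one
      refine ⟨a, ?_⟩
      rw [← QuotientGroup.mk_pow, QuotientGroup.eq_one_iff, mem_center_iff]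
      refine fun g => Subtype.ext ?_
      refine (hcen ((k ^ q ^ a : ↥K) : G) (SetLike.coe_mem _) ?_ g g.2).symm
      rw [Subgroup.coe_pow, orderOf_pow' (k : G) (pow_ne_zero _ (Fact.out : q.Prime).ne_zero), hka,
        Nat.gcd_eq_right (dvd_mul_right (q ^ a) m),
        Nat.mul_div_cancel_left _ (pow_pos (Fact.out : q.Prime).pos a)]
      exact ((Fact.out : q.Prime).coprime_iff_not_dvd.2 hm).symm
  haveI : (K.subgroupOf (coreAt t)).Normal := normal_subgroupOf_of_le_normalizer hKn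
  have h := Cores.le_fittingSubgroup (N := K.subgroupOf (coreAt t))
    (Group.nilpotent_of_mulEquiv (subgroupOfEquivOfLe hKO).symm)
  exact fun x hx => ⟨⟨x, hKO hx⟩, h hx, rfl⟩

end General

/-! ### The setting -/

variable {G : Type u} [Group G] [Finite G] {S : Sylow 2 G} {l : ℕ} {c s : G} {L : Subgroup G}
variable (hM : MixedData S l c s L)
include hM

theorem s_mul_self : s * s = 1 := H39.mul_self_of_orderOf_eq_two hM.cfg.gen.os

theorem s_mem_cent : s ∈ centralizer ({c ^ l} : Set G) :=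
  mem_centralizer_singleton_iff.2 (hM.cfg.gen.z_central hM.cfg.gen.mem_s)

theorem odd_of_mem_core {v : G} (hv : v ∈ coreAt (c ^ l)) : Odd (orderOf v) :=
  H62.GW.odd_orderOf_of_mem (H62.GW.odd_coreAt _) hv

theorem decomp {H : Subgroup G} (hHO : H ≤ coreAt (c ^ l))
    (hn : centralizer ({c ^ l} : Set G) ≤ normalizer (H : Set G)) {o : G} (ho : o ∈ H) :
    ∃ i ∈ H, ∃ d ∈ H, o = i * d ∧ s * i * s⁻¹ = i⁻¹ ∧ Commute d s :=
  exists_inverted_decomp (s_mul_self hM) (fun _ hv => odd_of_mem_core hM (hHO hv))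
    (fun _ hv => Coprime.conj_mem (hn (s_mem_cent hM)) hv) ho

theorem decomp_core {o : G} (ho : o ∈ coreAt (c ^ l)) :
    ∃ i ∈ coreAt (c ^ l), ∃ d ∈ pairCore (c ^ l) s, o = i * d ∧ s * i * s⁻¹ = i⁻¹ := by
  obtain ⟨i, hi, d, hd, he, hsi, hds⟩ :=
    decomp hM le_rfl (H62.GW.centralizer_le_normalizer_coreAt _) ho
  exact ⟨i, hi, d, ⟨hd, mem_centralizer_singleton_iff.2 hds.eq⟩, he, hsi⟩

theorem fix_mem {v : G} (hv : v ∈ fitIn (coreAt (c ^ l))) (hvs : Commute v s) :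
    v ∈ fixPart (c ^ l) s :=
  ⟨hv, mem_centralizer_singleton_iff.2 hvs.eq⟩

theorem commute_fixed {e f : G} (he : e ∈ fixPart (c ^ l) s) (hf : f ∈ fixPart (c ^ l) s) :
    Commute e f := by
  haveI := hM.fix_cyclic
  exact commute_of_cyclic he hf

theorem eq_one_of_torus {k : G} (hk : k ∈ torusPart (c ^ l) L) (hks : Commute k s) : k = 1 :=
  H62.GW.eq_one_of_inverted (odd_of_mem_core hM hk.1) (hM.torus_inverted k hk) hks.symm

theorem mem_normalizer_of_commute {v e : G} (hv : v ∈ centralizer ({c ^ l} : Set G))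
    (he : e ∈ fixPart (c ^ l) s) (he1 : e ≠ 1) (hve : Commute v e) :
    v ∈ normalizer (fixPart (c ^ l) s : Set G) :=
  hM.ti v hv e he he1 (by rw [hve.eq, mul_inv_cancel_right]; exact he)

/-- `F ∩ N(E) = E (τ ∩ F)`. -/
theorem fit_norm {v : G} (hv : v ∈ fitIn (coreAt (c ^ l)))
    (hn : v ∈ normalizer (fixPart (c ^ l) s : Set G)) :
    ∃ f ∈ fixPart (c ^ l) s, ∃ k ∈ torusPart (c ^ l) L,
      k ∈ fitIn (coreAt (c ^ l)) ∧ v = f * k := by
  obtain ⟨i, hi, d, hd, he, hsi, hds⟩ :=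
    decomp hM (map_subtype_le _) (H62.GW.centralizer_le_normalizer_fit _) hv
  have hdE := fix_mem hM hd hds
  have hiO : i ∈ coreAt (c ^ l) := map_subtype_le _ hi
  have hin : i ∈ normalizer (fixPart (c ^ l) s : Set G) := by
    rw [show i = v * d⁻¹ by rw [he, mul_inv_cancel_right]]
    exact mul_mem hn (inv_mem (le_normalizer hdE))
  obtain ⟨e₀, he₀, he₀1⟩ := (Subgroup.bot_or_exists_ne_one _).resolve_left hM.ne
  have hcomm : Commute i e₀ := by
    have h1 : Commute (i * e₀ * i⁻¹) s :=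
      H62.GW.commute_s_of_fix (Coprime.conj_mem hin he₀)
    have h0 : s * e₀ * s⁻¹ = e₀ := by
      rw [← (H62.GW.commute_s_of_fix he₀).eq, mul_inv_cancel_right]
    refine H62.GW.commute_of_sq (odd_of_mem_core hM hiO) ?_
    have h2 : i⁻¹ * e₀ * i = i * e₀ * i⁻¹ := by
      calc i⁻¹ * e₀ * i = (s * i * s⁻¹) * (s * e₀ * s⁻¹) * (s * i * s⁻¹)⁻¹ := by
            rw [hsi, h0, inv_inv]
        _ = s * (i * e₀ * i⁻¹) * s⁻¹ := by group
        _ = _ := by rw [← h1.eq, mul_inv_cancel_right]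
    calc i * i * e₀ = i * (i * e₀ * i⁻¹) * i := by group
      _ = i * (i⁻¹ * e₀ * i) * i := by rw [h2]
      _ = e₀ * (i * i) := by group
  have hiT := hM.mem_torus i hiO hsi e₀ he₀ he₀1 hcomm
  exact ⟨d, hdE, i, hiT, hi, by rw [he, (hM.commute_fix i hiT.2 d hdE).eq]⟩

/-- `F ∩ N(E)` is abelian. -/
theorem commute_fit_norm {v w : G} (hv : v ∈ fitIn (coreAt (c ^ l)))
    (hvn : v ∈ normalizer (fixPart (c ^ l) s : Set G)) (hw : w ∈ fitIn (coreAt (c ^ l)))
    (hwn : w ∈ normalizer (fixPart (c ^ l) s : Set G)) : Commute v w := by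
  obtain ⟨f, hf, k, hk, -, rfl⟩ := fit_norm hM hv hvn
  obtain ⟨f', hf', k', hk', -, rfl⟩ := fit_norm hM hw hwn
  haveI := hM.torus_cyclic
  exact ((commute_fixed hM hf hf').mul_right (hM.commute_fix k' hk'.2 f hf).symm).mul_left
    ((hM.commute_fix k hk.2 f' hf').mul_right (commute_of_cyclic hk hk'))

theorem odd_mNum : Odd (mNum (c ^ l) s) := by
  have h := H62.GW.odd_coreAt (c ^ l)
  rw [hM.card_core] at h
  simp only [Nat.odd_mul] at h
  exact h.1.1.2

theorem mNum_eq_one_of_inverted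
    (h : ∀ i ∈ coreAt (c ^ l), s * i * s⁻¹ = i⁻¹ → i ∈ fitIn (coreAt (c ^ l))) :
    mNum (c ^ l) s = 1 := by
  refine relIndex_eq_one.2 fun o ho => ?_
  obtain ⟨i, hi, d, hd, rfl, hsi⟩ := decomp_core hM ho
  exact mul_mem_sup (h i hi hsi) ⟨hd.1, hM.pair_norm hd⟩

theorem jm_le_relIndex :
    jNum (c ^ l) s * mNum (c ^ l) s ≤
      (coreAt (c ^ l) ⊓ normalizer (fixPart (c ^ l) s : Set G)).relIndex (coreAt (c ^ l)) := by
  set N := coreAt (c ^ l) ⊓ normalizer (fixPart (c ^ l) s : Set G) with hN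
  have hT : ∀ k ∈ torusPart (c ^ l) L, k ∈ N := fun k hk =>
    ⟨hk.1, mem_normalizer_fintype fun e he => by
      show k * e * k⁻¹ ∈ fixPart (c ^ l) s
      rw [(hM.commute_fix k hk.2 e he).eq, mul_inv_cancel_right]
      exact he⟩
  have hcard : Nat.card ↥N ≤
      Nat.card ↥(torusPart (c ^ l) L) * Nat.card ↥(pairCore (c ^ l) s) := by
    rw [← Nat.card_prod]
    refine Nat.card_le_card_of_surjective
      (fun p => ⟨(p.1 : G) * p.2, mul_mem (hT _ p.1.2) ⟨p.2.2.1, hM.pair_norm p.2.2⟩⟩) fun x => ?_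
    obtain ⟨k, hk, d, hd, he⟩ := hM.split x x.2.1 x.2.2
    exact ⟨(⟨k, hk⟩, ⟨d, hd⟩), Subtype.ext he.symm⟩
  have h1 := (N.subgroupOf (coreAt (c ^ l))).card_mul_index
  rw [Nat.card_congr (subgroupOfEquivOfLe inf_le_left).toEquiv, hM.card_core] at h1
  refine Nat.le_of_mul_le_mul_left (c := Nat.card ↥(torusPart (c ^ l) L) *
    Nat.card ↥(pairCore (c ^ l) s)) ?_ (Nat.mul_pos Nat.card_pos Nat.card_pos)
  calc _ = Nat.card ↥N * N.relIndex (coreAt (c ^ l)) := by rw [relIndex, h1]; ring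
    _ ≤ _ := Nat.mul_le_mul_right _ hcard

/-- The count of the conjugates of a fixed element of prime order. -/
theorem orbit_bound {A J : Subgroup G} {q : ℕ} [Fact q.Prime] {y : G}
    (hAO : A ≤ coreAt (c ^ l)) (hAn : centralizer ({c ^ l} : Set G) ≤ normalizer (A : Set G))
    (hyA : y ∈ A) (hyE : y ∈ fixPart (c ^ l) s) (hy : orderOf y = q)
    (hfix : ∀ v ∈ A, Commute v s → v ∈ zpowers y)
    (hJ : ∀ v, v ∈ J ↔ v ∈ A ∧ s * v * s⁻¹ = v⁻¹) :
    jNum (c ^ l) s * mNum (c ^ l) s ≤ Nat.card ↥J ∧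
      (jNum (c ^ l) s * mNum (c ^ l) s = Nat.card ↥J →
        ∀ o ∈ coreAt (c ^ l), ∀ v ∈ J, o * v * o⁻¹ ∈ J) := by
  set O := coreAt (c ^ l) with hO
  set N := O ⊓ normalizer (fixPart (c ^ l) s : Set G) with hN
  have hJA : J ≤ A := fun v hv => ((hJ v).1 hv).1
  have hzA : zpowers y ≤ A := zpowers_le.2 hyA
  have hzE : zpowers y ≤ fixPart (c ^ l) s := zpowers_le.2 hyE
  have hdisj : ∀ v ∈ J, Commute v s → v = 1 := fun v hv hvs =>
    H62.GW.eq_one_of_inverted (odd_of_mem_core hM (hAO (hJA hv))) ((hJ v).1 hv).2 hvs.symm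
  have hnot : ∀ o ∈ O, ∀ v ∈ zpowers y, v ≠ 1 → o * v * o⁻¹ ∉ J := fun o ho v hv hv1 h =>
    not_inverted_conj
      (odd_of_mem_core hM (mul_mem (inv_mem ho)
        (Coprime.conj_mem (H62.GW.centralizer_le_normalizer_coreAt _ (s_mem_cent hM)) ho)))
      (odd_of_mem_core hM (hAO (hzA hv))) hv1 (H62.GW.commute_s_of_fix (hzE hv)) ((hJ _).1 h).2
  have hmem : ∀ o ∈ O, ∀ v ∈ A, o * v * o⁻¹ ∈ A := fun o ho v hv =>
    Coprime.conj_mem (hAn (H62.GW.coreAt_le _ ho)) hv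
  have hA : Nat.card ↥A = Nat.card ↥J * q := by
    rw [← hy, ← Nat.card_zpowers, ← Nat.card_prod]
    refine (Nat.card_congr (Equiv.ofBijective
      (fun p : ↥J × ↥(zpowers y) => (⟨(p.1 : G) * p.2, mul_mem (hJA p.1.2) (hzA p.2.2)⟩ : ↥A))
      ⟨fun p p' e => ?_, fun x => ?_⟩)).symm
    · refine Subgroup.mul_injective_of_disjoint ?_ (congrArg Subtype.val e)
      rw [Subgroup.disjoint_def]
      exact fun {w} hw hwy => hdisj w hw (H62.GW.commute_s_of_fix (hzE hwy))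
    · obtain ⟨i, hi, d, hd, he, hsi, hds⟩ := decomp hM hAO hAn x.2
      exact ⟨(⟨i, (hJ i).2 ⟨hi, hsi⟩⟩, ⟨d, hfix d hd hds⟩), Subtype.ext he.symm⟩
  classical
  have hq : 1 < q := (Fact.out : q.Prime).one_lt
  have hv : Nat.card {v : ↥(zpowers y) // v ≠ 1} = q - 1 := by
    have h := Nat.card_congr (Equiv.sumCompl fun v : ↥(zpowers y) => v = 1)
    rw [Nat.card_sum, Nat.card_zpowers, hy, Nat.card_unique] at h
    exact Nat.eq_sub_of_add_eq' h
  have hθ : Nat.card {x : ↥A // (x : G) ∉ J} = Nat.card ↥J * (q - 1) := by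
    have h := Nat.card_congr (Equiv.sumCompl fun x : ↥A => (x : G) ∈ J)
    rw [Nat.card_sum, hA, show Nat.card {x : ↥A // (x : G) ∈ J} = Nat.card ↥J from
      Nat.card_congr (subgroupOfEquivOfLe hJA).toEquiv] at h
    rw [Nat.mul_sub, mul_one]
    exact Nat.eq_sub_of_add_eq' h
  let f : (↥O ⧸ N.subgroupOf O) × {v : ↥(zpowers y) // v ≠ 1} → {x : ↥A // (x : G) ∉ J} :=
    fun p => ⟨⟨(p.1.out : G) * (p.2.1 : G) * (p.1.out : G)⁻¹, hmem _ p.1.out.2 _ (hzA p.2.1.2)⟩,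
      hnot _ p.1.out.2 _ p.2.1.2 fun e => p.2.2 (Subtype.ext e)⟩
  have hf : Function.Injective f := by
    rintro ⟨a, v⟩ ⟨b, w⟩ e
    have e' : (a.out : G) * v.1 * (a.out : G)⁻¹ = b.out * w.1 * (b.out : G)⁻¹ :=
      congrArg (fun x => ((x.1 : ↥A) : G)) e
    have hh : ((b.out : G)⁻¹ * a.out) * v.1 * ((b.out : G)⁻¹ * a.out)⁻¹ = w.1 := by
      calc _ = (b.out : G)⁻¹ * ((a.out : G) * v.1 * (a.out : G)⁻¹) * b.out := by group
        _ = _ := by rw [e']; group
    have hbO : (b.out : G)⁻¹ * a.out ∈ O := mul_mem (inv_mem b.out.2) a.out.2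
    have hab : b = a := by
      rw [← QuotientGroup.out_eq' b, ← QuotientGroup.out_eq' a, QuotientGroup.eq]
      exact ⟨hbO, hM.ti _ (H62.GW.coreAt_le _ hbO) _ (hzE v.1.2)
        (fun h => v.2 (Subtype.ext h)) (hh.symm ▸ hzE w.1.2)⟩
    subst hab
    refine Prod.ext rfl (Subtype.ext (Subtype.ext ?_))
    exact mul_left_cancel (mul_right_cancel e')
  have hle := Nat.card_le_card_of_injective f hf
  rw [Nat.card_prod, hv, hθ] at hle
  have hidx : N.relIndex O ≤ Nat.card ↥J := Nat.le_of_mul_le_mul_right hle (by omega)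
  refine ⟨(jm_le_relIndex hM).trans hidx, fun heq => ?_⟩
  have hbij := hf.bijective_of_nat_card_le (by
    rw [Nat.card_prod, hv, hθ, ← heq]
    exact Nat.mul_le_mul_right _ (jm_le_relIndex hM))
  intro o ho v hvJ
  by_contra hno
  obtain ⟨⟨a, w⟩, e⟩ := hbij.2 ⟨⟨o * v * o⁻¹, hmem o ho v (hJA hvJ)⟩, hno⟩
  have e' : (a.out : G) * w.1 * (a.out : G)⁻¹ = o * v * o⁻¹ :=
    congrArg (fun x => ((x.1 : ↥A) : G)) e
  refine hnot (o⁻¹ * a.out) (mul_mem (inv_mem ho) a.out.2) w.1 w.1.2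
    (fun h => w.2 (Subtype.ext h)) ?_
  rw [show o⁻¹ * (a.out : G) * (w.1 : G) * (o⁻¹ * (a.out : G))⁻¹ =
    o⁻¹ * ((a.out : G) * w.1 * (a.out : G)⁻¹) * o by group, e']
  rwa [show o⁻¹ * (o * v * o⁻¹) * o = v by group]

end Cfsg.Agent.H80.GW
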