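import Cfsg.Agent.H62.GW.MixedMain
import Cfsg.Agent.H80.GW.MixedBound
import Cfsg.Agent.OddOrder.BG4.RankTwo

/-!
# GW programme, M3: `O ∩ C(s)` lies in `F(O)`

With `c` central on `O`, KILL leaves no `s`-invariant character of `O`, so `D ≤ O'`.  If `m ≠ 1`
each `O_r(O)` has rank at most two, so the elements of `O'` of order prime to `r` centralise it and
`O' ≤ F`.  If `m = 1` then `O = F T D` and a solvable group equal to its derived group is trivial.
-/

set_option autoImplicit false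
set_option linter.unusedSectionVars false
set_option linter.style.haveILetI false

namespace Cfsg.Agent.H80.GW

open Subgroup Cfsg.Agent
open Cfsg.Agent.GW (Cfg coreAt pairCore CentMax Fuses)
open Cfsg.Agent.Components (pCoreIn fitIn)
open Cfsg.Agent.H62.GW (MixedData fixPart torusPart jNum mNum centreCore)

universe u

variable {G : Type u} [Group G] [Finite G] {S : Sylow 2 G} {l : ℕ} {c s : G} {L : Subgroup G}
  (hM : MixedData S l c s L)
include hM

/-- `D ≤ O'`. -/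
theorem pairCore_le_commutator (hc : ∀ o ∈ coreAt (c ^ l), Commute c o) :
    pairCore (c ^ l) s ≤ ⁅coreAt (c ^ l), coreAt (c ^ l)⁆ := by
  intro d hd
  by_contra hno
  set O := coreAt (c ^ l) with hO
  have hC := hM.cfg
  have hst : Commute s (c ^ l) := hC.gen.z_central hC.gen.mem_s
  have hss := s_mul_self hM
  -- the other side
  obtain ⟨e, he, he1⟩ := (Subgroup.bot_or_exists_ne_one _).resolve_left hM.ne
  obtain ⟨n, hn⟩ := H62.GW.exists_prime_power he1
  have hyE : e ^ n ∈ fixPart (c ^ l) s := pow_mem he n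
  generalize e ^ n = y at hn hyE
  haveI := Fact.mk hn
  obtain ⟨z, hz, hzL, hzo⟩ :=
    hM.torus_prime _ hn (Subgroup.orderOf_dvd_natCard _ hyE.1)
  have hys : Commute y s := H62.GW.commute_s_of_fix hyE
  have P' : H62.GW.MixPt S l c (c * s) y := by
    refine ⟨H4.GW.cfg_swap hC, hM.cmax, ⟨hyE.1, mem_centralizer_singleton_iff.2
      ((hc y (H62.GW.fixPart_le_core _ _ hyE)).symm.mul_right hys).eq⟩, _, hn, rfl,
      H62.GW.mem_pCoreIn_of_fitIn hyE.1 (k := 1) (by rw [pow_one, pow_orderOf_eq_one]), z, hz,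
      fun h => ?_⟩
    have hzs := (hc z (H62.GW.pCoreAt_le _ _ hz)).symm.inv_right.mul_right h
    rw [inv_mul_cancel_left] at hzs
    have hz1 := eq_one_of_torus hM ⟨H62.GW.pCoreAt_le _ _ hz, hzL⟩ hzs
    rw [hz1, orderOf_one] at hzo
    exact hn.ne_one hzo.symm
  obtain ⟨L', hM'⟩ := H62.GW.exists_mixedData P'
  -- a character not trivial on `d`
  have hdO : d ∈ O := hd.1
  have hne : Abelianization.of (⟨d, hdO⟩ : ↥O) ≠ 1 := fun h => hno (by
    rw [← map_subtype_commutator]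
    exact ⟨⟨d, hdO⟩, (Abelianization.ker_of ↥O).le (MonoidHom.mem_ker.2 h), rfl⟩)
  obtain ⟨φ, hφ⟩ :=
    CommGroup.exists_apply_ne_one_of_hasEnoughRootsOfUnity (Abelianization ↥O) ℂ hne
  let μ : ↥O →* ℂˣ := φ.comp Abelianization.of
  let σ : ↥O →* ↥O := MonoidHom.mk'
    (fun o => ⟨s * o * s⁻¹, H62.GW.conj_mem_coreAt hst o.2⟩) fun a b => Subtype.ext (by
      show s * ((a : G) * b) * s⁻¹ = (s * a * s⁻¹) * (s * b * s⁻¹)
      group)
  let ν : ↥O →* ℂˣ := μ * μ.comp σ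
  have hσσ : ∀ o, σ (σ o) = o := fun o => Subtype.ext (by
    show s * (s * (o : G) * s⁻¹) * s⁻¹ = o
    rw [show s * (s * (o : G) * s⁻¹) * s⁻¹ = s * s * o * (s * s)⁻¹ by group, hss]
    simp)
  have hνσ : ∀ o, ν (σ o) = ν o := fun o => by
    show μ (σ o) * μ (σ (σ o)) = μ o * μ (σ o)
    rw [hσσ, mul_comm]
  have hνd : ν ⟨d, hdO⟩ ≠ 1 := by
    have hσd : σ ⟨d, hdO⟩ = ⟨d, hdO⟩ := Subtype.ext (by
      show s * d * s⁻¹ = d
      rw [← (mem_centralizer_singleton_iff.1 hd.2 : d * s = s * d), mul_inv_cancel_right])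
    show μ _ * μ (σ _) ≠ 1
    rw [hσd]
    intro h
    refine hφ ?_
    have hodd : Odd (orderOf (⟨d, hdO⟩ : ↥O)) := by
      rw [Subgroup.orderOf_mk]
      exact odd_of_mem_core hM hdO
    have h2 : orderOf (μ ⟨d, hdO⟩) ∣ 2 := orderOf_dvd_of_pow_eq_one (by rw [pow_two, h])
    exact orderOf_eq_one_iff.1 (Nat.eq_one_of_dvd_coprimes
      (Nat.coprime_two_left.2 hodd) h2 (orderOf_map_dvd μ _))
  classical
  let ψ : G → ℂ := fun v => if hv : v ∈ O then ((ν ⟨v, hv⟩ : ℂˣ) : ℂ) else 0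
  have hψ : ∀ v (hv : v ∈ O), ψ v = ((ν ⟨v, hv⟩ : ℂˣ) : ℂ) := fun v hv => dif_pos hv
  have hψmul : ∀ a ∈ O, ∀ b ∈ O, ψ (a * b) = ψ a * ψ b := fun a ha b hb => by
    rw [hψ a ha, hψ b hb, hψ _ (mul_mem ha hb), ← Units.val_mul, ← map_mul]
    rfl
  have hψ1 : ψ 1 = 1 := by
    rw [hψ 1 (one_mem _), show (⟨1, one_mem _⟩ : ↥O) = 1 from rfl, map_one, Units.val_one]
  have hψnt : ∃ v ∈ O, ψ v ≠ 1 := ⟨d, hdO, by
    rw [hψ d hdO]
    exact fun h => hνd (Units.ext h)⟩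
  have hinvs : ∀ v ∈ O, ψ (s * v * s⁻¹) = ψ v := fun v hv => by
    rw [hψ v hv, hψ _ (H62.GW.conj_mem_coreAt hst hv)]
    exact congrArg Units.val (hνσ ⟨v, hv⟩)
  have hcz : ∀ (i : ℤ) (o : G), o ∈ O → Commute (c ^ i) o := fun i o ho => (hc o ho).zpow_left i
  have hab := abelian_of_linear_sylow hC hM.fuse_centralises hM'.fuse_centralises hψmul hψ1 hψnt
    fun x hx v hv => by
      rcases hC.gen.cases x hx with hxc | hxc
      · obtain ⟨i, rfl⟩ := mem_zpowers_iff.1 hxc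
        rw [(hcz i v hv).eq, mul_inv_cancel_right]
      · obtain ⟨i, hi⟩ := mem_zpowers_iff.1 hxc
        have hx' : x = c ^ i * s := by rw [hi, mul_assoc, hss, mul_one]
        rw [hx', show c ^ i * s * v * (c ^ i * s)⁻¹ = c ^ i * (s * v * s⁻¹) * (c ^ i)⁻¹ by group,
          (hcz i _ (H62.GW.conj_mem_coreAt hst hv)).eq, mul_inv_cancel_right, hinvs v hv]
  refine M2.false_of_abelian hC hM.cmax (fun h => ?_) (fun o ho => (hc o ho).mul_left (hc o ho)) hab
  exact hno ((mem_bot (G := G)).1 (h ▸ hd) ▸ one_mem _)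

/-- A subgroup of exponent `r` of `F ∩ N(E)` has order at most `r ^ 2`. -/
theorem card_le_of_fit_norm {r : ℕ} [Fact r.Prime] {B : Subgroup G} (hB : ∀ v ∈ B,
    v ∈ fitIn (coreAt (c ^ l)) ∧ v ∈ normalizer (fixPart (c ^ l) s : Set G) ∧ v ^ r = 1) :
    Nat.card ↥B ≤ r ^ 2 ∧
      ((∀ v ∈ B, v ∈ fixPart (c ^ l) s → v = 1) → Nat.card ↥B ≤ r) := by
  haveI := hM.fix_cyclic
  haveI := hM.torus_cyclic
  let E' := expPart (fixPart (c ^ l) s) r fun u hu v hv h1 h2 => by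
    rw [(commute_of_cyclic hu hv).mul_pow, h1, h2, one_mul]
  let T' := expPart (torusPart (c ^ l) L) r fun u hu v hv h1 h2 => by
    rw [(commute_of_cyclic hu hv).mul_pow, h1, h2, one_mul]
  have hcE : Nat.card ↥E' ≤ r := Nat.le_of_dvd (Fact.out : r.Prime).pos
    (card_dvd_of_cyclic (T := fixPart (c ^ l) s) (H := E') (fun _ h => h.1) fun _ h => h.2)
  have hcT : Nat.card ↥T' ≤ r := Nat.le_of_dvd (Fact.out : r.Prime).pos
    (card_dvd_of_cyclic (T := torusPart (c ^ l) L) (H := T') (fun _ h => h.1) fun _ h => h.2)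
  have hsplit : ∀ v : ↥B, ∃ p : ↥E' × ↥T', (v : G) = p.1 * p.2 := fun v => by
    obtain ⟨hvF, hvn, hvr⟩ := hB v v.2
    obtain ⟨f, hf, k, hk, -, he⟩ := fit_norm hM hvF hvn
    rw [he, (hM.commute_fix k hk.2 f hf).symm.mul_pow] at hvr
    have hkr : k ^ r = 1 := eq_one_of_torus hM (pow_mem hk r) (by
      rw [eq_inv_of_mul_eq_one_right hvr]
      exact ((H62.GW.commute_s_of_fix hf).pow_left r).inv_left)
    rw [hkr, mul_one] at hvr
    exact ⟨(⟨f, hf, hvr⟩, ⟨k, hk, hkr⟩), he⟩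
  choose p hp using hsplit
  refine ⟨?_, fun hfree => ?_⟩
  · refine le_trans (Nat.card_le_card_of_injective p fun a b h => Subtype.ext ?_) ?_
    · rw [hp a, hp b, h]
    · rw [Nat.card_prod, pow_two]
      exact Nat.mul_le_mul hcE hcT
  · refine le_trans (Nat.card_le_card_of_injective (fun v => (p v).2) fun a b h => ?_) hcT
    have h1 : (a : G) * (b : G)⁻¹ = (p a).1 * ((p b).1 : G)⁻¹ := by
      have h' : ((p a).2 : G) = (p b).2 := congrArg Subtype.val h
      rw [hp a, hp b, h']; group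
    exact Subtype.ext (mul_inv_eq_one.1 (hfree _ (mul_mem a.2 (inv_mem b.2))
      (h1 ▸ mul_mem (p a).1.2.1 (inv_mem (p b).1.2.1))))

/-- If `m ≠ 1` each `O_r(O)` has rank at most two. -/
theorem pCore_rank_le (hm : mNum (c ^ l) s ≠ 1) (r : ℕ) [Fact r.Prime] :
    Cfsg.PRankLE r 2 ↥(pCoreIn r (coreAt (c ^ l))) := by
  set P := pCoreIn r (coreAt (c ^ l)) with hP
  intro A hA hexp
  rw [← Subgroup.card_map_of_injective P.subtype_injective]
  set B := A.map P.subtype with hB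
  set N := normalizer (fixPart (c ^ l) s : Set G) with hN
  have hBP : B ≤ P := map_subtype_le _
  have hBr : ∀ v ∈ B, v ^ r = 1 := by
    rintro _ ⟨v, hv, rfl⟩
    exact congrArg Subtype.val (hexp v hv)
  have hBc : ∀ a ∈ B, ∀ b ∈ B, Commute a b := by
    rintro _ ⟨a, ha, rfl⟩ _ ⟨b, hb, rfl⟩
    exact congrArg Subtype.val (congrArg Subtype.val (hA.is_comm.comm ⟨a, ha⟩ ⟨b, hb⟩))
  have hPF : P ≤ fitIn (coreAt (c ^ l)) := H62.GW.pCoreIn_le_fitIn r _
  by_cases hBN : B ≤ N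
  · exact (card_le_of_fit_norm hM fun v hv => ⟨hPF (hBP hv), hBN hv, hBr v hv⟩).1
  have hPN : ¬ P ≤ N := fun h => hBN (hBP.trans h)
  have hr := (Fact.out : r.Prime)
  have hone : ∀ e ∈ fixPart (c ^ l) s, (orderOf e).Prime → orderOf e = r := by
    intro e he hp
    by_contra hne
    haveI := Fact.mk hp
    have heP : e ∈ pCoreIn (orderOf e) (coreAt (c ^ l)) :=
      H62.GW.mem_pCoreIn_of_fitIn he.1 (k := 1) (by rw [pow_one, pow_orderOf_eq_one])
    refine hPN fun w hw => mem_normalizer_of_commute hM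
      (H62.GW.coreAt_le _ (H62.GW.pCoreAt_le _ r hw)) he
      (fun h => hp.ne_one (by rw [h, orderOf_one])) ?_
    exact (H77.GW.commute_cross hne heP (H62.GW.pCoreAt_le _ _ heP) hw
      (H62.GW.pCoreAt_le _ _ hw)).symm
  have hEP := fix_le_core hM hone
  obtain ⟨e₀, he₀, he₀1⟩ := (Subgroup.bot_or_exists_ne_one _).resolve_left hM.ne
  obtain ⟨n₀, hn₀⟩ := H62.GW.exists_prime_power he₀1
  have he₁ : e₀ ^ n₀ ∈ fixPart (c ^ l) s := pow_mem he₀ n₀
  obtain ⟨u, hu, hus, hu1⟩ : ∃ u ∈ secondCore r (c ^ l), Commute u s ∧ u ≠ 1 := by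
    by_contra hno
    push Not at hno
    exact hm (complement_of_free hM he₁ (hone _ he₁ hn₀) hEP hPN hno).1
  obtain ⟨n, hn⟩ := H62.GW.exists_prime_power hu1
  have hyE : u ^ n ∈ fixPart (c ^ l) s := pow_mem (fix_mem hM (hPF hu.1) hus) n
  have hyU : u ^ n ∈ secondCore r (c ^ l) := pow_mem hu n
  have hy : orderOf (u ^ n) = r := hone _ hyE hn
  generalize u ^ n = y at hy hyE hyU
  have hy1 : y ≠ 1 := fun h => hr.ne_one (by rw [← hy, h, orderOf_one])
  have hyr : y ^ r = 1 := hy ▸ pow_orderOf_eq_one y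
  obtain ⟨-, hZT⟩ := centre_facts hM hyE hy (hEP hyE) hPN
  have hyB : y ∉ B := fun hyB => hBN fun b hb =>
    mem_normalizer_of_commute hM (H62.GW.coreAt_le _ (H62.GW.pCoreAt_le _ r (hBP hb))) hyE hy1
      (hBc b hb y hyB)
  -- `b ↦ [b, y]`
  have hZ : ∀ b ∈ B, b * y * b⁻¹ * y⁻¹ ∈ centreCore r (c ^ l) := fun b hb => by
    have h := inv_mem (hyU.2 b (hBP hb))
    rwa [show (y * b * y⁻¹ * b⁻¹)⁻¹ = b * y * b⁻¹ * y⁻¹ by group] at h
  let φ : ↥B →* G := MonoidHom.mk' (fun b => (b : G) * y * (b : G)⁻¹ * y⁻¹) fun a b => by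
    have ha := hZ a a.2
    have hb := hZ b b.2
    show (a : G) * b * y * ((a : G) * b)⁻¹ * y⁻¹ = _
    rw [show (a : G) * b * y * ((a : G) * b)⁻¹ * y⁻¹ = (a : G) * ((b : G) * y * (b : G)⁻¹ * y⁻¹) *
      (a : G)⁻¹ * ((a : G) * y * (a : G)⁻¹ * y⁻¹) by group,
      (show Commute (a : G) _ from hb.2 _ (hBP a.2)).eq, mul_inv_cancel_right]
    exact (hb.2 _ ha.1).symm
  rw [← φ.ker.card_mul_index, Subgroup.index_ker, pow_two]
  refine Nat.mul_le_mul ?_ ?_
  · rw [← Subgroup.card_map_of_injective B.subtype_injective]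
    refine (card_le_of_fit_norm hM ?_).2 ?_
    · rintro _ ⟨b, hb, rfl⟩
      exact ⟨hPF (hBP b.2), mem_normalizer_of_commute hM
        (H62.GW.coreAt_le _ (H62.GW.pCoreAt_le _ r (hBP b.2))) hyE hy1
        (mul_inv_eq_iff_eq_mul.1 (mul_inv_eq_one.1 (MonoidHom.mem_ker.1 hb))), hBr b b.2⟩
    · rintro _ ⟨b, -, rfl⟩ hbE
      by_contra hb1
      haveI := hM.fix_cyclic
      have hbo : orderOf (b : G) = r := orderOf_eq_prime (hBr b b.2) hb1
      obtain ⟨k, rfl⟩ := mem_zpowers_iff.1 (mem_zpowers_of_cyclic hbE hyE hbo hyr)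
      exact hyB (zpow_mem b.2 k)
  · haveI := hM.torus_cyclic
    refine Nat.le_of_dvd hr.pos (card_dvd_of_cyclic (T := torusPart (c ^ l) L) ?_ ?_)
    · rintro _ ⟨b, rfl⟩
      exact hZT (hZ b b.2)
    · rintro _ ⟨b, rfl⟩
      set z := φ b with hz
      have hzy : Commute z y := ((hZ b b.2).2 y (hEP hyE)).symm
      have h1 : z * y = (b : G) * y * (b : G)⁻¹ := inv_mul_cancel_right _ y
      have h2 : (z * y) ^ r = 1 := by rw [h1, conj_pow, hyr, mul_one, mul_inv_cancel]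
      rwa [hzy.mul_pow, hyr, mul_one] at h2

/-- An element of `O'` of order prime to `r` centralises `O_r(O)` if `m ≠ 1`. -/
theorem commute_pCore_of_derived (hm : mNum (c ^ l) s ≠ 1) {r : ℕ} [Fact r.Prime] {x : G}
    (hx : x ∈ ⁅coreAt (c ^ l), coreAt (c ^ l)⁆) (hxr : (orderOf x).Coprime r) :
    ∀ w ∈ pCoreIn r (coreAt (c ^ l)), Commute x w := by
  intro w hw
  by_cases hr2 : r = 2
  · subst hr2
    rw [H62.GW.pCoreIn_two_eq_bot] at hw
    rw [(mem_bot (G := G)).1 hw]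
    exact Commute.one_right x
  obtain ⟨k, hk⟩ := OddOrder.BG4.exists_pow_mem_centralizer_of_rank_two hr2
    (Components.isPGroup_pCoreIn (p := r) (coreAt (c ^ l))) (pCore_rank_le hM hm r)
    ((H62.GW.coreAt_le _).trans (H62.GW.centralizer_le_normalizer_pCoreAt _ r))
    (H62.GW.isSolvable_coreAt _) (H62.GW.odd_coreAt _) hx
  obtain ⟨n, hn⟩ := exists_pow_eq_self_of_coprime
    ((hxr.symm).pow_left k : (r ^ k).Coprime (orderOf x))
  have h : Commute (x ^ r ^ k) w := (mem_centralizer_iff.1 hk w hw).symm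
  exact hn ▸ h.pow_left n

/-- `O' ≤ F` if `m ≠ 1`. -/
theorem commutator_le_fitIn (hm : mNum (c ^ l) s ≠ 1) :
    ⁅coreAt (c ^ l), coreAt (c ^ l)⁆ ≤ fitIn (coreAt (c ^ l)) := by
  set O := coreAt (c ^ l) with hO
  intro g hg
  refine mem_of_primeParts fun p hp v hv hvp => ?_
  obtain ⟨k, hk⟩ := hvp
  haveI := Fact.mk hp
  let W : Set G := {w | ∃ r : ℕ, r.Prime ∧ r ≠ p ∧ w ∈ pCoreIn r O}
  set K := ⁅O, O⁆ ⊓ centralizer W with hK
  have hvK : v ∈ K := ⟨zpowers_le.2 hg hv, fun w hw => by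
    obtain ⟨r, hr, hrp, hw⟩ := hw
    haveI := Fact.mk hr
    refine (commute_pCore_of_derived hM hm (zpowers_le.2 hg hv) ?_ w hw).symm
    exact Nat.Coprime.coprime_dvd_left (orderOf_dvd_of_pow_eq_one hk)
      (((Nat.coprime_primes hp hr).2 (Ne.symm hrp)).pow_left k)⟩
  have hOn : O ≤ normalizer ((⁅O, O⁆ : Subgroup G) : Set G) := normalizer_commutator_ge_right O O
  have hKn : O ≤ normalizer (K : Set G) := fun o ho => M2.mem_normalizer_of_forall fun x hx =>
    ⟨Coprime.conj_mem (hOn ho) hx.1, fun w hw => by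
      obtain ⟨r, hr, hrp, hw⟩ := hw
      have hw' : o⁻¹ * w * o ∈ W := ⟨r, hr, hrp, Coprime.conj_mem'
        (H62.GW.centralizer_le_normalizer_pCoreAt _ r (H62.GW.coreAt_le _ ho)) hw⟩
      have h' := (Commute.conj_iff o).2 (show Commute (o⁻¹ * w * o) x from hx.2 _ hw')
      rw [show o * (o⁻¹ * w * o) * o⁻¹ = w by group] at h'
      exact h'⟩
  exact le_fitIn_of_central (q := p) (inf_le_left.trans (commutator_le_self O)) hKn
    (fun x hx r hr hrp w hw => (hx.2 w ⟨r, hr, hrp, hw⟩).symm)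
    (fun x hx hxp => commute_pCore_of_derived hM hm hx.1 hxp) hvK

/-- `D ≤ F` if `m = 1`. -/
theorem pairCore_le_fitIn_of_one
    (hD : pairCore (c ^ l) s ≤ ⁅coreAt (c ^ l), coreAt (c ^ l)⁆) (hm : mNum (c ^ l) s = 1) :
    pairCore (c ^ l) s ≤ fitIn (coreAt (c ^ l)) := by
  set O := coreAt (c ^ l) with hO
  set D := pairCore (c ^ l) s with hD'
  set T := torusPart (c ^ l) L with hT
  have hDO : D ≤ O := inf_le_left
  have hTO : T ≤ O := inf_le_left
  have hOF : O ≤ normalizer (fitIn O : Set G) :=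
    (H62.GW.coreAt_le _).trans (H62.GW.centralizer_le_normalizer_fit _)
  have hTF : T ≤ normalizer (fitIn O : Set G) := hTO.trans hOF
  set M := fitIn O ⊔ T with hM'
  have hMO : M ≤ O := sup_le (map_subtype_le _) hTO
  have hgen : O ≤ M ⊔ D := by
    refine (relIndex_eq_one.1 hm).trans (sup_le (le_sup_left.trans le_sup_left) ?_)
    intro x hx
    obtain ⟨k, hk, d, hd, rfl⟩ := hM.split x hx.1 hx.2
    exact mul_mem_sup (le_sup_right (a := fitIn O) hk) hd
  have hMn : O ≤ normalizer (M : Set G) := by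
    refine hgen.trans (sup_le le_normalizer fun d hd => M2.mem_normalizer_of_forall fun x hx => ?_)
    obtain ⟨f, hf, k, hk, rfl⟩ := (Coprime.mem_sup_iff hTF).1 hx
    rw [show d * (f * k) * d⁻¹ = (d * f * d⁻¹) * (d * k * d⁻¹) by group]
    have hdC : d ∈ centralizer ({c ^ l} : Set G) := H62.GW.coreAt_le _ (hDO hd)
    exact mul_mem_sup (H62.GW.conj_mem_fit hdC hf)
      ⟨Coprime.conj_mem (H62.GW.centralizer_le_normalizer_coreAt _ hdC) hk.1,
        Coprime.conj_mem (hM.layer_norm d hdC (hM.pair_norm hd)) hk.2⟩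
  set K := M.subgroupOf O with hK
  haveI : K.Normal := normal_subgroupOf_of_le_normalizer hMn
  have hKtop : K = ⊤ := by
    by_contra hne
    haveI : Group.IsSolvable ↥O := H62.GW.isSolvable_coreAt _
    haveI : Group.IsSolvable (↥O ⧸ K) :=
      Group.isSolvable_of_surjective (QuotientGroup.mk'_surjective K)
    haveI : Nontrivial (↥O ⧸ K) := QuotientGroup.nontrivial_iff.2 hne
    refine (Group.IsSolvable.commutator_lt_top_of_nontrivial (↥O ⧸ K)).ne (top_le_iff.1 ?_)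
    intro z _
    obtain ⟨⟨x, hx⟩, rfl⟩ := QuotientGroup.mk'_surjective K z
    obtain ⟨a, ha, b, hb, hxe⟩ :=
      (Coprime.mem_sup_iff (hDO.trans hMn)).1 (hgen hx)
    have hb' : (⟨b, hDO hb⟩ : ↥O) ∈ _root_.commutator ↥O := by
      have h := hD hb
      rw [← map_subtype_commutator] at h
      obtain ⟨w, hw, hwe⟩ := h
      exact (Subtype.ext hwe : w = ⟨b, hDO hb⟩) ▸ hw
    have ha' : (⟨a, hMO ha⟩ : ↥O) ∈ K := ha
    rw [show (⟨x, hx⟩ : ↥O) = ⟨a, hMO ha⟩ * ⟨b, hDO hb⟩ from Subtype.ext hxe.symm, map_mul,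
      QuotientGroup.mk'_apply, (QuotientGroup.eq_one_iff (N := K) _).2 ha', one_mul]
    have hm' := mem_map_of_mem (QuotientGroup.mk' K) hb'
    rw [_root_.commutator_def, Subgroup.map_commutator,
      map_top_of_surjective _ (QuotientGroup.mk'_surjective K)] at hm'
    rw [_root_.commutator_def]
    exact hm'
  intro d hd
  obtain ⟨f, hf, k, hk, he⟩ :=
    (Coprime.mem_sup_iff hTF).1 ((subgroupOf_eq_top.1 hKtop : O ≤ M) (hDO hd))
  have hsd : s * d * s⁻¹ = d := by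
    rw [← (mem_centralizer_singleton_iff.1 hd.2 : d * s = s * d), mul_inv_cancel_right]
  have hkk : k * k = f⁻¹ * (s * f * s⁻¹) := by
    have h1 : s * f * s⁻¹ * k⁻¹ = f * k := by
      calc s * f * s⁻¹ * k⁻¹ = s * f * s⁻¹ * (s * k * s⁻¹) := by rw [hM.torus_inverted k hk]
        _ = s * (f * k) * s⁻¹ := by group
        _ = f * k := by rw [he, hsd]
    calc k * k = f⁻¹ * (f * k) * k := by group
      _ = f⁻¹ * (s * f * s⁻¹ * k⁻¹) * k := by rw [h1]
      _ = _ := by group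
  obtain ⟨n, hn⟩ := H62.GW.sq_pow_self (odd_of_mem_core hM (hTO hk))
  rw [← he]
  refine mul_mem hf (hn ▸ pow_mem ?_ n)
  rw [hkk]
  exact mul_mem (inv_mem hf) (H62.GW.conj_mem_fit (s_mem_cent hM) hf)

/-- `D = E`. -/
theorem pairCore_eq_fixPart (hc : ∀ o ∈ coreAt (c ^ l), Commute c o) :
    pairCore (c ^ l) s = fixPart (c ^ l) s := by
  refine le_antisymm (fun d hd => ⟨?_, hd.2⟩) (H62.GW.fixPart_le_pairCore _ _)
  have hD := pairCore_le_commutator hM hc
  by_cases hm : mNum (c ^ l) s = 1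
  · exact pairCore_le_fitIn_of_one hM hD hm hd
  · exact commutator_le_fitIn hM hm (hD hd)

omit hM in
/-- **PairFit.** -/
theorem pairFit : H62.GW.PairFitHyp G :=
  fun _ _ _ _ _ hM hc _ _ _ _ _ _ => pairCore_eq_fixPart hM hc

omit hM in
theorem boundHyp : H62.GW.BoundHyp G := fun _ _ _ _ _ hM _ => mixed_bound hM

end Cfsg.Agent.H80.GW
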