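import Cfsg.Agent.H80.GW.SwapKill
import Cfsg.Agent.H82.GW.Layer
import Cfsg.Agent.H99.GW.KleinM2
import Cfsg.Agent.H84.ConstantMinus

/-!
# GW programme, M2: the pure case of `MaxStep`

`C(t)` maximal, both `D` and `D'` nontrivial and every `O_r(O(C(t)))` centralised or inverted by
`s` and by `c * s`: a nontrivial linear character of `O / F(O)` is stable, so `O` is abelian, and
then `D` is normal in `C(t)`, against the element fusing `⟨t, s⟩`.
-/

set_option autoImplicit false
set_option linter.unusedSectionVars false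
set_option linter.style.haveILetI false

namespace Cfsg.Agent.H80.GW.M2

open Subgroup Cfsg.Agent
open Cfsg.Agent.GW (Cfg coreAt coreIn pairCore CentMax Fuses LinearCharStep)
open Cfsg.Agent.Components (pCoreIn fitIn)
open Cfsg.Agent.H62.GW (odd_orderOf_of_mem eq_one_of_inverted conj_mem_coreAt coreAt_le odd_coreAt
  mem_coreAt_of_odd)

universe u

variable {G : Type u} [Group G] [Finite G] {S : Sylow 2 G} {l : ℕ} {c s : G}

theorem c_mem_normalizer_of_sq (h : Cfg S l c s)
    (hsq : ∀ o ∈ coreAt (c ^ l), Commute (c * c) o) :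
    c ∈ normalizer (pairCore (c ^ l) s : Set G) := by
  have hct : Commute c (c ^ l) := (Commute.refl c).pow_right l
  refine mem_normalizer_of_forall fun v hv => Subgroup.mem_inf.2 ⟨conj_mem_coreAt hct hv.1, ?_⟩
  have h1 : Commute (c * v * c⁻¹) (c * s * c⁻¹) :=
    (Commute.conj_iff c).2 (mem_centralizer_singleton_iff.1 hv.2)
  have h2 : c * s * c⁻¹ = c * c * s := by
    have h0 := h.gen.conj_reflection 0 1
    rwa [zpow_one, zpow_zero, one_mul, zero_add, mul_one, zpow_two] at h0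
  rw [h2] at h1
  refine mem_centralizer_singleton_iff.2 (show Commute (c * v * c⁻¹) s from ?_).eq
  simpa [mul_assoc] using ((hsq _ (conj_mem_coreAt hct hv.1)).symm.inv_right).mul_right h1

/-- An abelian core is impossible. -/
theorem false_of_abelian (h : Cfg S l c s) (hmax : CentMax l c) (hne : pairCore (c ^ l) s ≠ ⊥)
    (hsq : ∀ o ∈ coreAt (c ^ l), Commute (c * c) o)
    (hab : ∀ x ∈ coreAt (c ^ l), ∀ y ∈ coreAt (c ^ l), Commute x y) : False := by
  obtain ⟨g, hg⟩ := H61.GW.exists_fuses_left h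
  refine not_normalized h hmax hne inf_le_left (fun x hx => ?_) hg (ne_z_of_out h).1
    (fuses_mem_normalizer_pairCore h hg)
  obtain ⟨o, ho, σ, hσ, rfl⟩ :=
    exists_centralizer_decomp h (mem_centralizer_singleton_iff.1 hx : x * c ^ l = c ^ l * x)
  have hcn := c_mem_normalizer_of_sq h hsq
  have hsn : s ∈ normalizer (pairCore (c ^ l) s : Set G) :=
    mem_normalizer_pairCore (h.gen.z_central h.gen.mem_s) (Or.inl (mul_inv_cancel_right s s))
  refine mul_mem (mem_normalizer_of_forall fun v hv => ?_) ?_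
  · rw [(hab o ho v hv.1).eq, mul_inv_cancel_right]
    exact hv
  · rcases h.gen.cases σ hσ with hc | hc
    · exact zpowers_le.2 hcn hc
    · simpa using mul_mem (zpowers_le.2 hcn hc) (inv_mem hsn)

theorem commutator_ne_top_of_solvable {K : Subgroup G} (hK : Odd (Nat.card K)) (hne : K ≠ ⊥) :
    commutator K ≠ ⊤ := by
  haveI := S0205.result hK
  haveI := (nontrivial_iff_ne_bot K).2 hne
  exact (Group.IsSolvable.commutator_lt_top_of_nontrivial K).ne

/-- `O ≠ F(O)`. -/
theorem fitting_ne_top (h : Cfg S l c s) (hmax : CentMax l c) (hs : ActsPM (c ^ l) s)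
    (hne : pairCore (c ^ l) s ≠ ⊥) : Cfsg.fittingSubgroup ↥(coreAt (c ^ l)) ≠ ⊤ := by
  intro htop
  obtain ⟨g, hg⟩ := H61.GW.exists_fuses_left h
  have e : pairCore (c ^ l) s = cenPart (c ^ l) s := by
    refine le_antisymm (fun d hd => mem_cenPart_of_fitIn hs ?_ (mem_centralizer_singleton_iff.1 hd.2))
      (cenPart_le_pairCore _ _)
    exact ⟨⟨d, hd.1⟩, htop ▸ mem_top _, rfl⟩
  exact not_normalized h hmax hne inf_le_left (e ▸ centralizer_le_normalizer_cenPart) hg
    (ne_z_of_out h).1 (fuses_mem_normalizer_pairCore h hg)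

/-- Without swapped primes `c` centralises `D` when `|S| = 8`. -/
theorem commute_c_of_no_swap (h : Cfg S 2 c s) (hmax : CentMax 2 c) (hs : ActsPM (c ^ 2) s)
    (hcs : ActsPM (c ^ 2) (c * s)) : ∀ x ∈ pairCore (c ^ 2) s, Commute c x := by
  refine commute_c_pairCore h hs hcs fun r hr hrs => ?_
  rcases hcs r hr with hc | hi
  · exact hc
  by_cases hb : pCoreIn r (coreAt (c ^ 2)) = ⊥
  · intro v hv
    rw [hb, mem_bot] at hv
    rw [hv]
    exact Commute.one_left _
  haveI := Fact.mk hr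
  exact (false_of_swap h hmax hs hcs hb hrs hi).elim

/-- The element swapping both reflections with their products by `t`. -/
theorem exists_halving (h : Cfg S l c s) (hmax : CentMax l c) (hs : ActsPM (c ^ l) s)
    (hcs : ActsPM (c ^ l) (c * s)) {m : ℕ} (hm : l = m + m) :
    (∀ v ∈ pairCore (c ^ l) s, Commute (c ^ m) v) ∧
      ∀ v ∈ pairCore (c ^ l) (c * s), Commute (c ^ m) v := by
  have hsq : ∀ o ∈ coreAt (c ^ l), Commute (c * c) o :=
    commute_mul_self h.gen.mem_c (sylow_le_pmSub h hs hcs h.gen.mem_c)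
  rcases Nat.even_or_odd' m with ⟨j, hj | hj⟩
  · have key : ∀ v ∈ coreAt (c ^ l), Commute (c ^ m) v := fun v hv => by
      rw [hj, pow_mul, pow_two]
      exact (hsq v hv).pow_left j
    exact ⟨fun v hv => key v hv.1, fun v hv => key v hv.1⟩
  · have hl : l = 2 := by
      haveI : Fact (Nat.Prime 2) := ⟨Nat.prime_two⟩
      obtain ⟨n, hn⟩ := IsPGroup.iff_card.1 S.isPGroup'
      have hd : 2 * l ∣ 2 ^ n := by
        rw [← hn, ← h.gen.oc]
        have := orderOf_dvd_natCard (⟨c, h.gen.mem_c⟩ : (S : Subgroup G))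
        rwa [Subgroup.orderOf_mk] at this
      have hmd : m ∣ 2 ^ n := (dvd_trans ⟨4, by omega⟩ hd : m ∣ 2 ^ n)
      obtain ⟨k, -, hk⟩ := (Nat.dvd_prime_pow Nat.prime_two).1 hmd
      rcases k with _ | k
      · rw [pow_zero] at hk; omega
      · rw [pow_succ] at hk; omega
    subst hl
    have hm1 : m = 1 := by omega
    subst hm1
    rw [pow_one]
    refine ⟨commute_c_of_no_swap h hmax hs hcs, fun v hv => ?_⟩
    exact commute_c_of_no_swap (H4.GW.cfg_swap h) hmax hcs (actsPM_swap h hs hcs) v hv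

/-- **The pure case.** -/
theorem false_of_pure (h : Cfg S l c s) (hmax : CentMax l c) (hne : pairCore (c ^ l) s ≠ ⊥)
    (hs : ActsPM (c ^ l) s) (hcs : ActsPM (c ^ l) (c * s)) (hC : LinearCharStep (G := G)) :
    False := by
  classical
  have hD := h.gen
  have hm : (S : Subgroup G) ≤ pmSub (c ^ l) := sylow_le_pmSub h hs hcs
  have hss : s * s = 1 := H39.mul_self_of_orderOf_eq_two hD.os
  have hsq : ∀ o ∈ coreAt (c ^ l), Commute (c * c) o := commute_mul_self hD.mem_c (hm hD.mem_c)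
  refine false_of_abelian h hmax hne hsq ?_
  rcases Nat.eq_or_lt_of_le (show 1 ≤ l from hD.lpos) with hl | hl
  · -- a four group
    subst hl
    obtain ⟨θ, hθ⟩ := H61.GW.exists_fuses_left h
    have hsm := hm hD.mem_s
    simp only [pow_one] at hθ hne hsm ⊢
    have hDle : pairCore c s ≤ coreAt c := inf_le_left
    have himp := commutator_ne_top_of_solvable (K := pairCore c s)
      ((odd_coreAt c).of_dvd_nat (card_dvd_of_le hDle)) hne
    exact H99.GW.abelian_of_pure_klein S c s θ h hθ.1 hθ.2 (invPart c s) (invPart_le c s)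
      (fun g hg a ha => Coprime.conj_mem
        (centralizer_le_normalizer_invPart (mem_centralizer_singleton_iff.2 hg)) ha)
      invPart_inf_pairCore (fun y hy => exists_decomp hsm hss hy) himp
  -- `|S| ≥ 8`
  obtain ⟨m, hlm⟩ : ∃ m, l = m + m := by
    haveI : Fact (Nat.Prime 2) := ⟨Nat.prime_two⟩
    obtain ⟨n, hn⟩ := IsPGroup.iff_card.1 S.isPGroup'
    have hd : 2 * l ∣ 2 ^ n := by
      rw [← hn, ← hD.oc]
      have := orderOf_dvd_natCard (⟨c, hD.mem_c⟩ : (S : Subgroup G))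
      rwa [Subgroup.orderOf_mk] at this
    obtain ⟨k, -, hk⟩ := (Nat.dvd_prime_pow Nat.prime_two).1 (dvd_trans (dvd_mul_left l 2) hd)
    rcases k with _ | k
    · rw [pow_zero] at hk; omega
    · exact ⟨2 ^ k, by rw [hk, pow_succ]; ring⟩
  obtain ⟨hwD, hwD'⟩ := exists_halving h hmax hs hcs hlm
  have hwt : Commute (c ^ m) (c ^ l) := (Commute.refl c).pow_pow m l
  have hws : c ^ m * s * (c ^ m)⁻¹ = c ^ l * s := by
    have h0 := hD.conj_reflection 0 m
    rw [zpow_zero, one_mul, zero_add, zpow_natCast,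
      show (2 : ℤ) * (m : ℤ) = ((l : ℕ) : ℤ) by rw [hlm]; push_cast; ring, zpow_natCast] at h0
    exact h0
  have hwcs : c ^ m * (c * s) * (c ^ m)⁻¹ = c ^ l * (c * s) := by
    have h1 : Commute (c ^ m) c := (Commute.refl c).pow_left m
    calc c ^ m * (c * s) * (c ^ m)⁻¹ = c * (c ^ m * s * (c ^ m)⁻¹) := by
          rw [← mul_assoc (c ^ m) c, h1.eq]; group
      _ = c ^ l * (c * s) := by
        rw [hws, ← mul_assoc, ← mul_assoc, ((Commute.refl c).pow_right l).eq]
  obtain ⟨g₀, hg₀⟩ := H61.GW.exists_fuses_left h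
  obtain ⟨g₁, hg₁⟩ := H61.GW.exists_fuses_right h
  have hθ := fuses_swap hg₀ (t_mul_self h) (commute_t_s h) hwt hws
  have hθc := commute_swap_of_fix (fuses_mem_normalizer_pairCore h hg₀) hwD
  have hθ' := fuses_swap hg₁ (t_mul_self h) (commute_t_cs h) hwt hwcs
  have hθc' := commute_swap_of_fix (fuses_mem_normalizer_pairCore h hg₁) hwD'
  set θ := c ^ m * g₀ * c ^ m * g₀⁻¹
  set θ' := c ^ m * g₁ * c ^ m * g₁⁻¹
  set t := c ^ l with ht
  set O := coreAt t with hO
  -- a linear character of `O / F(O)`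
  have hK := fitting_ne_top h hmax hs hne
  set K := Cfsg.fittingSubgroup ↥O with hKdef
  haveI : Group.IsSolvable ↥O := S0205.result (odd_coreAt t)
  haveI : Group.IsSolvable (↥O ⧸ K) := solvable_of_surjective (QuotientGroup.mk'_surjective K)
  haveI : Nontrivial (↥O ⧸ K) := (QuotientGroup.nontrivial_iff).2 hK
  obtain ⟨μ, hμ⟩ := H84.exists_hom_ne_one_of_imperfect
    (Group.IsSolvable.commutator_lt_top_of_nontrivial (↥O ⧸ K)).ne
  let μ' : ↥O →* ℂˣ := μ.comp (QuotientGroup.mk' K)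
  let ψ : G → ℂ := fun y => if hy : y ∈ O then ((μ' ⟨y, hy⟩ : ℂˣ) : ℂ) else 0
  have hψO : ∀ y (hy : y ∈ O), ψ y = ((μ' ⟨y, hy⟩ : ℂˣ) : ℂ) := fun y hy => dif_pos hy
  have hψ1 : ψ 1 = 1 := by
    rw [hψO 1 (one_mem _), show (⟨1, one_mem _⟩ : ↥O) = 1 from rfl, map_one, Units.val_one]
  have hψmul : ∀ x ∈ O, ∀ y ∈ O, ψ (x * y) = ψ x * ψ y := fun x hx y hy => by
    rw [hψO x hx, hψO y hy, hψO _ (mul_mem hx hy), ← Units.val_mul, ← map_mul]
    rfl
  have hψF : ∀ f ∈ fitIn O, ψ f = 1 := by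
    rintro f ⟨f', hf', rfl⟩
    show ψ (f' : G) = 1
    rw [hψO _ f'.2]
    show ((μ (QuotientGroup.mk' K f') : ℂˣ) : ℂ) = 1
    rw [QuotientGroup.mk'_apply, (QuotientGroup.eq_one_iff f').2 hf', map_one, Units.val_one]
  have hψnt : ∃ x ∈ O, ψ x ≠ 1 := by
    by_contra! hh
    refine hμ (MonoidHom.ext fun q => ?_)
    obtain ⟨⟨x, hx⟩, rfl⟩ := QuotientGroup.mk'_surjective K q
    refine Units.ext ?_
    have := hh x hx
    rw [hψO x hx] at this
    exact this
  have hinv : ∀ x y : G, Commute x t → y ∈ O → ψ (x * y * x⁻¹) = ψ y := by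
    intro x y hx hy
    obtain ⟨o, ho, σ, hσ, rfl⟩ := exists_centralizer_decomp h hx
    have hσt : Commute σ t := hD.z_central hσ
    have hyσ : σ * y * σ⁻¹ ∈ O := conj_mem_coreAt hσt hy
    have e1 : ψ (σ * y * σ⁻¹) = ψ y := by
      calc ψ (σ * y * σ⁻¹) = ψ ((σ * y * σ⁻¹ * y⁻¹) * y) := by rw [inv_mul_cancel_right]
        _ = ψ y := by
          rw [hψmul _ (mul_mem hyσ (inv_mem hy)) _ hy, hψF _ (conj_mul_inv_mem_fitIn (hm hσ) hy),
            one_mul]
    rw [show o * σ * y * (o * σ)⁻¹ = o * (σ * y * σ⁻¹) * o⁻¹ by group,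
      hψmul _ (mul_mem ho hyσ) _ (inv_mem ho), hψmul _ ho _ hyσ, mul_right_comm,
      ← hψmul _ ho _ (inv_mem ho), mul_inv_cancel, hψ1, one_mul, e1]
  have hstable : H15.GW.StableDatum t ψ := by
    refine ⟨hD.z_order, fun w hw => H61.GW.isConj_z h hw,
      fun x y hx hyt hyo => hinv x y hx (mem_coreAt_of_odd h hyt hyo),
      fun g y hgc hyt hyo hyw => ?_⟩
    have hy : y ∈ O := mem_coreAt_of_odd h hyt hyo
    set w := g * t * g⁻¹ with hwdef
    by_cases hwt' : w = t
    · have hgt : Commute g t := mul_inv_eq_iff_eq_mul.1 hwt'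
      simpa using hinv g⁻¹ y hgt.inv_left hy
    have hw2 : orderOf w = 2 := by rw [hwdef, H39.orderOf_conj, hD.z_order]
    have hww := H39.mul_self_of_orderOf_eq_two hw2
    obtain ⟨o, ho, σ, hσ, hwσ⟩ := exists_centralizer_decomp h (show Commute w t from hgc)
    have hσt : Commute σ t := hD.z_central hσ
    have h5 : o * (σ * o * σ⁻¹) * (σ * σ) = 1 := by rw [← hww, hwσ]; group
    have hσ2 : σ * σ = 1 := by
      refine eq_one_of_mem_core (mul_mem hσ hσ) (t := t) ?_
      rw [← inv_eq_of_mul_eq_one_right h5]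
      exact inv_mem (mul_mem ho (conj_mem_coreAt hσt ho))
    have hoi : σ * o * σ⁻¹ = o⁻¹ := by
      rw [hσ2, mul_one] at h5
      exact (inv_eq_of_mul_eq_one_right h5).symm
    have hoo : Odd (orderOf o) := odd_orderOf_of_mem (odd_coreAt t) ho
    obtain ⟨i, hi⟩ : ∃ i : ℤ, σ = c ^ i * s := by
      rcases hD.cases σ hσ with hc | hc
      · exfalso
        rcases hD.sq_one_cases hc hσ2 with e | e
        · rw [e, mul_one] at hwσ
          refine H39.ne_one_of_orderOf_eq_two hw2 (H62.GW.eq_one_of_odd ?_ hww)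
          rwa [hwσ]
        · have hσ' : σ = t := e
          rw [hσ', ← (commute_coreAt_t ho).eq, mul_inv_cancel_right] at hoi
          have ho1 : o = 1 := H62.GW.eq_one_of_odd hoo (mul_eq_one_iff_eq_inv.2 hoi)
          rw [ho1, one_mul, hσ'] at hwσ
          exact hwt' hwσ
      · obtain ⟨i, hi⟩ := mem_zpowers_iff.1 hc
        exact ⟨i, by rw [hi, mul_assoc, hss, mul_one]⟩
    obtain ⟨k, hk⟩ := H62.GW.sq_pow_self hoo
    set u := o ^ k with hu
    have huu : u * u = o := by rw [hu, ← (Commute.refl o).mul_pow]; exact hk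
    have huO : u ∈ O := pow_mem ho k
    have huσ : u * σ * u⁻¹ = w := by
      have h1 : σ * u * σ⁻¹ = u⁻¹ := by rw [hu, ← conj_pow, hoi, inv_pow]
      calc u * σ * u⁻¹ = u * (σ * u * σ⁻¹)⁻¹ * σ := by group
        _ = u * u * σ := by rw [h1, inv_inv]
        _ = w := by rw [huu, hwσ]
    obtain ⟨j, r, hr, hσr⟩ : ∃ (j : ℤ) (r : G), (r = s ∨ r = c * s) ∧
        σ = c ^ j * r * (c ^ j)⁻¹ := by
      rcases Int.even_or_odd' i with ⟨j, hj | hj⟩
      · refine ⟨j, s, Or.inl rfl, ?_⟩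
        have h0 := hD.conj_reflection 0 j
        rw [zpow_zero, one_mul, zero_add] at h0
        rw [h0, hi, hj]
      · refine ⟨j, c * s, Or.inr rfl, ?_⟩
        have h0 := hD.conj_reflection 1 j
        rw [zpow_one, add_comm] at h0
        rw [h0, hi, hj]
    have hcjt : Commute (c ^ j) t := ((Commute.refl c).zpow_left j).pow_right l
    set a := u * c ^ j with ha
    have hat : Commute a t := (commute_coreAt_t huO).mul_left hcjt
    have haw : a * r * a⁻¹ = w := by
      calc a * r * a⁻¹ = u * (c ^ j * r * (c ^ j)⁻¹) * u⁻¹ := by rw [ha]; group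
        _ = w := by rw [← hσr, huσ]
    set y' := a⁻¹ * y * a with hy'
    have hy'O : y' ∈ O := by simpa using conj_mem_coreAt hat.inv_left hy
    have hy'r : y' ∈ pairCore t r := Subgroup.mem_inf.2 ⟨hy'O, mem_centralizer_singleton_iff.2 (by
      have hyw' : Commute y (a * r * a⁻¹) := haw ▸ hyw
      calc y' * r = a⁻¹ * (y * (a * r * a⁻¹)) * a := by rw [hy']; group
        _ = a⁻¹ * ((a * r * a⁻¹) * y) * a := by rw [hyw'.eq]
        _ = r * y' := by rw [hy']; group)⟩
    obtain ⟨η, hη, hηc⟩ : ∃ η, η * t * η⁻¹ = r ∧ Commute η y' := by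
      rcases hr with rfl | rfl
      · exact ⟨θ, hθ.1, hθc y' hy'r⟩
      · exact ⟨θ', hθ'.1, hθc' y' hy'r⟩
    set b := η⁻¹ * a⁻¹ * g with hb
    have hbt : Commute b t := mul_inv_eq_iff_eq_mul.1 (by
      calc b * t * b⁻¹ = η⁻¹ * (a⁻¹ * w * a) * η := by rw [hb, hwdef]; group
        _ = η⁻¹ * r * η := by rw [← haw]; group
        _ = t := by rw [← hη]; group)
    have e1 : g⁻¹ * y * g = b⁻¹ * y' * b := by
      calc g⁻¹ * y * g = b⁻¹ * (η⁻¹ * (a⁻¹ * y * a) * η) * b := by rw [hb]; group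
        _ = b⁻¹ * y' * b := by rw [← hy', hηc.inv_left.eq, inv_mul_cancel_right]
    rw [e1]
    have e2 := hinv b⁻¹ y' hbt.inv_left hy'O
    rw [inv_inv] at e2
    rw [e2, hy']
    simpa using hinv a⁻¹ y hat.inv_left hy
  exact hC S l c s h ψ hstable hψmul hψ1 hψnt

end Cfsg.Agent.H80.GW.M2
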