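import Cfsg.Agent.H36.GW.FusePSL
import Cfsg.Agent.H36.Alt7Involution
import Cfsg.Agent.H62.GW.PSLFacts
import Cfsg.Agent.H80.GW.PureBasics
import Mathlib.Data.Fintype.Perm

/-!
# GW programme, M2: a four group with a centralised element of odd order inverted by an involution

In a core-free group of dihedral type with known simple sections this happens only in `A₇`.
-/

set_option autoImplicit false
set_option linter.unusedSectionVars false
set_option linter.style.haveILetI false

namespace Cfsg.Agent.H80.GW.M2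

open Subgroup Cfsg.Agent
open Cfsg.Agent.H63.GW (SylowDType PerfectHyp SimpleShape)

universe u

variable {Y : Type u} [Group Y] [Finite Y]

theorem perm_four_check : ∀ y : Equiv.Perm (Fin 4), y * y * y = 1 →
    ∀ a : Equiv.Perm (Fin 4), (a * a = 1 ∧ a ≠ 1 ∧ y * a = a * y) →
    ∀ b : Equiv.Perm (Fin 4), (b * b = 1 ∧ b ≠ 1 ∧ y * b = b * y ∧ a * b = b * a ∧ a ≠ b) →
      y = 1 := by
  decide +kernel

/-- Inside `S₄` a four group is centralised by no element of odd order. -/
theorem eq_one_of_perm_four (f : Y →* Equiv.Perm (Fin 4)) (hf : Function.Injective f) {a b y : Y}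
    (ha : a * a = 1) (ha1 : a ≠ 1) (hb : b * b = 1) (hb1 : b ≠ 1) (hne : a ≠ b) (hab : Commute a b)
    (hy : Odd (orderOf y)) (hya : Commute y a) (hyb : Commute y b) : y = 1 := by
  refine hf ?_
  rw [map_one]
  have h24 : orderOf (f y) ∣ 24 := by
    have h := orderOf_dvd_natCard (f y)
    rw [Nat.card_perm, Nat.card_fin] at h
    exact h.trans (by norm_num [Nat.factorial])
  have hodd : Odd (orderOf (f y)) := by rwa [orderOf_injective f hf]
  have h3 : orderOf (f y) ∣ 3 := by
    have : (orderOf (f y)).Coprime 8 := by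
      rw [show (8 : ℕ) = 2 ^ 3 by norm_num]
      exact (Nat.coprime_two_right.2 hodd).pow_right 3
    exact this.dvd_of_dvd_mul_left h24
  have hy3 : f y * f y * f y = 1 := by
    rw [mul_assoc, ← pow_two, ← pow_succ']
    exact orderOf_dvd_iff_pow_eq_one.1 h3
  exact perm_four_check (f y) hy3 (f a)
    ⟨by rw [← map_mul, ha, map_one], fun h => ha1 (hf (h.trans (map_one f).symm)),
      by rw [← map_mul, ← map_mul, hya.eq]⟩ (f b)
    ⟨by rw [← map_mul, hb, map_one], fun h => hb1 (hf (h.trans (map_one f).symm)),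
      by rw [← map_mul, ← map_mul, hyb.eq], by rw [← map_mul, ← map_mul, hab.eq],
      fun h => hne (hf h)⟩

/-- Only `A₇` is left. -/
theorem equiv_alt_seven (hD : SylowDType Y) (hO : Cfsg.oddCore Y = ⊥) (hP : PerfectHyp Y)
    {a b u y : Y} (ha : a * a = 1) (ha1 : a ≠ 1) (hb : b * b = 1) (hb1 : b ≠ 1) (hne : a ≠ b)
    (hab : Commute a b) (hy1 : y ≠ 1) (hyo : Odd (orderOf y)) (hya : Commute y a) (hyb : Commute y b)
    (huu : u * u = 1) (huy : u * y * u⁻¹ = y⁻¹) : Nonempty (Y ≃* alternatingGroup (Fin 7)) := by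
  rcases H63.GW.shape_cases hD hO hP with h2 | ⟨⟨e⟩⟩ | ⟨⟨e⟩⟩ | ⟨L, hLn, hL, hC⟩
  · obtain ⟨k, hk⟩ := h2 y
    exact absurd (orderOf_eq_one_iff.1 (Nat.eq_one_of_dvd_coprimes
      (Nat.Coprime.pow_left k (Nat.coprime_two_left.2 hyo)) (orderOf_dvd_of_pow_eq_one hk) dvd_rfl)) hy1
  · exact absurd (eq_one_of_perm_four ((alternatingGroup (Fin 4)).subtype.comp e.toMonoidHom)
      ((alternatingGroup (Fin 4)).subtype_injective.comp e.injective) ha ha1 hb hb1 hne hab hyo hya
      hyb) hy1
  · exact absurd (eq_one_of_perm_four e.toMonoidHom e.injective ha ha1 hb hb1 hne hab hyo hya hyb) hy1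
  · haveI := hLn
    rcases hL with ⟨F, _, _, hodd, -, ⟨e⟩⟩ | ⟨⟨e⟩⟩
    · have hyL : y ∈ L := H62.GW.mem_of_inverted e hD hodd hC huu huy hyo
      rcases H36.GW.psl_centralizer_pair e hD hodd hC ha ha1 hb hb1 hne hab
        (H4.GW.le_ker e hyL) hya hyb with r | r | r | r
      · exact absurd r hy1
      all_goals
        refine absurd ?_ hy1
        refine H62.GW.eq_one_of_odd hyo ?_
        subst r
      · exact ha
      · exact hb
      · rw [mul_assoc, ← mul_assoc b, ← hab.eq, mul_assoc a b, hb, mul_one, ha]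
    · have htop := H4.GW.alt_shape hD hC e
      exact ⟨(Subgroup.topEquiv.symm.trans (MulEquiv.subgroupCongr htop.symm)).trans e⟩

theorem dvd_three {n : ℕ} (h : n ∣ 24) (ho : Odd n) : n ∣ 3 := by
  have : n.Coprime 8 := by
    rw [show (8 : ℕ) = 2 ^ 3 by norm_num]
    exact (Nat.coprime_two_right.2 ho).pow_right 3
  exact this.dvd_of_dvd_mul_left h

/-- The centraliser of an involution of `A₇` with the element of order three. -/
theorem alt_seven_facts (e : Y ≃* alternatingGroup (Fin 7)) {a b y : Y}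
    (ha : a * a = 1) (ha1 : a ≠ 1) (hy1 : y ≠ 1) (hyo : Odd (orderOf y)) (hya : Commute y a)
    (hyb : Commute y b) :
    orderOf y = 3 ∧ (∀ x : Y, Odd (orderOf x) → Commute x a → x ∈ zpowers y) ∧
      ∀ x : Y, Odd (orderOf x) → Commute x a → b * x * b⁻¹ = x⁻¹ → x = 1 := by
  haveI : Fact (Nat.Prime 2) := ⟨Nat.prime_two⟩
  haveI : Fact (Nat.Prime 3) := ⟨Nat.prime_three⟩
  haveI : IsSimpleGroup (alternatingGroup (Fin 7)) := alternatingGroup.isSimpleGroup (by simp)
  haveI : IsSimpleGroup Y := e.isSimpleGroup_congr.2 inferInstance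
  have hn : Nat.card Y = 2520 := by
    rw [Nat.card_congr e.toEquiv, nat_card_alternatingGroup, Nat.card_fin]
    norm_num [Nat.factorial]
  have hG : ¬ IsMulCommutative Y := fun h => by
    have h1 : Nat.Prime (Nat.card Y) := by
      let _ : CommGroup Y := { (inferInstance : Group Y) with mul_comm := h.is_comm.comm }
      exact IsSimpleGroup.prime_card
    rw [hn] at h1
    norm_num at h1
  have hao : orderOf a = 2 := H39.orderOf_eq_two_of_mul_self ha ha1
  obtain ⟨h24, M, v, haM, -, -, hv3, -, huniq⟩ := H36.Alt7.exists_local hn hG hao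
  have hdvd : ∀ x : Y, Odd (orderOf x) → Commute x a → orderOf x ∣ 3 := by
    intro x hx hxa
    refine dvd_three ?_ hx
    rw [← h24, ← Subgroup.orderOf_mk x
      (mem_centralizer_singleton_iff.2 hxa.eq : x ∈ centralizer ({a} : Set Y))]
    exact orderOf_dvd_natCard _
  have hy3 : orderOf y = 3 :=
    ((Nat.dvd_prime Nat.prime_three).1 (hdvd y hyo hya)).resolve_left
      fun h => hy1 (orderOf_eq_one_iff.1 h)
  have hzy : zpowers y = zpowers v := by
    refine eq_of_le_of_card_ge (zpowers_le.2 (huniq a haM ha1 y hya.eq hy3)) ?_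
    rw [Nat.card_zpowers, Nat.card_zpowers, hy3, hv3]
  have hmem : ∀ x : Y, Odd (orderOf x) → Commute x a → x ∈ zpowers y := by
    intro x hx hxa
    rcases (Nat.dvd_prime Nat.prime_three).1 (hdvd x hx hxa) with h | h
    · rw [orderOf_eq_one_iff.1 h]; exact one_mem _
    · rw [hzy]; exact huniq a haM ha1 x hxa.eq h
  refine ⟨hy3, hmem, fun x hx hxa hbx => H62.GW.eq_one_of_inverted hx hbx ?_⟩
  obtain ⟨i, rfl⟩ := mem_zpowers_iff.1 (hmem x hx hxa)
  exact hyb.symm.zpow_right i

end Cfsg.Agent.H80.GW.M2
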