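import Cfsg.Agent.H80.GW.SwapPrime

/-!
# GW programme, M2: the configuration left by a swapped prime

`|D| = 3 |D'|`, `c` centralises `A`, and a global element `e ∈ D ∩ D'` of order three acts without
fixed points on `A`.
-/

set_option autoImplicit false
set_option linter.unusedSectionVars false
set_option linter.style.haveILetI false

namespace Cfsg.Agent.H80.GW.M2

open Subgroup Cfsg.Agent
open Cfsg.Agent.GW (Cfg coreAt coreIn pairCore CentMax Fuses)
open Cfsg.Agent.Components (pCoreIn fitIn)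
open Cfsg.Agent.H62.GW (odd_orderOf_of_mem eq_one_of_inverted conj_mem_coreAt coreAt_le odd_coreAt)

universe u

variable {G : Type u} [Group G] [Finite G] {S : Sylow 2 G} {l : ℕ} {c s : G}

/-- What remains. -/
structure SwapData (c s e : G) : Prop where
  card_D : Nat.card (pairCore (c ^ 2) s) = 3 * Nat.card (pairCore (c ^ 2) (c * s))
  card_O : Nat.card (coreAt (c ^ 2)) =
    Nat.card (invPart (c ^ 2) s) * Nat.card (pairCore (c ^ 2) s)
  ne_bot : invPart (c ^ 2) s ≠ ⊥
  c_A : ∀ α ∈ invPart (c ^ 2) s, Commute c α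
  e_mem : e ∈ pairCore (c ^ 2) s
  e_c : Commute e c
  e_three : e ^ 3 = 1
  e_ne : e ≠ 1
  e_free : ∀ α ∈ invPart (c ^ 2) s, Commute α e → α = 1

theorem actsPM_swap (h : Cfg S l c s) (hs : ActsPM (c ^ l) s) (hcs : ActsPM (c ^ l) (c * s)) :
    ActsPM (c ^ l) (c * (c * s)) :=
  (sylow_le_pmSub h hs hcs (mul_mem h.gen.mem_c (mul_mem h.gen.mem_c h.gen.mem_s))).2

/-- Elements of `C(t) ∩ C(s)` centralise a swapped `O₃(O)`. -/
theorem commute_of_commute_pair (h : Cfg S 2 c s) {F : Subgroup G}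
    (hFO : F ≤ coreAt (c ^ 2)) (hFs : ∀ v ∈ F, Commute v s)
    (hcen : ∀ o ∈ coreAt (c ^ 2), ∀ v ∈ F, Commute o v) {x : G} (hxt : Commute x (c ^ 2))
    (hxs : Commute x s) : ∀ v ∈ F, Commute x v := by
  intro v hv
  have hvt : Commute v (c ^ 2) := commute_coreAt_t (hFO hv)
  obtain ⟨o, ho, σ, hσ, rfl⟩ := exists_centralizer_decomp h hxt
  refine (hcen o ho v hv).mul_left ?_
  -- `σ` commutes with `s`
  have hσs : Commute σ s := by
    have h1 : σ * s * σ⁻¹ * s⁻¹ = o⁻¹ * (s * o * s⁻¹) := by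
      calc σ * s * σ⁻¹ * s⁻¹ = o⁻¹ * ((o * σ) * s * (o * σ)⁻¹) * o * s⁻¹ := by group
        _ = o⁻¹ * s * o * s⁻¹ := by rw [hxs.eq, mul_inv_cancel_right]
        _ = _ := by group
    have h2 : σ * s * σ⁻¹ * s⁻¹ = 1 := by
      obtain ⟨k, hk⟩ := exists_two_pow_eq_one
        (mul_mem (mul_mem (mul_mem hσ h.gen.mem_s) (inv_mem hσ)) (inv_mem h.gen.mem_s) :
          σ * s * σ⁻¹ * s⁻¹ ∈ (S : Subgroup G))
      have hodd : Odd (orderOf (σ * s * σ⁻¹ * s⁻¹)) := h1 ▸ odd_orderOf_of_mem (odd_coreAt _)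
        (mul_mem (inv_mem ho) (conj_mem_coreAt (commute_t_s h).symm ho))
      exact orderOf_eq_one_iff.1 (Nat.eq_one_of_dvd_coprimes
        (Nat.Coprime.pow_left k (Nat.coprime_two_left.2 hodd)) (orderOf_dvd_of_pow_eq_one hk) dvd_rfl)
    exact mul_inv_eq_iff_eq_mul.1 (mul_inv_eq_one.1 h2)
  have hzp : ∀ g ∈ zpowers c, Commute g s → Commute g v := by
    rintro g hg hgs
    obtain ⟨i, rfl⟩ := mem_zpowers_iff.1 hg
    rcases Int.even_or_odd' i with ⟨j, rfl | rfl⟩
    · rw [zpow_mul, zpow_two, ← pow_two]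
      exact (hvt.zpow_right j).symm
    · exfalso
      rw [zpow_add, zpow_mul, zpow_two, ← pow_two, zpow_one] at hgs
      have hcs : Commute c s := by
        simpa using ((commute_t_s h).zpow_left j).inv_left.mul_left hgs
      have h1 := conj_s_two h
      rw [hcs.eq, mul_inv_cancel_right] at h1
      exact H39.ne_one_of_orderOf_eq_two h.gen.z_order (mul_eq_right.1 h1.symm)
  rcases h.gen.cases σ hσ with hc | hc
  · exact hzp σ hc hσs
  · have h3 : Commute σ v := by
      simpa using (hzp _ hc (hσs.mul_left (Commute.refl s))).mul_left (hFs v hv).symm.inv_left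
    exact h3

theorem swap_data (h : Cfg S 2 c s) (hmax : CentMax 2 c) (hs : ActsPM (c ^ 2) s)
    (hcs : ActsPM (c ^ 2) (c * s)) {q : ℕ} [hq : Fact q.Prime]
    (hF : pCoreIn q (coreAt (c ^ 2)) ≠ ⊥)
    (hFs : ∀ v ∈ pCoreIn q (coreAt (c ^ 2)), Commute v s)
    (hFi : ∀ v ∈ pCoreIn q (coreAt (c ^ 2)), c * s * v * (c * s)⁻¹ = v⁻¹) :
    ∃ e, SwapData c s e := by
  obtain ⟨hq3, hF3⟩ := swap_prime_three h hmax hs hcs hF hFs hFi
  have hDG := h.gen
  set t := c ^ 2 with ht
  set F := pCoreIn q (coreAt t) with hFdef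
  set D := pairCore t s with hDdef
  set D' := pairCore t (c * s) with hD'def
  set A := invPart t s with hAdef
  have hsm : s ∈ pmSub t := sylow_le_pmSub h hs hcs hDG.mem_s
  have hct : Commute c t := (Commute.refl c).pow_right 2
  have hFc : ∀ v ∈ F, c * v * c⁻¹ = v⁻¹ := fun v hv => conj_c_of_cs (hFs v hv) (hFi v hv)
  have hFO : F ≤ coreAt t := H62.GW.pCoreAt_le t q
  have hnF : centralizer ({t} : Set G) ≤ normalizer (F : Set G) :=
    H62.GW.centralizer_le_normalizer_pCoreAt t q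
  have hFcen : ∀ o ∈ coreAt t, ∀ v ∈ F, Commute o v := fun o ho v hv =>
    commute_card_three hF3 (odd_orderOf_of_mem (odd_coreAt t) ho) (hnF (coreAt_le t ho)) hv
  have hodd := fun {x : G} (hx : x ∈ coreAt t) => odd_orderOf_of_mem (odd_coreAt t) hx
  -- no swapped prime on the other side
  have hno : ∀ r : ℕ, r.Prime → (∀ v ∈ pCoreIn r (coreAt t), Commute v (c * s)) →
      ∀ v ∈ pCoreIn r (coreAt t), Commute v s := by
    intro r hr hrc
    rcases hs r hr with hc | hi
    · exact hc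
    haveI := Fact.mk hr
    by_cases hb : pCoreIn r (coreAt t) = ⊥
    · intro v hv
      rw [hb, mem_bot] at hv
      rw [hv]; exact Commute.one_left s
    exfalso
    obtain ⟨hr3, -⟩ := swap_prime_three (H4.GW.cfg_swap h) hmax hcs (actsPM_swap h hs hcs) hb hrc
      (fun v hv => by
        have hvt : Commute v t := commute_coreAt_t (H62.GW.pCoreAt_le t r hv)
        calc c * (c * s) * v * (c * (c * s))⁻¹ = t * (s * v * s⁻¹) * t⁻¹ := by
              rw [ht, pow_two]; group
          _ = v⁻¹ := by rw [hi v hv, hvt.inv_left.symm.eq, mul_inv_cancel_right])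
    subst hr3 hq3
    refine hF (eq_bot_iff.2 fun v hv => mem_bot.2 ?_)
    exact eq_one_of_inverted (hodd (hFO hv)) (hi v hv) (hFs v hv).symm
  have hcD' : ∀ x ∈ D', Commute c x := commute_c_pairCore (H4.GW.cfg_swap h) hcs
    (actsPM_swap h hs hcs) fun r hr hr' v hv => by
      have h1 := hno r hr hr' v hv
      have hvt : Commute v t := commute_coreAt_t (H62.GW.pCoreAt_le t r hv)
      rw [← mul_assoc, ← pow_two]
      exact hvt.mul_right h1
  have hcA : ∀ α ∈ A, Commute c α := by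
    intro α hα
    have hle : A ≤ centralizer ({c} : Set G) := (closure_le _).2 fun v hv => by
      obtain ⟨r, hr, hv, hi⟩ := hv
      refine mem_centralizer_singleton_iff.2 ?_
      rcases hcs r hr with hc | hi'
      · have h1 : v = 1 := eq_one_of_inverted (hodd (H62.GW.pCoreAt_le t r hv)) (hi v hv)
          (hno r hr hc v hv).symm
        rw [h1, one_mul, mul_one]
      · refine (mul_inv_eq_iff_eq_mul.1 ?_ : c * v = v * c).symm
        calc c * v * c⁻¹ = c * s * (s⁻¹ * v * s) * (c * s)⁻¹ := by group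
          _ = c * s * v⁻¹ * (c * s)⁻¹ := by
            rw [show s⁻¹ * v * s = v⁻¹ by
              rw [inv_eq_of_mul_eq_one_right (H39.mul_self_of_orderOf_eq_two hDG.os)]
              have := hi v hv
              rwa [inv_eq_of_mul_eq_one_right (H39.mul_self_of_orderOf_eq_two hDG.os)] at this]
          _ = v := by rw [hi' _ (inv_mem hv), inv_inv]
    exact (mem_centralizer_singleton_iff.1 (hle hα) : α * c = c * α).symm
  -- an element of `F ∩ D` inverted by `c` lies in `F_q`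
  have hcenc : ∀ f ∈ cenPart t s, c * f * c⁻¹ = f⁻¹ → f ∈ F := by
    intro f hf hfi
    have hle : cenPart t s ≤ F ⊔ centralizer ({c} : Set G) := (closure_le _).2 fun v hv => by
      obtain ⟨r, hr, hv, hc⟩ := hv
      rcases hcs r hr with hc' | hi'
      · refine mem_sup_right (mem_centralizer_singleton_iff.2 ?_)
        exact (show Commute v c by simpa using (hc' v hv).mul_right (hc v hv).inv_right).eq
      · by_cases hb : pCoreIn r (coreAt t) = ⊥
        · rw [hb] at hv
          exact (bot_le : ⊥ ≤ F ⊔ centralizer ({c} : Set G)) hv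
        haveI := Fact.mk hr
        obtain ⟨hr3, -⟩ := swap_prime_three h hmax hs hcs hb hc hi'
        subst hr3 hq3
        exact mem_sup_left hv
    have hn : centralizer ({c} : Set G) ≤ normalizer (F : Set G) := fun x hx =>
      hnF (mem_centralizer_singleton_iff.2
        ((show Commute x c from mem_centralizer_singleton_iff.1 hx).pow_right 2).eq)
    obtain ⟨v, hv, k, hk, rfl⟩ := (Coprime.mem_sup_iff hn).1 (hle hf)
    have hkO : k ∈ coreAt t := by
      simpa using mul_mem (inv_mem (hFO hv)) (cenPart_le t s hf)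
    have hkc : Commute c k := (mem_centralizer_singleton_iff.1 hk : k * c = c * k).symm
    rw [← conj_mul, hFc v hv, hkc.eq, mul_inv_cancel_right, mul_inv_rev,
      ((hFcen k hkO v hv).inv_inv).eq] at hfi
    have hk1 : k = 1 := H62.GW.eq_one_of_odd (hodd hkO) (by
      nth_rw 2 [mul_left_cancel hfi]; exact mul_inv_cancel k)
    rw [hk1, mul_one]
    exact hv
  -- `D = D' × F`
  have hD'D : D' ≤ D := fun x hx => Subgroup.mem_inf.2 ⟨hx.1, mem_centralizer_singleton_iff.2
    (show Commute x s by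
      simpa using (hcD' x hx).symm.inv_right.mul_right
        (show Commute x (c * s) from mem_centralizer_singleton_iff.1 hx.2)).eq⟩
  have hFD : F ≤ D := le_inf hFO fun v hv => mem_centralizer_singleton_iff.2 (hFs v hv).eq
  have hmemD' : ∀ x ∈ D, Commute c x → x ∈ D' := fun x hx hcx =>
    Subgroup.mem_inf.2 ⟨hx.1, mem_centralizer_singleton_iff.2
      (hcx.symm.mul_right (show Commute x s from mem_centralizer_singleton_iff.1 hx.2)).eq⟩
  have hF3' : ∀ v ∈ F, v ^ 3 = 1 := fun v hv => by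
    by_cases hv1 : v = 1
    · rw [hv1, one_pow]
    · exact (eq_of_card_three hF3 hv hv1).1
  have hsplit : ∀ x ∈ D, ∃ w ∈ D', ∃ v ∈ F, x = w * v := by
    intro x hx
    have hfD : c * x * c⁻¹ * x⁻¹ ∈ D :=
      mul_mem (Coprime.conj_mem (c_mem_normalizer_pairCore h).1 hx) (inv_mem hx)
    have hfcen := mem_cenPart_of_fitIn hs
      (conj_mul_inv_mem_fitIn (sylow_le_pmSub h hs hcs hDG.mem_c) hx.1)
      (mem_centralizer_singleton_iff.1 hfD.2)
    set f := c * x * c⁻¹ * x⁻¹ with hfdef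
    have hfi : c * f * c⁻¹ = f⁻¹ := by
      calc c * f * c⁻¹ = c * (c * x * c⁻¹) * c⁻¹ * (c * x * c⁻¹)⁻¹ := by rw [hfdef]; group
        _ = f⁻¹ := by rw [conj_c_conj h (commute_coreAt_t hx.1), hfdef]; group
    have hfF : f ∈ F := hcenc f hfcen hfi
    refine ⟨f⁻¹ * x, hmemD' _ (mul_mem (inv_mem hfD) hx) (mul_inv_eq_iff_eq_mul.1 ?_), f, hfF, ?_⟩
    · calc c * (f⁻¹ * x) * c⁻¹ = (c * f⁻¹ * c⁻¹) * (c * x * c⁻¹ * x⁻¹) * x := by group
        _ = f⁻¹ * (f ^ 3) * x := by rw [hFc _ (inv_mem hfF), inv_inv, ← hfdef, pow_three]; group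
        _ = f⁻¹ * x := by rw [hF3' f hfF, mul_one]
    · rw [mul_assoc, (hFcen x hx.1 f hfF).eq, inv_mul_cancel_left]
  have hinfF : ∀ v ∈ F, v ∈ D' → v = 1 := fun v hv hv' =>
    eq_one_of_inverted (hodd (hFO hv)) (hFc v hv) (hcD' v hv')
  have hcardD : Nat.card D = 3 * Nat.card D' := by
    rw [← hF3, mul_comm, ← Nat.card_prod]
    refine (Nat.card_eq_of_bijective (fun p : D' × F =>
      (⟨(p.1 : G) * p.2, mul_mem (hD'D p.1.2) (hFD p.2.2)⟩ : D)) ⟨?_, ?_⟩).symm
    · rintro ⟨⟨a, ha⟩, ⟨b, hb⟩⟩ ⟨⟨a', ha'⟩, ⟨b', hb'⟩⟩ he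
      have e' : a * b = a' * b' := congrArg Subtype.val he
      have h1 : a'⁻¹ * a = b' * b⁻¹ := by
        rw [inv_mul_eq_iff_eq_mul, ← mul_assoc, eq_mul_inv_iff_mul_eq]; exact e'
      have h2 := hinfF _ (mul_mem hb' (inv_mem hb)) (h1 ▸ mul_mem (inv_mem ha') ha)
      rw [mul_inv_eq_one] at h2
      subst h2
      simp only [mul_left_inj] at e'
      subst e'
      rfl
    · rintro ⟨x, hx⟩
      obtain ⟨w, hw, v, hv, rfl⟩ := hsplit x hx
      exact ⟨(⟨w, hw⟩, ⟨v, hv⟩), rfl⟩
  -- the element `e`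
  obtain ⟨g, hg⟩ := H61.GW.exists_fuses_left h
  have hgD : g ∈ normalizer (D : Set G) := fuses_mem_normalizer_pairCore h hg
  obtain ⟨hp1, hp2⟩ := H62.GW.Fuses.preimage hg (t_mul_self h) (commute_t_s h)
  have hgF : g ∉ normalizer (F : Set G) := fun hgn => not_normalized h hmax hF hFO hnF hg
    (ne_z_of_out h).1 hgn
  obtain ⟨⟨z, hzF⟩, hz1'⟩ := ne_bot_iff_exists_ne_one.1 hF
  have hz1 : z ≠ 1 := fun e => hz1' (Subtype.ext e)
  obtain ⟨hz3, hFel⟩ := eq_of_card_three hF3 hzF hz1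
  set z₁ := g * z * g⁻¹ with hz₁
  set z₂ := g * z₁ * g⁻¹ with hz₂
  have hz₁D : z₁ ∈ D := Coprime.conj_mem hgD (hFD hzF)
  have hz₂D : z₂ ∈ D := Coprime.conj_mem hgD hz₁D
  have hcen1 : ∀ x ∈ D, Commute x z₁ := fun x hx => by
    have h1 := hFcen _ (Coprime.conj_mem' hgD hx).1 z hzF
    calc x * z₁ = g * ((g⁻¹ * x * g) * z) * g⁻¹ := by rw [hz₁]; group
      _ = g * (z * (g⁻¹ * x * g)) * g⁻¹ := by rw [h1.eq]
      _ = z₁ * x := by rw [hz₁]; group
  have hzz₁ : Commute z z₁ := hcen1 z (hFD hzF)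
  have hzz₂ : Commute z z₂ := (hFcen _ hz₂D.1 z hzF).symm
  have hz₁₂ : Commute z₁ z₂ := (hcen1 _ hz₂D).symm
  have hz₁3 : z₁ ^ 3 = 1 := by rw [hz₁, conj_pow, hz3, mul_one, mul_inv_cancel]
  have hCT : ∀ x : G, Commute x t → Commute x s → ∀ v ∈ F, Commute x v := fun x hx hx' =>
    commute_of_commute_pair h hFO hFs hFcen hx hx'
  have hg3 : g * (g * (g * z * g⁻¹) * g⁻¹) * g⁻¹ = z := by
    have e : ∀ y : G, g * g * g * y * (g * g * g)⁻¹ = g * (g * (g * y * g⁻¹) * g⁻¹) * g⁻¹ :=
      fun y => by group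
    have h3t : g * (t * s) * g⁻¹ = t := by
      rw [← conj_mul, hg.1, hg.2, ← mul_assoc, ← (commute_t_s h).eq, mul_assoc,
        H39.mul_self_of_orderOf_eq_two hDG.os, mul_one]
    have ht3 : Commute (g * g * g) t := mul_inv_eq_iff_eq_mul.1 (by rw [e, hg.1, hg.2, h3t])
    have hs3 : Commute (g * g * g) s := mul_inv_eq_iff_eq_mul.1 (by rw [e, hg.2, h3t, hg.1])
    rw [← e, (hCT _ ht3 hs3 z hzF).eq, mul_inv_cancel_right]
  have hgz₂ : g * z₂ * g⁻¹ = z := hg3
  have hgiz : g⁻¹ * z * g = z₂ := by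
    conv_lhs => rw [← hgz₂]
    group
  -- `c` inverts the orbit
  have hcts : c⁻¹ * s * c = t * s := by
    calc c⁻¹ * s * c = c⁻¹ * (t * (t * s)) * c := by rw [← mul_assoc t t, t_mul_self h, one_mul]
      _ = c⁻¹ * (t * (c * s * c⁻¹)) * c := by rw [conj_s_two h]
      _ = t * s := by
        rw [← mul_assoc t (c * s), ← mul_assoc t c, ← hct.eq]; group
  have hctc : c⁻¹ * t * c = t := by rw [mul_assoc, ← hct.eq, inv_mul_cancel_left]
  have hgts : g * (t * s) * g⁻¹ = t := by
    rw [← conj_mul, hg.1, hg.2, ← mul_assoc, ← (commute_t_s h).eq, mul_assoc,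
      H39.mul_self_of_orderOf_eq_two hDG.os, mul_one]
  set w := g * (c * g * c⁻¹) with hwdef
  have hwt : Commute w t := mul_inv_eq_iff_eq_mul.1 (by
    calc w * t * w⁻¹ = g * (c * (g * (c⁻¹ * t * c) * g⁻¹) * c⁻¹) * g⁻¹ := by rw [hwdef]; group
      _ = t := by rw [hctc, hg.1, conj_s_two h, hgts])
  have hws : Commute w s := mul_inv_eq_iff_eq_mul.1 (by
    calc w * s * w⁻¹ = g * (c * (g * (c⁻¹ * s * c) * g⁻¹) * c⁻¹) * g⁻¹ := by rw [hwdef]; group
      _ = s := by rw [hcts, hgts, hct.eq, mul_inv_cancel_right, hg.1])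
  have hcz₁ : c * z₁ * c⁻¹ = z₂⁻¹ := by
    calc c * z₁ * c⁻¹ = g⁻¹ * (w * (c * z * c⁻¹) * w⁻¹) * g := by rw [hz₁, hwdef]; group
      _ = g⁻¹ * z⁻¹ * g := by
        rw [hFc z hzF, (hCT w hwt hws _ (inv_mem hzF)).eq, mul_inv_cancel_right]
      _ = z₂⁻¹ := by rw [← hgiz]; group
  have hcz₂ : c * z₂ * c⁻¹ = z₁⁻¹ := by
    calc c * z₂ * c⁻¹ = (c * (c * z₁ * c⁻¹) * c⁻¹)⁻¹ := by rw [hcz₁]; group
      _ = z₁⁻¹ := by rw [conj_c_conj h (commute_coreAt_t hz₁D.1)]
  have hu : z * z₁ * z₂ = 1 := by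
    set u := z * z₁ * z₂ with hudef
    have huD : u ∈ D := mul_mem (mul_mem (hFD hzF) hz₁D) hz₂D
    have hcu : c * u * c⁻¹ = u⁻¹ := by
      have h1 : z * z₁ * z₂ = z₁ * z₂ * z := by rw [mul_assoc, (hzz₁.mul_right hzz₂).eq]
      rw [hudef, ← conj_mul, ← conj_mul, hFc z hzF, hcz₁, hcz₂, h1]
      simp only [mul_inv_rev, mul_assoc]
    have hgu : g * u * g⁻¹ = u := by
      rw [hudef, ← conj_mul, ← conj_mul, ← hz₁, ← hz₂, hgz₂, mul_assoc z, (hzz₁.mul_right hzz₂).eq]
    obtain ⟨w', hw', v, hv, huv⟩ := hsplit u huD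
    rw [huv, ← conj_mul, hFc v hv, (hcD' w' hw').eq, mul_inv_cancel_right, mul_inv_rev,
      ((hFcen w' hw'.1 v hv).inv_inv).eq.symm] at hcu
    have hw1 : w' = 1 := H62.GW.eq_one_of_odd (hodd hw'.1) (by
      nth_rw 2 [mul_right_cancel hcu]; exact mul_inv_cancel w')
    have huF : u ∈ F := by rw [huv, hw1, one_mul]; exact hv
    by_contra hu1
    refine hgF (mem_normalizer_of_forall fun x hx => ?_)
    rcases (eq_of_card_three hF3 huF hu1).2 x hx with rfl | rfl | rfl
    · rw [mul_one, mul_inv_cancel]; exact one_mem _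
    · rw [hgu]; exact huF
    · rw [← conj_inv, hgu]; exact inv_mem huF
  set e := z⁻¹ * z₁ with hedef
  have heD : e ∈ D := mul_mem (inv_mem (hFD hzF)) hz₁D
  have hz₂e : z₂ = z₁⁻¹ * z⁻¹ := by rw [← mul_inv_rev]; exact eq_inv_of_mul_eq_one_right hu
  have hge : g * e * g⁻¹ = e := by
    rw [hedef, ← conj_mul, ← conj_inv, ← hz₁, ← hz₂, hz₂e]
    calc z₁⁻¹ * (z₁⁻¹ * z⁻¹) = (z₁ ^ 3)⁻¹ * (z₁ * z⁻¹) := by group
      _ = z⁻¹ * z₁ := by rw [hz₁3, inv_one, one_mul, hzz₁.inv_left.symm.eq]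
  have hce : Commute c e := mul_inv_eq_iff_eq_mul.1 (by
    rw [hedef, ← conj_mul, ← conj_inv, hFc z hzF, hcz₁, hz₂e, inv_inv, mul_inv_rev, inv_inv, inv_inv]
    calc z * (z * z₁) = z ^ 3 * (z⁻¹ * z₁) := by rw [pow_three]; group
      _ = z⁻¹ * z₁ := by rw [hz3, one_mul])
  have he3 : e ^ 3 = 1 := by rw [hedef, hzz₁.inv_left.mul_pow, inv_pow, hz3, hz₁3, inv_one, one_mul]
  have he1 : e ≠ 1 := fun e1 => hgF (mem_normalizer_of_forall fun x hx => by
    rw [hedef, inv_mul_eq_one] at e1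
    rcases hFel x hx with rfl | rfl | rfl
    · rw [mul_one, mul_inv_cancel]; exact one_mem _
    · rw [← hz₁, ← e1]; exact hzF
    · rw [← conj_inv, ← hz₁, ← e1]; exact inv_mem hzF)
  have hfree : ∀ α ∈ A, Commute α e → α = 1 := by
    intro α hα hαe
    obtain ⟨g', hg'⟩ := H61.GW.exists_fuses_right h
    have hθ : Fuses (c * g' * c * g'⁻¹) t (c * s) :=
      fuses_swap hg' (t_mul_self h) (commute_t_cs h) hct (conj_cs_two h)
    have hθe := commute_swap_of_fix (fuses_mem_normalizer_pairCore h hg') hcD' e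
      (hmemD' e heD hce)
    obtain ⟨-, -, -, hshape⟩ := shape_facts h hmax hF hFs hFi heD he1 hce.symm hθ hθe
      (fun v hv => (hFcen e heD.1 v hv).symm)
    set X := centralizer ({e} : Set G) with hX
    have hαU : α ∈ coreIn X := hshape α hαe (hodd (invPart_le t s hα))
      (commute_coreAt_t (invPart_le t s hα)) (invPart_inverted α hα)
    have hmemX : ∀ {x : G}, Commute x e → x ∈ X := fun hx => mem_centralizer_singleton_iff.2 hx.eq
    have htX : t ∈ X := hmemX (commute_coreAt_t heD.1).symm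
    have hsX : s ∈ X := hmemX (show Commute e s from mem_centralizer_singleton_iff.1 heD.2).symm
    have hgX : g ∈ X := hmemX (mul_inv_eq_iff_eq_mul.1 hge)
    have hXN : X ≤ normalizer (coreIn X : Set G) := le_normalizer_coreIn X
    have hUo : Odd (Nat.card (coreIn X)) := odd_coreIn X
    have hUt : ∀ u ∈ coreIn X, Commute u t → Commute u z := fun u hu hut =>
      hFcen u (H62.GW.mem_coreAt_of_odd h hut (odd_orderOf_of_mem hUo hu)) z hzF
    have hne : z⁻¹ * z₁ = e := rfl
    -- `z` centralises `O(X)`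
    have hUz : coreIn X ≤ centralizer ({z} : Set G) := by
      obtain ⟨V, hV, hVs⟩ := H4.GW.exists_klein (t_mul_self h)
        (H39.mul_self_of_orderOf_eq_two hDG.os) (commute_t_s h)
        (H39.ne_one_of_orderOf_eq_two hDG.z_order) (H39.ne_one_of_orderOf_eq_two hDG.os)
        (ne_z_of_out h).1.symm
      haveI := hV.isMulCommutative
      have hnc : ¬ IsCyclic V := haveI := hV; IsKleinFour.not_isCyclic
      have hel : ∀ a ∈ V, a = 1 ∨ a = t ∨ a = s ∨ a = t * s := fun a ha => by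
        have h1 : a ∈ ({1, t, s, t * s} : Set G) := hVs ▸ (SetLike.mem_coe.2 ha)
        simpa using h1
      refine Coprime.le_of_centralizer_noncyclic_le hnc ?_ ?_ fun a ha ha1 x hx => ?_
      · intro a ha
        rcases hel a ha with rfl | rfl | rfl | rfl
        exacts [one_mem _, hXN htX, hXN hsX, hXN (mul_mem htX hsX)]
      · rw [hV.card_four]
        exact Nat.Coprime.pow_left 2 (Nat.coprime_two_left.2 hUo)
      · suffices hxz : Commute x z from mem_centralizer_singleton_iff.2 hxz.eq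
        have hxa : Commute x a := mem_centralizer_singleton_iff.1 hx.2
        have hxe : Commute x e := mem_centralizer_singleton_iff.1 (coreIn_le X hx.1)
        rcases hel a ha with rfl | rfl | rfl | rfl
        · exact absurd rfl ha1
        · exact hUt x hx.1 hxa
        · have h1 : Commute (g⁻¹ * x * g) t := by
            have h2 := (Commute.conj_iff g⁻¹).2 hxa
            simpa [hp2] using h2
          have h2 := hUt _ (Coprime.conj_mem' (hXN hgX) hx.1) h1
          have h3 : Commute x z₁ := by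
            have h4 := (Commute.conj_iff g).2 h2
            rwa [show g * (g⁻¹ * x * g) * g⁻¹ = x by group, ← hz₁] at h4
          simpa [hedef] using h3.mul_right hxe.inv_right
        · have h1 : Commute (g * x * g⁻¹) t := by
            have h2 := (Commute.conj_iff g).2 hxa
            rwa [hgts] at h2
          have h2 := hUt _ (Coprime.conj_mem (hXN hgX) hx.1) h1
          have h3 : Commute x z₂ := by
            rw [← hgiz]
            have h4 := (Commute.conj_iff g⁻¹).2 h2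
            simp only [inv_inv] at h4
            rwa [show g⁻¹ * (g * x * g⁻¹) * g = x by group] at h4
          have hz : z = z₂ * e := by
            calc z = z ^ 3 * z₁⁻¹ * z⁻¹ * z⁻¹ * z₁ := by
                  rw [hz3, one_mul, mul_assoc (z₁⁻¹), ← mul_inv_rev z z,
                    show z₁⁻¹ * (z * z)⁻¹ * z₁ = (z * z)⁻¹ by
                      rw [(hzz₁.mul_left hzz₁).inv_inv.symm.eq, inv_mul_cancel_right]]
                  refine eq_inv_of_mul_eq_one_left ?_
                  rw [← pow_three, hz3]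
              _ = z₂ * e := by rw [hz3, one_mul, hz₂e, hedef]; group
          rw [hz]
          exact h3.mul_right hxe
    have hUle : ∀ u ∈ coreIn X, Commute u t := fun u hu => by
      refine mem_centralizer_singleton_iff.1 (centralizer_pCoreAt_le h hmax hF
        (mem_centralizer_iff.2 fun v hv => ?_))
      rcases hFel v hv with rfl | rfl | rfl
      · rw [one_mul, mul_one]
      · exact (mem_centralizer_singleton_iff.1 (hUz hu)).symm
      · exact ((show Commute u z from mem_centralizer_singleton_iff.1 (hUz hu)).inv_right).eq.symm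
    have hαs : Commute α s := by
      have h1 := (Commute.conj_iff g).2 (hUle _ (Coprime.conj_mem' (hXN hgX) hαU))
      rwa [hg.1, show g * (g⁻¹ * α * g) * g⁻¹ = α by group] at h1
    exact eq_one_of_inverted (hodd (invPart_le t s hα)) (invPart_inverted α hα) hαs.symm
  refine ⟨e, hcardD, card_coreAt_eq hsm (H39.mul_self_of_orderOf_eq_two hDG.os), ?_, hcA, heD,
    hce.symm, he3, he1, hfree⟩
  intro hA0
  have hDO : D = coreAt t := le_antisymm inf_le_left fun o ho => by
    obtain ⟨α, hα, d, hd, rfl⟩ := exists_decomp hsm (H39.mul_self_of_orderOf_eq_two hDG.os) ho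
    rw [hA0, mem_bot] at hα
    rw [hα, one_mul]
    exact hd
  refine not_normalized h hmax (Y := D) (fun e0 => hF (eq_bot_iff.2 (e0 ▸ hFD))) inf_le_left ?_ hg
    (ne_z_of_out h).1 hgD
  rw [hDO]
  exact H62.GW.centralizer_le_normalizer_coreAt t

end Cfsg.Agent.H80.GW.M2
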