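import Cfsg.Agent.H80.GW.SwapData
import Cfsg.Agent.H80.GW.EigenKill
import Cfsg.Agent.H4.GW.FourGroup
import Cfsg.Agent.Cores.DihedralCount
import Cfsg.Agent.Cores.ThirdMain

/-!
# GW programme, M2: no prime is swapped

The pairs of involutions with product in `c O(C(t))` give a second equation for the principal
`2`-block; with the order formula it forces degree `15`, and the fixed space of `c` kills `A`.
-/

set_option autoImplicit false
set_option linter.unusedSectionVars false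
set_option linter.style.haveILetI false

open scoped ComplexConjugate

namespace Cfsg.Agent.H80.GW.M2

open Subgroup Cfsg.Agent BlockBasic CharBasic Cores
open Cfsg.Agent.GW (Cfg coreAt coreIn pairCore CentMax Fuses)
open Cfsg.Agent.Components (pCoreIn fitIn)
open Cfsg.Agent.H62.GW (odd_orderOf_of_mem eq_one_of_inverted conj_mem_coreAt coreAt_le odd_coreAt)

universe u

/-- The two equations leave only degree fifteen. -/
theorem swap_arith {x x₂ x₃ idx a : ℕ} {δ δ₂ δ₃ : ℤ} (hδ : δ = 1 ∨ δ = -1) (hδ₂ : δ₂ = 1 ∨ δ₂ = -1)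
    (hδ₃ : δ₃ = 1 ∨ δ₃ = -1) (hx : 0 < x) (hx₂ : 0 < x₂) (hx₃ : 0 < x₃) (hidx : Odd idx) (ha : Odd a)
    (hdeg : 1 + δ * x = -δ₂ * x₂ - δ₃ * x₃) (hne : (x : ℤ) ≠ δ)
    (h1 : (idx : ℤ) * ((x : ℤ) - δ) ^ 2 = 128 * (a : ℤ) ^ 2 * x * (x + δ))
    (h2 : (idx : ℤ) * ((x : ℤ) * x₂ * x₃ + δ * x₂ * x₃ + δ₂ * x * x₃ + δ₃ * x * x₂) =
      96 * (a : ℤ) ^ 2 * x * x₂ * x₃) : x = 15 ∧ δ = -1 := by
  obtain ⟨y, hy⟩ : ∃ y : ℤ, y = δ * x := ⟨_, rfl⟩
  obtain ⟨u, hu⟩ : ∃ u : ℤ, u = -δ₂ * x₂ := ⟨_, rfl⟩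
  obtain ⟨v, hv⟩ : ∃ v : ℤ, v = -δ₃ * x₃ := ⟨_, rfl⟩
  have hsum : u + v = 1 + y := by rw [hu, hv, hy]; linarith
  have hy0 : y ≠ 0 := by rcases hδ with rfl | rfl <;> omega
  have hu0 : u ≠ 0 := by rcases hδ₂ with rfl | rfl <;> omega
  have hv0 : v ≠ 0 := by rcases hδ₃ with rfl | rfl <;> omega
  have hy1 : y ≠ 1 := by rcases hδ with rfl | rfl <;> omega
  have h1' : (idx : ℤ) * (y - 1) ^ 2 = 128 * (a : ℤ) ^ 2 * (y * (y + 1)) := by
    rw [hy]
    rcases hδ with rfl | rfl <;> linear_combination h1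
  have e0 : (idx : ℤ) * (y * u * v + u * v - y * v - y * u) = 96 * (a : ℤ) ^ 2 * y * u * v := by
    rw [hy, hu, hv]
    rcases hδ with rfl | rfl <;> rcases hδ₂ with rfl | rfl <;> rcases hδ₃ with rfl | rfl <;>
      first
        | linear_combination h2
        | linear_combination -h2
  have e1 : (idx : ℤ) * ((1 + y) * (u * v - y)) = 96 * (a : ℤ) ^ 2 * y * u * v := by
    linear_combination e0 + (idx : ℤ) * y * hsum
  have hi0 : (idx : ℤ) ≠ 0 := by have := hidx.pos; omega
  have ha0 : (a : ℤ) ≠ 0 := by have := ha.pos; omega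
  have hy11 : y + 1 ≠ 0 := fun h0 => by
    rw [h0, mul_zero, mul_zero] at h1'
    exact mul_ne_zero hi0 (pow_ne_zero 2 (sub_ne_zero.2 hy1)) h1'
  have e2 : u * v * (y ^ 2 + 14 * y + 1) = 4 * y * (y + 1) ^ 2 := by
    have hne' : (idx : ℤ) * (32 * (a : ℤ) ^ 2 * y) ≠ 0 :=
      mul_ne_zero hi0 (mul_ne_zero (mul_ne_zero (by norm_num) (pow_ne_zero 2 ha0)) hy0)
    refine mul_left_cancel₀ hne' ?_
    linear_combination (idx : ℤ) * (y - 1) ^ 2 * e1 - (idx : ℤ) * (1 + y) * (u * v - y) * h1'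
  set N := y ^ 2 + 14 * y + 1 with hN
  have hd1 : N ∣ 4 * y * (y + 1) ^ 2 := ⟨u * v, by linear_combination -e2⟩
  have hcop : IsCoprime N y := ⟨1, -(y + 14), by rw [hN]; ring⟩
  have hd2 : N ∣ 4 * (y + 1) ^ 2 := hcop.dvd_of_dvd_mul_left (by
    rwa [show y * (4 * (y + 1) ^ 2) = 4 * y * (y + 1) ^ 2 by ring])
  have hd3 : N ∣ 48 * y := by
    have := dvd_sub (dvd_mul_left N 4) hd2
    rwa [show 4 * N - 4 * (y + 1) ^ 2 = 48 * y by rw [hN]; ring] at this
  have hd4 : N ∣ 48 := hcop.dvd_of_dvd_mul_right hd3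
  have hb1 : N ≤ 48 := Int.le_of_dvd (by norm_num) hd4
  have hlo : -18 ≤ y := by rw [hN] at hb1; nlinarith
  have hhi : y ≤ 4 := by rw [hN] at hb1; nlinarith
  obtain ⟨k, hk⟩ := hidx
  have hkz : (idx : ℤ) = 2 * k + 1 := by exact_mod_cast hk
  obtain ⟨j, hj⟩ := ha
  have hjz : (a : ℤ) = 2 * j + 1 := by exact_mod_cast hj
  have hy15 : y = -15 := by
    clear e0 e1 e2 hd1 hd2 hd3 hsum
    interval_cases y <;> norm_num [hN] at hd4 <;> norm_num at h1' <;>
      first
        | rfl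
        | omega
        | (rw [hkz, hjz] at h1'; ring_nf at h1'; omega)
  rcases hδ with rfl | rfl <;> omega

variable {G : Type u} [Group G] [Finite G] {S : Sylow 2 G} {l : ℕ} {c s : G}

theorem card_invol_coset_eq {t r : G} (hr : r ∈ pmSub t) (hrr : r * r = 1)
    (hrO : r ∉ coreAt t) [Fintype G] [DecidablePred (· ∈ coreAt t)] :
    ((cosetFinset (coreAt t) r).filter fun x => orderOf x = 2).card = Nat.card (invPart t r) := by
  classical
  haveI : Fintype (invPart t r) := Fintype.ofFinite _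
  rw [Nat.card_eq_fintype_card, ← Finset.card_univ]
  refine (Finset.card_bij (fun (α : invPart t r) _ => r * (α : G)) ?_ ?_ ?_).symm
  · intro α _
    rw [Finset.mem_filter, mem_cosetFinset, inv_mul_cancel_left]
    refine ⟨invPart_le t r α.2, H39.orderOf_eq_two_of_mul_self ?_ fun e => hrO ?_⟩
    · have h1 := invPart_inverted (α : G) α.2
      rw [inv_eq_of_mul_eq_one_right hrr] at h1
      rw [← mul_assoc, h1, inv_mul_cancel]
    · rw [eq_inv_of_mul_eq_one_left e]
      exact inv_mem (invPart_le t r α.2)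
  · intro α _ β _ e
    exact Subtype.ext (mul_left_cancel e)
  · intro x hx
    rw [Finset.mem_filter, mem_cosetFinset] at hx
    refine ⟨⟨r⁻¹ * x, mem_invPart_of_inverted hr hrr hx.1 ?_⟩, Finset.mem_univ _,
      mul_inv_cancel_left r x⟩
    have hxx := H39.mul_self_of_orderOf_eq_two hx.2
    rw [inv_eq_of_mul_eq_one_right hrr, mul_inv_rev, inv_eq_of_mul_eq_one_right hxx,
      inv_eq_of_mul_eq_one_right hrr, ← mul_assoc r r, hrr, one_mul]

theorem eq_one_of_mem_core {t x : G} (hx : x ∈ (S : Subgroup G)) (hxO : x ∈ coreAt t) : x = 1 := by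
  obtain ⟨k, hk⟩ := exists_two_pow_eq_one hx
  exact orderOf_eq_one_iff.1 (Nat.eq_one_of_dvd_coprimes
    (Nat.Coprime.pow_left k (Nat.coprime_two_left.2 (odd_orderOf_of_mem (odd_coreAt t) hxO)))
    (orderOf_dvd_of_pow_eq_one hk) dvd_rfl)

/-- The principal block character of degree fifteen. -/
theorem exists_fifteen (h : Cfg S 2 c s) (hs : ActsPM (c ^ 2) s) (hcs : ActsPM (c ^ 2) (c * s))
    (hD3 : Nat.card (pairCore (c ^ 2) s) = 3 * Nat.card (pairCore (c ^ 2) (c * s))) :
    ∃ (M : Ideal Cfsg.AlgInt) (χ : Cfsg.IrrCharacter G), Cfsg.IsPModular 2 M ∧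
      χ ∈ Cfsg.principalBlock M G ∧ (χ : G → ℂ) 1 = 15 ∧
      ∀ k : ℕ, 0 < k → k < 4 → (χ : G → ℂ) (c ^ k) = -1 := by
  classical
  cases nonempty_fintype G
  haveI : Fact (Nat.Prime 2) := ⟨Nat.prime_two⟩
  obtain ⟨M, hM⟩ := exists_isPModular (p := 2) Nat.prime_two
  have hD := h.gen
  have hζ := Complex.isPrimitiveRoot_exp (2 * 2) (by norm_num)
  set ζ : ℂ := Complex.exp (2 * Real.pi * Complex.I / ((2 * 2 : ℕ) : ℂ)) with hζdef
  obtain ⟨χ₁, χ₂, χ₃, χ', δ₁, δ₂, δ₃, hδ₁, hδ₂, hδ₃, hinj, hne, hχ', hB, hv, hρ⟩ :=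
    dihedral_principal_block hD le_rfl hM hζ
  set t := c ^ 2 with ht
  set O := coreAt t with hOdef
  set C := centralizer ({t} : Set G) with hC
  have hm : (S : Subgroup G) ≤ pmSub t := sylow_le_pmSub h hs hcs
  have hSC : (S : Subgroup G) ≤ C := fun g hg => mem_centralizer_singleton_iff.2 (hD.z_central hg)
  have hodd : Odd (Nat.card O) := odd_coreAt t
  have hnorm : ∀ g ∈ C, ∀ o ∈ O, g⁻¹ * o * g ∈ O := fun g hg o ho =>
    Coprime.conj_mem' (H62.GW.centralizer_le_normalizer_coreAt t hg) ho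
  have hct : Commute c t := (Commute.refl c).pow_right 2
  have htt : t * t = 1 := t_mul_self h
  have hone : ∀ w : G, orderOf w = 2 → IsConj t w := fun w hw => H61.GW.isConj_z h hw
  -- the four reflections
  set r₀ := s with hr₀
  set r₁ := c * s with hr₁
  set r₂ := t * s with hr₂
  set r₃ := t * (c * s) with hr₃
  have hS0 : r₀ ∈ (S : Subgroup G) := hD.mem_s
  have hS1 : r₁ ∈ (S : Subgroup G) := mul_mem hD.mem_c hD.mem_s
  have hS2 : r₂ ∈ (S : Subgroup G) := mul_mem hD.z_mem hD.mem_s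
  have hS3 : r₃ ∈ (S : Subgroup G) := mul_mem hD.z_mem hS1
  have hinvol : ∀ r, r = r₀ ∨ r = r₁ ∨ r = r₂ ∨ r = r₃ → orderOf r = 2 := by
    rintro r (rfl | rfl | rfl | rfl)
    · exact hD.os
    · simpa using hD.orderOf_out 1
    · have := hD.orderOf_out (2 : ℕ)
      rwa [zpow_natCast] at this
    · have := hD.orderOf_out (3 : ℕ)
      rwa [zpow_natCast, show c ^ 3 * s = t * (c * s) by rw [ht, pow_succ c 2, mul_assoc]] at this
  let I : G → Finset G := fun r => (cosetFinset O r).filter fun x => orderOf x = 2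
  have hI : ∀ r, (r = r₀ ∨ r = r₁ ∨ r = r₂ ∨ r = r₃) → r ∈ (S : Subgroup G) →
      (I r).card * Nat.card (pairCore t r) = Nat.card O := by
    intro r hr hrS
    have hrr := H39.mul_self_of_orderOf_eq_two (hinvol r hr)
    have hrO : r ∉ O := fun hh =>
      H39.ne_one_of_orderOf_eq_two (hinvol r hr) (eq_one_of_mem_core hrS hh)
    rw [card_invol_coset_eq (hm hrS) hrr hrO]
    exact (card_coreAt_eq (hm hrS) hrr).symm
  have hpair : ∀ b : G, pairCore t (t * b) = pairCore t b := by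
    intro b
    ext x
    simp only [pairCore, Subgroup.mem_inf, mem_centralizer_singleton_iff]
    refine and_congr_right fun hx => ?_
    have hxt : Commute x t := commute_coreAt_t hx
    constructor
    · intro hh
      simpa using (hxt.inv_right.mul_right (hh : Commute x (t * b))).eq
    · exact fun hh => (hxt.mul_right (hh : Commute x b)).eq
  set d' := Nat.card (pairCore t (c * s)) with hd'
  set a := (I r₀).card with hadef
  have hd'0 : 0 < d' := Nat.card_pos
  have hI0 := hI r₀ (Or.inl rfl) hS0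
  have hI1 := hI r₁ (Or.inr (Or.inl rfl)) hS1
  have hI2 := hI r₂ (Or.inr (Or.inr (Or.inl rfl))) hS2
  have hI3 := hI r₃ (Or.inr (Or.inr (Or.inr rfl))) hS3
  rw [hr₀, hD3, ← hadef] at hI0
  rw [hr₁, ← hd'] at hI1
  rw [hr₂, hpair, hD3] at hI2
  rw [hr₃, hpair, ← hd'] at hI3
  rw [← hr₁] at hI1
  rw [← hr₂] at hI2
  rw [← hr₃] at hI3
  have ha1 : (I r₁).card = 3 * a := by
    apply Nat.eq_of_mul_eq_mul_right hd'0
    rw [hI1, ← hI0]; ring
  have ha2 : (I r₂).card = a := by
    apply Nat.eq_of_mul_eq_mul_right (show 0 < 3 * d' by omega)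
    rw [hI2, hI0]
  have ha3 : (I r₃).card = 3 * a := by
    apply Nat.eq_of_mul_eq_mul_right hd'0
    rw [hI3, ← hI0]; ring
  have haodd : Odd a := hodd.of_dvd_nat ⟨3 * d', hI0.symm⟩
  -- pairs of involutions with product in `c O`
  let Npair : G → ℕ := fun y => Nat.card {a : G // IsConj t a ∧ IsConj t (a⁻¹ * y)}
  have hconj2 : ∀ w : G, IsConj t w ↔ orderOf w = 2 := fun w => ⟨fun hw => by
      obtain ⟨g, rfl⟩ := isConj_iff.1 hw
      rw [H39.orderOf_conj, hD.z_order], hone w⟩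
  have hshift : ∀ r r' : G, r * r = 1 → r' = r * c → ∀ x y : G, r⁻¹ * x ∈ O → r ∈ C →
      (r'⁻¹ * y ∈ O ↔ c⁻¹ * (x * y) ∈ O) := by
    intro r r' hrr he x y hx hrC
    have hri : r⁻¹ = r := inv_eq_of_mul_eq_one_right hrr
    have hr'C : r' ∈ C := he ▸ mul_mem hrC (mem_centralizer_singleton_iff.2 hct.eq)
    have e1 : c⁻¹ * (x * y) = (r'⁻¹ * (r⁻¹ * x) * r') * (r'⁻¹ * y) := by
      rw [he, mul_inv_rev, hri]
      calc c⁻¹ * (x * y) = c⁻¹ * (r * r) * x * (r * c) * (c⁻¹ * r⁻¹) * y := by rw [hrr]; group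
        _ = _ := by rw [hri]; group
    rw [e1]
    exact ((Subgroup.mul_mem_cancel_left O (hnorm _ hr'C _ hx))).symm
  have hrc : r₃ = r₀ * c ∧ r₀ = r₁ * c ∧ r₁ = r₂ * c ∧ r₂ = r₃ * c := by
    have h1 : c * s * c = s := by
      have h0 := hD.inv
      calc c * s * c = c * (s * c * s⁻¹) * s := by group
        _ = s := by rw [h0, mul_inv_cancel, one_mul]
    have h2 : s * c = t * (c * s) := by
      calc s * c = c⁻¹ * (c * s * c) := by group
        _ = c⁻¹ * s := by rw [h1]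
        _ = t * (c * s) := by
          rw [← mul_assoc, ht, ← pow_succ]
          congr 1
          refine inv_eq_of_mul_eq_one_right ?_
          rw [← pow_succ']
          exact c_pow_four h
    refine ⟨h2.symm, h1.symm, ?_, ?_⟩
    · rw [hr₂, mul_assoc, h2, ← mul_assoc, htt, one_mul]
    · rw [hr₃, mul_assoc, h1]
  have hcount : ∑ x ∈ cosetFinset O c, Npair x = 12 * a ^ 2 := by
    let Sf : G → Finset G := fun x =>
      Finset.univ.filter fun a => IsConj t a ∧ IsConj t (a⁻¹ * x)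
    have hN : ∀ x, Npair x = (Sf x).card := fun x => by
      simp only [Npair, Sf, Nat.card_eq_fintype_card, Fintype.card_subtype]
    simp only [hN]
    rw [← Finset.card_sigma]
    have hdis : ∀ r r' x : G, r ∈ (S : Subgroup G) → r' ∈ (S : Subgroup G) → x ∈ I r → x ∈ I r' →
        r = r' := by
      intro r r' x hr hr' hx hx'
      simp only [I, Finset.mem_filter, mem_cosetFinset] at hx hx'
      have h1 := mul_mem hx.1 (inv_mem hx'.1)
      rw [show r⁻¹ * x * (r'⁻¹ * x)⁻¹ = r⁻¹ * r' by group] at h1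
      exact inv_mul_eq_one.1 (eq_one_of_mem_core (mul_mem (inv_mem hr) hr') h1)
    have hne01 : r₀ ≠ r₁ := fun e => H39.ne_one_of_orderOf_eq_two hD.z_order (by
      have hc : c = 1 := mul_eq_right.1 e.symm
      rw [hc, one_pow])
    have hne02 : r₀ ≠ r₂ := fun e => H39.ne_one_of_orderOf_eq_two hD.z_order (mul_eq_right.1 e.symm)
    have hne13 : r₁ ≠ r₃ := fun e => H39.ne_one_of_orderOf_eq_two hD.z_order (mul_eq_right.1 e.symm)
    have hne03 : r₀ ≠ r₃ := fun e => by
      have hc : t * c = 1 := mul_eq_right.1 (show t * c * s = s by rw [mul_assoc]; exact e.symm)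
      have h3 : c ^ 3 = 1 := by rw [pow_succ, ← ht]; exact hc
      have h4 := orderOf_dvd_of_pow_eq_one h3
      rw [hD.oc] at h4
      norm_num at h4
    have hne12 : r₁ ≠ r₂ := fun e => by
      have hc : c = t := mul_right_cancel e
      have h1 : c ^ 1 = 1 := by
        rw [pow_one]
        exact mul_eq_left.1 (show c * c = c by rw [← pow_two, ← ht]; exact hc.symm)
      have h4 := orderOf_dvd_of_pow_eq_one h1
      rw [hD.oc] at h4
      norm_num at h4
    have hne23 : r₂ ≠ r₃ := fun e => hne01 (mul_left_cancel e)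
    set W : Finset (G × G) := ((I r₀ ×ˢ I r₃ ∪ I r₁ ×ˢ I r₀) ∪ I r₂ ×ˢ I r₁) ∪ I r₃ ×ˢ I r₂ with hW
    have hWcard : W.card = 12 * a ^ 2 := by
      rw [hW, Finset.card_union_of_disjoint, Finset.card_union_of_disjoint,
        Finset.card_union_of_disjoint, Finset.card_product, Finset.card_product, Finset.card_product,
        Finset.card_product, ha1, ha2, ha3, ← hadef]
      · ring
      all_goals
        rw [Finset.disjoint_left]
        rintro ⟨p, q⟩ hp hq
        simp only [Finset.mem_union, Finset.mem_product] at hp hq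
      · exact hne01 (hdis _ _ p hS0 hS1 hp.1 hq.1)
      · rcases hp with hp | hp
        · exact hne02 (hdis _ _ p hS0 hS2 hp.1 hq.1)
        · exact hne12 (hdis _ _ p hS1 hS2 hp.1 hq.1)
      · rcases hp with (hp | hp) | hp
        · exact hne03 (hdis _ _ p hS0 hS3 hp.1 hq.1)
        · exact hne13 (hdis _ _ p hS1 hS3 hp.1 hq.1)
        · exact hne23 (hdis _ _ p hS2 hS3 hp.1 hq.1)
    rw [← hWcard]
    refine Finset.card_bij' (fun p _ => (p.2, p.2⁻¹ * p.1)) (fun q _ => ⟨q.1 * q.2, q.1⟩) ?_ ?_ ?_ ?_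
    · rintro ⟨x, p⟩ hp
      simp only [Finset.mem_sigma, Sf, Finset.mem_filter, Finset.mem_univ, true_and,
        mem_cosetFinset, hconj2] at hp
      obtain ⟨hx, h1, h2⟩ := hp
      set o := c⁻¹ * x with ho
      have hxeq : x = c * o := by rw [ho, mul_inv_cancel_left]
      have hpp := H39.mul_self_of_orderOf_eq_two h1
      have hqq := H39.mul_self_of_orderOf_eq_two h2
      have hpi : p⁻¹ = p := inv_eq_of_mul_eq_one_right hpp
      -- `p` centralises `t`
      have hpC : Commute p t := by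
        have hinvx : p * x * p⁻¹ = x⁻¹ := by
          rw [hpi] at hqq ⊢
          exact eq_inv_of_mul_eq_one_left (by rw [mul_assoc (p * x) p x]; exact hqq)
        set o' := (c⁻¹ * o * c) * o with ho'
        have ho'O : o' ∈ O := mul_mem (hnorm c (mem_centralizer_singleton_iff.2 hct.eq) o hx) hx
        have hx2 : x ^ 2 = t * o' := by rw [hxeq, pow_two, ht, ho', pow_two]; group
        have hto : Commute t o' := (commute_coreAt_t ho'O).symm
        obtain ⟨k, hk⟩ := hodd
        have hpow : (x ^ 2) ^ Nat.card O = t := by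
          rw [hx2, hto.mul_pow,
            orderOf_dvd_iff_pow_eq_one.1 (Subgroup.orderOf_dvd_natCard O ho'O), mul_one]
          rw [hk, pow_succ, pow_mul, pow_two, htt, one_pow, one_mul]
        have h3 := congrArg (fun z => (z ^ 2) ^ Nat.card O) hinvx
        simp only [conj_pow, inv_pow, hpow] at h3
        rw [inv_eq_of_mul_eq_one_right htt] at h3
        exact mul_inv_eq_iff_eq_mul.1 h3
      obtain ⟨o₁, ho₁, σ, hσ, hpσ⟩ := exists_centralizer_decomp h hpC
      have hσC : σ ∈ C := hSC hσ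
      have hmem : σ⁻¹ * p ∈ O := by rw [hpσ, ← mul_assoc]; exact hnorm σ hσC o₁ ho₁
      have hσ2 : σ * σ = 1 := by
        refine eq_one_of_mem_core (mul_mem hσ hσ) (t := t) ?_
        have h4 : σ * o₁ * σ⁻¹ ∈ O := conj_mem_coreAt (hD.z_central hσ) ho₁
        have h5 : o₁ * (σ * o₁ * σ⁻¹) * (σ * σ) = 1 := by rw [← hpp, hpσ]; group
        rw [← inv_eq_of_mul_eq_one_right h5]
        exact inv_mem (mul_mem ho₁ h4)
      have hσ1 : σ ≠ 1 := fun e => by
        rw [e, inv_one, one_mul] at hmem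
        exact H39.ne_one_of_orderOf_eq_two h1 (H62.GW.eq_one_of_odd (odd_orderOf_of_mem hodd hmem) hpp)
      have hpI : ∀ r, σ = r → p ∈ I r := fun r e => by
        subst e
        simp only [I, Finset.mem_filter, mem_cosetFinset]
        exact ⟨hmem, h1⟩
      have hqI : ∀ r r', σ = r → r' = r * c → (p⁻¹ * x) ∈ I r' := fun r r' e e' => by
        subst e
        simp only [I, Finset.mem_filter, mem_cosetFinset]
        refine ⟨?_, h2⟩
        rw [hshift σ r' hσ2 e' p (p⁻¹ * x) hmem hσC, mul_inv_cancel_left]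
        exact hx
      have key : σ = r₀ ∨ σ = r₁ ∨ σ = r₂ ∨ σ = r₃ := by
        rcases hD.cases σ hσ with hc | hc
        · exfalso
          rcases hD.sq_one_cases hc hσ2 with e | e
          · exact hσ1 e
          · -- `σ = t`: then `p = t` and `p⁻¹ x` is not an involution
            have hop : Commute (σ⁻¹ * p) σ := by
              rw [show σ = t from e] at hmem ⊢
              exact commute_coreAt_t hmem
            have h5 : (σ⁻¹ * p) * (σ⁻¹ * p) = 1 := by
              rw [inv_eq_of_mul_eq_one_right hσ2] at hop ⊢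
              calc σ * p * (σ * p) = σ * p * σ * p := by group
                _ = σ * (σ * p) * p := by rw [hop.eq]
                _ = 1 := by rw [← mul_assoc, hσ2, one_mul, hpp]
            have h6 : σ = p := inv_mul_eq_one.1
              (H62.GW.eq_one_of_odd (odd_orderOf_of_mem hodd hmem) h5)
            rw [← h6, e, inv_eq_of_mul_eq_one_right htt, hxeq] at hqq
            have hto : Commute t (c * o) := hct.symm.mul_right (commute_coreAt_t hx).symm
            have h7 : (c * o) * (c * o) = 1 := by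
              calc (c * o) * (c * o) = t * t * ((c * o) * (c * o)) := by rw [htt, one_mul]
                _ = t * (t * (c * o)) * (c * o) := by group
                _ = t * ((c * o) * t) * (c * o) := by rw [hto.eq]
                _ = 1 := by rw [← hqq]; group
            have h8 : t ∈ O := by
              have h9 : c * c * ((c⁻¹ * o * c) * o) = 1 := by rw [← h7]; group
              rw [ht, pow_two, eq_inv_of_mul_eq_one_left h9]
              exact inv_mem (mul_mem (hnorm c (mem_centralizer_singleton_iff.2 hct.eq) o hx) hx)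
            exact H39.ne_one_of_orderOf_eq_two hD.z_order (eq_one_of_mem_core hD.z_mem h8)
        · obtain ⟨i, hi⟩ := mem_zpowers_iff.1 hc
          have hσi : σ = c ^ i * s := by
            rw [hi, mul_assoc, H39.mul_self_of_orderOf_eq_two hD.os, mul_one]
          have hmod : c ^ i = c ^ (i % 4) := by
            rw [← zpow_mod_orderOf c i, hD.oc]; norm_num
          have h0 := Int.emod_nonneg i (show (4 : ℤ) ≠ 0 by norm_num)
          have h4 := Int.emod_lt_of_pos i (show (0 : ℤ) < 4 by norm_num)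
          rw [hmod] at hσi
          generalize i % 4 = k at h0 h4 hσi
          interval_cases k
          · exact Or.inl (by rw [hσi, zpow_zero, one_mul])
          · exact Or.inr (Or.inl (by rw [hσi, zpow_one]))
          · exact Or.inr (Or.inr (Or.inl (by rw [hσi, show (2 : ℤ) = (2 : ℕ) by norm_num, zpow_natCast])))
          · refine Or.inr (Or.inr (Or.inr ?_))
            rw [hσi, show (3 : ℤ) = (3 : ℕ) by norm_num, zpow_natCast, pow_succ, ← ht, mul_assoc]
      simp only [hW, Finset.mem_union, Finset.mem_product]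
      rcases key with e | e | e | e
      · exact Or.inl (Or.inl (Or.inl ⟨hpI _ e, hqI _ _ e hrc.1⟩))
      · exact Or.inl (Or.inl (Or.inr ⟨hpI _ e, hqI _ _ e hrc.2.1⟩))
      · exact Or.inl (Or.inr ⟨hpI _ e, hqI _ _ e hrc.2.2.1⟩)
      · exact Or.inr ⟨hpI _ e, hqI _ _ e hrc.2.2.2⟩
    · rintro ⟨p, q⟩ hpq
      have key : ∀ r r', r * r = 1 → r ∈ (S : Subgroup G) → r' = r * c → p ∈ I r → q ∈ I r' →
          (⟨p * q, p⟩ : (_ : G) × G) ∈ (cosetFinset O c).sigma Sf := by
        intro r r' hrr hrS he hp hq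
        simp only [I, Finset.mem_filter, mem_cosetFinset] at hp hq
        simp only [Finset.mem_sigma, Sf, Finset.mem_filter, Finset.mem_univ, true_and,
          mem_cosetFinset, inv_mul_cancel_left, hconj2]
        exact ⟨(hshift r r' hrr he p q hp.1 (hSC hrS)).1 hq.1, hp.2, hq.2⟩
      simp only [hW, Finset.mem_union, Finset.mem_product] at hpq
      rcases hpq with ((hq | hq) | hq) | hq
      · exact key _ _ (H39.mul_self_of_orderOf_eq_two (hinvol _ (Or.inl rfl))) hS0 hrc.1 hq.1 hq.2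
      · exact key _ _ (H39.mul_self_of_orderOf_eq_two (hinvol _ (Or.inr (Or.inl rfl)))) hS1 hrc.2.1
          hq.1 hq.2
      · exact key _ _ (H39.mul_self_of_orderOf_eq_two (hinvol _ (Or.inr (Or.inr (Or.inl rfl))))) hS2
          hrc.2.2.1 hq.1 hq.2
      · exact key _ _ (H39.mul_self_of_orderOf_eq_two (hinvol _ (Or.inr (Or.inr (Or.inr rfl))))) hS3
          hrc.2.2.2 hq.1 hq.2
    · rintro ⟨x, p⟩ _
      simp
    · rintro ⟨p, q⟩ _
      simp
  -- the character side
  have hc1 : c ≠ 1 := fun e => by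
    have := hD.oc; rw [e, orderOf_one] at this; omega
  have hcC : ∀ y, c * y = y * c → y ∈ C := fun y hy =>
    mem_centralizer_singleton_iff.2 ((show Commute c y from hy).pow_left 2).symm.eq
  have hK : ∀ y ∈ regCentral c, y ∈ O := fun y hy =>
    H62.GW.mem_coreAt_of_odd h (mem_centralizer_singleton_iff.1 (hcC y (mem_regCentral.1 hy).1))
      (mem_regCentral.1 hy).2
  have hchar : ∀ ξ : Cfsg.IrrCharacter G, ∑ x ∈ cosetFinset O c, (ξ : G → ℂ) x =
      if ξ ∈ Cfsg.principalBlock M G then (Nat.card O : ℂ) * (ξ : G → ℂ) c else 0 := by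
    intro ξ
    have hc2 : ∃ k, orderOf c = 2 ^ k := ⟨2, by rw [hD.oc]; norm_num⟩
    have hc := coset_sum hodd hc2 (hnorm c (mem_centralizer_singleton_iff.2 hct.eq)) hK
      (IsIrr.isClassFunction ξ.2)
    rw [sum_regCentral hM hc2 (dihedral_centralizer_complement hD hc2 hc1) ξ] at hc
    have hne0 : ((regCentral c).card : ℂ) ≠ 0 := Nat.cast_ne_zero.2
      (Finset.card_ne_zero_of_mem (mem_regCentral.2
        (show c * 1 = 1 * c ∧ Odd (orderOf (1 : G)) by simp)))
    refine mul_left_cancel₀ hne0 (hc.trans ?_)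
    split_ifs <;> ring
  set idx := C.index with hidxdef
  have hside : (Nat.card G : ℂ) * ∑ x ∈ cosetFinset O c, (Npair x : ℂ) =
      (idx : ℂ) * idx * (Nat.card O : ℂ) *
        ∑ᶠ ξ ∈ Cfsg.principalBlock M G, conj ((ξ : G → ℂ) t) * conj ((ξ : G → ℂ) t) *
          (ξ : G → ℂ) c / (ξ : G → ℂ) 1 := by
    rw [Finset.mul_sum, finsum_mem_eq_sum_ite]
    simp only [Npair, H83.card_pairs_mul_card, ← hC, ← hidxdef, Finset.mul_sum]
    rw [Finset.sum_comm]
    refine Finset.sum_congr rfl fun ξ _ => ?_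
    rw [Finset.sum_congr rfl (g := fun x => ((idx : ℂ) * idx * (conj ((ξ : G → ℂ) t) *
      conj ((ξ : G → ℂ) t) / (ξ : G → ℂ) 1)) * (ξ : G → ℂ) x) (fun x _ => by ring),
      ← Finset.mul_sum, hchar ξ]
    split_ifs <;> ring
  rw [← Nat.cast_sum, hcount, sum_block_eq hinj hne hχ' hB] at hside
  set x := charDegree (χ₁ : G → ℂ) with hxdef
  set x₂ := charDegree (χ₂ : G → ℂ) with hx₂def
  set x₃ := charDegree (χ₃ : G → ℂ) with hx₃def
  have hv1 := hv 1 one_pos (by norm_num)
  have hvh := hv 2 two_pos (by norm_num)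
  simp only [pow_one, ← ht] at hv1 hvh
  have hζ2 : ζ ^ 2 = -1 := by
    have h2 : ζ ^ 2 * ζ ^ 2 = 1 := by rw [← pow_add]; exact hζ.pow_eq_one
    exact (mul_self_eq_one_iff.1 h2).resolve_left
      (hζ.pow_ne_one_of_pos_of_lt (by norm_num) (by norm_num))
  have hzero : ∀ j : Fin (2 - 1), (χ' j : G → ℂ) c = 0 := by
    intro j
    have hj0 : (j : ℕ) = 0 := by have := j.2; omega
    have h1 := hv1.2.2.2 j
    rw [hj0, mul_one, zero_add, pow_one] at h1
    have hinv : ζ⁻¹ = -ζ := inv_eq_of_mul_eq_one_right (by rw [mul_neg, ← pow_two, hζ2, neg_neg])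
    rw [h1, hinv, add_neg_cancel, mul_zero]
  rw [Finset.sum_eq_zero (fun j _ => by rw [hzero j, mul_zero, zero_div]), add_zero] at hside
  have t1 : ((trivialIrr (G := G)) : G → ℂ) = fun _ => 1 := rfl
  simp only [t1] at hside
  simp only [hv1.1, hv1.2.1, hv1.2.2.1, hvh.1, hvh.2.1, hvh.2.2.1, apply_one_eq_charDegree,
    ← hxdef, ← hx₂def, ← hx₃def, map_one, map_intCast, map_mul, map_pow, map_neg] at hside
  norm_num [-Nat.card_eq_fintype_card] at hside
  have hx : 0 < x := charDegree_pos χ₁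
  have hx₂ : 0 < x₂ := charDegree_pos χ₂
  have hx₃ : 0 < x₃ := charDegree_pos χ₃
  have hG : Nat.card G = idx * (8 * Nat.card O) := by
    rw [hidxdef, ← C.index_mul_card, hC, ht, H4.GW.card_centralizer_center hD]
  have hidxodd : Odd idx := Nat.not_even_iff_odd.1 fun he =>
    S.not_dvd_index (he.two_dvd.trans (index_dvd_of_le hSC))
  have hsq : ∀ e : ℤ, e = 1 ∨ e = -1 → (e : ℂ) * e = 1 := by rintro e (rfl | rfl) <;> simp
  rw [hG] at hside
  push_cast at hside
  simp only [hsq δ₁ hδ₁, hsq δ₂ hδ₂, hsq δ₃ hδ₃, one_mul] at hside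
  have hxC : (x : ℂ) ≠ 0 := Nat.cast_ne_zero.2 hx.ne'
  have hx2C : (x₂ : ℂ) ≠ 0 := Nat.cast_ne_zero.2 hx₂.ne'
  have hx3C : (x₃ : ℂ) ≠ 0 := Nat.cast_ne_zero.2 hx₃.ne'
  have hi0 : (idx : ℂ) ≠ 0 := Nat.cast_ne_zero.2 hidxodd.pos.ne'
  have hO0 : (Nat.card O : ℂ) ≠ 0 := Nat.cast_ne_zero.2 Nat.card_pos.ne'
  have h2 : (idx : ℤ) * ((x : ℤ) * x₂ * x₃ + δ₁ * x₂ * x₃ + δ₂ * x * x₃ + δ₃ * x * x₂) =
      96 * (a : ℤ) ^ 2 * x * x₂ * x₃ := by
    have : (idx : ℂ) * ((x : ℂ) * x₂ * x₃ + δ₁ * x₂ * x₃ + δ₂ * x * x₃ + δ₃ * x * x₂) =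
        96 * (a : ℂ) ^ 2 * x * x₂ * x₃ := by
      apply mul_left_cancel₀ (mul_ne_zero hi0 hO0)
      field_simp at hside
      linear_combination -((idx : ℂ) * (Nat.card O : ℂ)) * hside
    exact_mod_cast this
  -- the order formula
  obtain ⟨hneδ, hord⟩ := dihedral_order_formula hD le_rfl hM
    ⟨hone s hD.os, hone (c * s) (hinvol _ (Or.inr (Or.inl rfl)))⟩ χ₁
    ((hB χ₁).2 (Or.inr (Or.inl rfl))) hne.1 δ₁ hδ₁ (fun k hk hk' => (hv k hk hk').1)
  rw [H4.GW.card_centralizer_center hD, H4.GW.card_centralizer_four hD,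
    H4.GW.card_centralizer_four (H4.GW.dGen_swap hD), ← ht, ← hOdef, hD3, ← hd', ← hxdef, hG,
    ← hI0] at hord
  push_cast at hord
  have hd'C : (d' : ℂ) ≠ 0 := Nat.cast_ne_zero.2 hd'0.ne'
  have ha0 : (a : ℂ) ≠ 0 := Nat.cast_ne_zero.2 haodd.pos.ne'
  have h1 : (idx : ℤ) * ((x : ℤ) - δ₁) ^ 2 = 128 * (a : ℤ) ^ 2 * x * (x + δ₁) := by
    have : (idx : ℂ) * ((x : ℂ) - δ₁) ^ 2 = 128 * (a : ℂ) ^ 2 * x * (x + δ₁) := by
      field_simp at hord
      apply mul_left_cancel₀ (mul_ne_zero ha0 hd'C)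
      linear_combination (a * d' / 16 : ℂ) * hord
    exact_mod_cast this
  have hdeg : 1 + δ₁ * (x : ℤ) = -δ₂ * (x₂ : ℤ) - δ₃ * (x₃ : ℤ) := by
    have hd := (hρ 1 (by rw [orderOf_one]; exact odd_one)).1
    rw [apply_one_eq_charDegree, apply_one_eq_charDegree, apply_one_eq_charDegree, ← hxdef,
      ← hx₂def, ← hx₃def] at hd
    exact_mod_cast hd
  obtain ⟨hx15, hδm⟩ := swap_arith hδ₁ hδ₂ hδ₃ hx hx₂ hx₃ hidxodd haodd hdeg hneδ h1 h2
  refine ⟨M, χ₁, hM, (hB χ₁).2 (Or.inr (Or.inl rfl)), ?_, fun k hk hk' => ?_⟩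
  · rw [apply_one_eq_charDegree, ← hxdef, hx15]; norm_num
  · rw [(hv k hk hk').1, hδm]; norm_num

/-- No prime is swapped. -/
theorem false_of_swap (h : Cfg S 2 c s) (hmax : CentMax 2 c) (hs : ActsPM (c ^ 2) s)
    (hcs : ActsPM (c ^ 2) (c * s)) {q : ℕ} [hq : Fact q.Prime]
    (hF : pCoreIn q (coreAt (c ^ 2)) ≠ ⊥)
    (hFs : ∀ v ∈ pCoreIn q (coreAt (c ^ 2)), Commute v s)
    (hFi : ∀ v ∈ pCoreIn q (coreAt (c ^ 2)), c * s * v * (c * s)⁻¹ = v⁻¹) : False := by
  haveI : Fact (Nat.Prime 2) := ⟨Nat.prime_two⟩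
  obtain ⟨e, he⟩ := swap_data h hmax hs hcs hF hFs hFi
  obtain ⟨M, χ, hM, hχ, h15, hval⟩ := exists_fifteen h hs hcs he.card_D
  set t := c ^ 2 with ht
  have hD := h.gen
  have hval' : ∀ k : ℕ, 0 < k → k < 4 → ∀ α ∈ invPart t s, (χ : G → ℂ) (c ^ k * α) = -1 := by
    intro k hk hk' α hα
    have hle : centralizer ({c ^ k} : Set G) ≤ centralizer ({t} : Set G) := fun y hy => by
      have hy' : Commute y (c ^ k) := mem_centralizer_singleton_iff.1 hy
      refine mem_centralizer_singleton_iff.2 (show Commute y t from ?_).eq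
      interval_cases k
      · simpa [ht] using hy'.pow_right 2
      · exact hy'
      · have h6 := hy'.pow_right 2
        rwa [← pow_mul, show c ^ (3 * 2) = t by
          rw [show 3 * 2 = 4 + 2 by norm_num, pow_add, show c ^ 4 = 1 from c_pow_four h, one_mul]] at h6
    haveI : ((coreAt t).subgroupOf (centralizer ({c ^ k} : Set G))).Normal :=
      normal_subgroupOf_of_le_normalizer (hle.trans (H62.GW.centralizer_le_normalizer_coreAt t))
    have hN : ¬ 2 ∣ Nat.card ((coreAt t).subgroupOf (centralizer ({c ^ k} : Set G))) := fun h2 =>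
      Nat.not_even_iff_odd.2 (odd_coreAt t) (even_iff_two_dvd.2 (h2.trans
        (Subgroup.card_comap_dvd_of_injective _ _ (Subgroup.subtype_injective _))))
    obtain ⟨j, -, hord⟩ : ∃ j, j ≤ 2 ∧ orderOf (c ^ k) = 2 ^ j :=
      (Nat.dvd_prime_pow Nat.prime_two).1 ((orderOf_pow_dvd k).trans (dvd_of_eq (by rw [hD.oc]; rfl)))
    have hαc : α ∈ centralizer ({c ^ k} : Set G) :=
      mem_centralizer_singleton_iff.2 ((he.c_A α hα).pow_left k).eq.symm
    have h1 := principalBlock_apply_mul hM hord hχ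
      ((coreAt t).subgroupOf (centralizer ({c ^ k} : Set G))) hN (y := ⟨α, hαc⟩)
      (mem_subgroupOf.2 (invPart_le t s hα))
    exact h1.trans (hval k hk hk')
  have hA15 := apply_eq_of_weight_three (IsIrr.isCharacter χ.2) invPart_commute
    ((odd_coreAt t).of_dvd_nat (card_dvd_of_le (invPart_le t s))) (c := c) (s := s) (e := e)
    (by rw [hD.oc]) he.c_A h15 hval' invPart_inverted
    (centralizer_le_normalizer_invPart (coreAt_le t he.e_mem.1)) he.e_three he.e_free
  obtain ⟨N, hN, hmem, -⟩ := IsChar.exists_kernel (IsIrr.isCharacter χ.2)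
  haveI := h.simple
  rcases IsSimpleGroup.eq_bot_or_eq_top_of_normal N hN with hN' | hN'
  · refine he.ne_bot (eq_bot_iff.2 fun α hα => ?_)
    rw [← hN']
    exact (hmem α).2 ((hA15 α hα).trans h15.symm)
  · have h1 := (hmem (c ^ 1)).1 (hN' ▸ mem_top _)
    rw [hval 1 one_pos (by norm_num), h15] at h1
    norm_num at h1

end Cfsg.Agent.H80.GW.M2
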