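import Cfsg.Agent.H80.GW.SwapShape
import Cfsg.Agent.H4.GW.Basics

/-!
# GW programme, M2: the prime of the swapped case is three

`|S| = 8`; if `O_q(O) ≠ 1` is centralised by `s` and inverted by `c * s` then it has order three.
-/

set_option autoImplicit false
set_option linter.unusedSectionVars false
set_option linter.style.haveILetI false

namespace Cfsg.Agent.H80.GW.M2

open Subgroup Cfsg.Agent
open Cfsg.Agent.GW (Cfg coreAt coreIn pairCore CentMax Fuses)
open Cfsg.Agent.Components (pCoreIn fitIn)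
open Cfsg.Agent.H62.GW (odd_orderOf_of_mem eq_one_of_inverted conj_mem_coreAt coreAt_le odd_coreAt)

universe u

variable {G : Type u} [Group G] [Finite G] {S : Sylow 2 G} {l : ℕ} {c s : G}

theorem pCoreIn_le_cenPart {t b : G} {r : ℕ} (hr : r.Prime)
    (hc : ∀ v ∈ pCoreIn r (coreAt t), Commute v b) : pCoreIn r (coreAt t) ≤ cenPart t b :=
  fun _ hv => subset_closure ⟨r, hr, hv, hc⟩

theorem c_mem_normalizer_pairCore (h : Cfg S 2 c s) :
    c ∈ normalizer (pairCore (c ^ 2) s : Set G) ∧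
      c ∈ normalizer (pairCore (c ^ 2) (c * s) : Set G) :=
  ⟨mem_normalizer_pairCore ((Commute.refl c).pow_right 2) (Or.inr (conj_s_two h)),
    mem_normalizer_pairCore ((Commute.refl c).pow_right 2) (Or.inr (conj_cs_two h))⟩

theorem commute_t_s (h : Cfg S l c s) : Commute (c ^ l) s := (h.gen.z_central h.gen.mem_s).symm

theorem commute_t_cs (h : Cfg S l c s) : Commute (c ^ l) (c * s) :=
  (h.gen.z_central (mul_mem h.gen.mem_c h.gen.mem_s)).symm

theorem t_mul_self (h : Cfg S l c s) : c ^ l * c ^ l = 1 :=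
  H39.mul_self_of_orderOf_eq_two h.gen.z_order

/-- `c * c` centralises `O`. -/
theorem conj_c_conj (h : Cfg S 2 c s) {x : G} (hx : Commute x (c ^ 2)) :
    c * (c * x * c⁻¹) * c⁻¹ = x := by
  calc c * (c * x * c⁻¹) * c⁻¹ = c ^ 2 * x * (c ^ 2)⁻¹ := by rw [pow_two]; group
    _ = x := by rw [← hx.eq, mul_inv_cancel_right]

theorem conj_c_of_cs {v : G} (hs : Commute v s) (hcs : c * s * v * (c * s)⁻¹ = v⁻¹) :
    c * v * c⁻¹ = v⁻¹ := by
  calc c * v * c⁻¹ = c * (s * v * s⁻¹) * c⁻¹ := by rw [← hs.eq, mul_inv_cancel_right]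
    _ = c * s * v * (c * s)⁻¹ := by group
    _ = v⁻¹ := hcs

/-- If no `O_r(O)` is centralised by `s` and moved by `c * s`, then `c` centralises `D`. -/
theorem commute_c_pairCore (h : Cfg S 2 c s) (hs : ActsPM (c ^ 2) s) (hcs : ActsPM (c ^ 2) (c * s))
    (hno : ∀ r : ℕ, r.Prime → (∀ v ∈ pCoreIn r (coreAt (c ^ 2)), Commute v s) →
      ∀ v ∈ pCoreIn r (coreAt (c ^ 2)), Commute v (c * s)) :
    ∀ x ∈ pairCore (c ^ 2) s, Commute c x := by
  intro x hx
  have hcm : c ∈ pmSub (c ^ 2) := sylow_le_pmSub h hs hcs h.gen.mem_c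
  have hfF := conj_mul_inv_mem_fitIn hcm hx.1
  have hfD : c * x * c⁻¹ * x⁻¹ ∈ pairCore (c ^ 2) s :=
    mul_mem (Coprime.conj_mem (c_mem_normalizer_pairCore h).1 hx) (inv_mem hx)
  have hfs : Commute (c * x * c⁻¹ * x⁻¹) s := mem_centralizer_singleton_iff.1 hfD.2
  have hle : cenPart (c ^ 2) s ≤ centralizer ({c} : Set G) := (closure_le _).2 fun v hv => by
    obtain ⟨r, hr, hv, hc⟩ := hv
    refine mem_centralizer_singleton_iff.2 ?_
    exact (by simpa using (hno r hr hc v hv).mul_right (hc v hv).inv_right : Commute v c).eq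
  have hfc : Commute c (c * x * c⁻¹ * x⁻¹) :=
    (mem_centralizer_singleton_iff.1 (hle (mem_cenPart_of_fitIn hs hfF hfs))).symm
  exact commute_of_conj_fix (c_pow_four h) (odd_orderOf_of_mem (odd_coreAt _) hfD.1) hfc
    (by group)

/-- A fusing element normalising a given Sylow subgroup of `C_O(b)`. -/
theorem exists_fuses_normalizing (h : Cfg S l c s) {q : ℕ} [Fact q.Prime] {g b : G}
    (hg : Fuses g (c ^ l) b) (R : Sylow q (pairCore (c ^ l) b)) :
    ∃ g', Fuses g' (c ^ l) b ∧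
      g' ∈ normalizer (((R : Subgroup (pairCore (c ^ l) b)).map (pairCore (c ^ l) b).subtype :
        Subgroup G) : Set G) := by
  generalize hD : pairCore (c ^ l) b = D at R ⊢
  set R' := (R : Subgroup D).map D.subtype with hR'
  have hgD : g ∈ normalizer (D : Set G) := hD ▸ fuses_mem_normalizer_pairCore h hg
  have hle : R'.map (MulAut.conj g).toMonoidHom ≤ D := by
    rintro _ ⟨x, hx, rfl⟩
    exact Coprime.conj_mem hgD ((map_subtype_le _) hx)
  let R₁ : Sylow q D := Sylow.ofCard ((R'.map (MulAut.conj g).toMonoidHom).subgroupOf D) (by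
    rw [Nat.card_congr (subgroupOfEquivOfLe hle).toEquiv, Coprime.card_map_conj, hR',
      card_map_of_injective D.subtype_injective, R.card_eq_multiplicity])
  obtain ⟨d, hd⟩ := MulAction.exists_smul_eq D R₁ R
  refine ⟨(d : G) * g, ?_, mem_normalizer_of_forall fun x hx => ?_⟩
  · have hd2 : (d : G) ∈ pairCore (c ^ l) b := hD ▸ d.2
    have hdt : Commute (d : G) (c ^ l) := commute_coreAt_t hd2.1
    have hdb : Commute (d : G) b := mem_centralizer_singleton_iff.1 hd2.2
    refine ⟨?_, ?_⟩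
    · calc (d : G) * g * c ^ l * ((d : G) * g)⁻¹ = d * (g * c ^ l * g⁻¹) * (d : G)⁻¹ := by group
        _ = b := by rw [hg.1, hdb.eq, mul_inv_cancel_right]
    · calc (d : G) * g * b * ((d : G) * g)⁻¹ = d * (g * b * g⁻¹) * (d : G)⁻¹ := by group
        _ = c ^ l * b := by rw [hg.2, (hdt.mul_right hdb).eq, mul_inv_cancel_right]
  · have hgx : g * x * g⁻¹ ∈ R'.map (MulAut.conj g).toMonoidHom := ⟨x, hx, rfl⟩
    have h1 : MulAut.conj d (⟨g * x * g⁻¹, hle hgx⟩ : D) ∈ (R : Subgroup D) := by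
      rw [← hd, Sylow.coe_subgroup_smul]
      exact ⟨_, hgx, rfl⟩
    have h2 := mem_map_of_mem D.subtype h1
    rw [← hR'] at h2
    simpa [mul_assoc] using h2

theorem eq_of_card_three {H : Subgroup G} (hH : Nat.card H = 3) {v : G} (hv : v ∈ H) (hv1 : v ≠ 1) :
    v ^ 3 = 1 ∧ ∀ x ∈ H, x = 1 ∨ x = v ∨ x = v⁻¹ := by
  have ho : orderOf v = 3 := by
    have h1 : orderOf v ∣ 3 := by
      rw [← hH, ← Subgroup.orderOf_mk v hv]
      exact orderOf_dvd_natCard _
    exact ((Nat.dvd_prime Nat.prime_three).1 h1).resolve_left fun e => hv1 (orderOf_eq_one_iff.1 e)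
  have hv3 : v ^ 3 = 1 := ho ▸ pow_orderOf_eq_one v
  refine ⟨hv3, fun x hx => ?_⟩
  have e : zpowers v = H := eq_of_le_of_card_ge (zpowers_le.2 hv) (by rw [Nat.card_zpowers, ho, hH])
  obtain ⟨i, rfl⟩ := mem_zpowers_iff.1 (e ▸ hx)
  have hi : v ^ i = v ^ (i % 3) := by rw [← zpow_mod_orderOf v i, ho]; norm_num
  rw [hi]
  have h0 := Int.emod_nonneg i (show (3 : ℤ) ≠ 0 by norm_num)
  have h1 := Int.emod_lt_of_pos i (show (0 : ℤ) < 3 by norm_num)
  generalize i % 3 = k at h0 h1
  interval_cases k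
  · exact Or.inl (zpow_zero v)
  · exact Or.inr (Or.inl (zpow_one v))
  · refine Or.inr (Or.inr (eq_inv_of_mul_eq_one_left ?_))
    rw [← zpow_add_one, show (2 : ℤ) + 1 = (3 : ℕ) by norm_num, zpow_natCast, hv3]

/-- Elements of odd order normalising a subgroup of order three centralise it. -/
theorem commute_card_three {H : Subgroup G} (hH : Nat.card H = 3) {o v : G}
    (ho : Odd (orderOf o)) (hon : o ∈ normalizer (H : Set G)) (hv : v ∈ H) : Commute o v := by
  by_cases hv1 : v = 1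
  · rw [hv1]; exact Commute.one_right o
  rcases (eq_of_card_three hH hv hv1).2 _ (Coprime.conj_mem hon hv) with e | e | e
  · exact absurd (conj_eq_one_iff.1 e) hv1
  · exact mul_inv_eq_iff_eq_mul.1 e
  · refine H62.GW.commute_of_sq ho (mul_inv_eq_iff_eq_mul.1 ?_ : Commute (o * o) v)
    calc o * o * v * (o * o)⁻¹ = o * (o * v * o⁻¹) * o⁻¹ := by group
      _ = v := by rw [e, ← conj_inv, e, inv_inv]

/-- The swapped prime is three. -/
theorem swap_prime_three (h : Cfg S 2 c s) (hmax : CentMax 2 c) (hs : ActsPM (c ^ 2) s)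
    (hcs : ActsPM (c ^ 2) (c * s)) {q : ℕ} [hq : Fact q.Prime]
    (hF : pCoreIn q (coreAt (c ^ 2)) ≠ ⊥)
    (hFs : ∀ v ∈ pCoreIn q (coreAt (c ^ 2)), Commute v s)
    (hFi : ∀ v ∈ pCoreIn q (coreAt (c ^ 2)), c * s * v * (c * s)⁻¹ = v⁻¹) :
    q = 3 ∧ Nat.card (pCoreIn q (coreAt (c ^ 2))) = 3 := by
  have hDG := h.gen
  set t := c ^ 2 with ht
  set F := pCoreIn q (coreAt t) with hFdef
  set D := pairCore t s with hDdef
  have hFc : ∀ v ∈ F, c * v * c⁻¹ = v⁻¹ := fun v hv => conj_c_of_cs (hFs v hv) (hFi v hv)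
  have hct : Commute c t := (Commute.refl c).pow_right 2
  have hcC : c ∈ centralizer ({t} : Set G) := mem_centralizer_singleton_iff.2 hct.eq
  have hnF : centralizer ({t} : Set G) ≤ normalizer (F : Set G) :=
    H62.GW.centralizer_le_normalizer_pCoreAt t q
  have hFD : F ≤ D := le_inf (H62.GW.pCoreAt_le t q)
    fun v hv => mem_centralizer_singleton_iff.2 (hFs v hv).eq
  obtain ⟨hcD, hcD'⟩ := c_mem_normalizer_pairCore h
  have hAS : IsPGroup 2 (zpowers c : Subgroup G) := S.isPGroup'.to_le (zpowers_le.2 hDG.mem_c)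
  have hDo : ∀ b : G, Odd (Nat.card (pairCore t b)) := fun b =>
    (odd_coreAt t).of_dvd_nat (card_dvd_of_le inf_le_left)
  obtain ⟨R, hFR, hcR⟩ := Coprime.exists_invariant_sylow_ge (zpowers_le.2 hcD)
    (coprime_of_two_group hAS (hDo s)) (Or.inr (S0205.result (hDo s))) q hFD
    (Components.isPGroup_pCoreIn _) (zpowers_le.2 (hnF hcC))
  set R' := (R : Subgroup D).map D.subtype with hR'
  have hR'D : R' ≤ D := map_subtype_le _
  obtain ⟨g₀, hg₀⟩ := H61.GW.exists_fuses_left h
  obtain ⟨g, hg, hgR⟩ := exists_fuses_normalizing h hg₀ R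
  set Z := R' ⊓ centralizer (R' : Set G) with hZ
  by_cases hinv : ∀ v ∈ Z, c * v * c⁻¹ = v⁻¹
  · -- a fusing element centralising `F ∩ Z(R)`
    exfalso
    have hgZ : g ∈ normalizer (Z : Set G) := mem_normalizer_of_forall fun x hx =>
      Subgroup.mem_inf.2 ⟨Coprime.conj_mem hgR hx.1, mem_centralizer_iff.2 fun w hw => by
        have h1 := mem_centralizer_iff.1 hx.2 _ (Coprime.conj_mem' hgR hw)
        calc w * (g * x * g⁻¹) = g * ((g⁻¹ * w * g) * x) * g⁻¹ := by group
          _ = g * (x * (g⁻¹ * w * g)) * g⁻¹ := by rw [h1]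
          _ = g * x * g⁻¹ * w := by group⟩
    have hθ : Fuses (c * g * c * g⁻¹) t s :=
      fuses_swap hg (t_mul_self h) (commute_t_s h) hct (conj_s_two h)
    have hθZ := commute_swap_of_invert hgZ hinv
    have hne : F ⊓ centralizer (R' : Set G) ≠ ⊥ := H77.GW.inf_centralizer_ne_bot
      (R.isPGroup'.map D.subtype) (Components.isPGroup_pCoreIn _)
      (hR'D.trans (inf_le_left.trans ((coreAt_le t).trans hnF))) hF
    set Y := closure {x : G | ∃ d ∈ D, ∃ v ∈ F ⊓ centralizer (R' : Set G), x = d * v * d⁻¹} with hY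
    have hYF : Y ≤ F := (closure_le _).2 fun x hx => by
      obtain ⟨d, hd, v, hv, rfl⟩ := hx
      exact Coprime.conj_mem (hnF (coreAt_le t hd.1)) hv.1
    have hY0 : Y ≠ ⊥ := fun e => hne (eq_bot_iff.2 fun v hv => e ▸
      (subset_closure ⟨1, one_mem _, v, hv, by group⟩ : v ∈ Y))
    have hstab : ∀ g : G, (∀ d ∈ D, ∀ v ∈ F ⊓ centralizer (R' : Set G),
        g * (d * v * d⁻¹) * g⁻¹ ∈ Y) → g ∈ normalizer (Y : Set G) := fun g hg' =>
      mem_normalizer_of_forall fun x hx => by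
        have hle : Y ≤ Y.comap (MulAut.conj g).toMonoidHom := (closure_le _).2 fun y hy => by
          obtain ⟨d, hd, v, hv, rfl⟩ := hy
          exact hg' d hd v hv
        exact hle hx
    have hsm : s ∈ pmSub t := sylow_le_pmSub h hs hcs hDG.mem_s
    have hCn : centralizer ({t} : Set G) ≤ normalizer (Y : Set G) := by
      intro x hx
      obtain ⟨o, ho, σ, hσ, rfl⟩ :=
        exists_centralizer_decomp h (mem_centralizer_singleton_iff.1 hx : x * t = t * x)
      obtain ⟨α, hα, d₀, hd₀, rfl⟩ := exists_decomp hsm (H39.mul_self_of_orderOf_eq_two hDG.os) ho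
      have hcY : c ∈ normalizer (Y : Set G) := hstab _ fun d hd v hv => subset_closure
        ⟨c * d * c⁻¹, Coprime.conj_mem hcD hd, v⁻¹, inv_mem hv,
          by rw [← hFc v hv.1]; group⟩
      have hsY : s ∈ normalizer (Y : Set G) := hstab _ fun d hd v hv => by
        have h1 : Commute s (d * v * d⁻¹) :=
          ((mem_centralizer_singleton_iff.1 hd.2 : d * s = s * d).symm |> fun e : Commute s d =>
            (e.mul_right (hFs v hv.1).symm).mul_right e.inv_right)
        rw [h1.eq, mul_inv_cancel_right]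
        exact subset_closure ⟨d, hd, v, hv, rfl⟩
      refine mul_mem (mul_mem (hstab α fun d hd v hv => ?_) (hstab d₀ fun d hd v hv => ?_)) ?_
      · rw [(invPart_commute_cenPart α hα _ (pCoreIn_le_cenPart hq.out hFs
          (Coprime.conj_mem (hnF (coreAt_le t hd.1)) hv.1))).eq, mul_inv_cancel_right]
        exact subset_closure ⟨d, hd, v, hv, rfl⟩
      · exact subset_closure ⟨d₀ * d, mul_mem hd₀ hd, v, hv, by group⟩
      · rcases hDG.cases σ hσ with hc' | hc'
        · exact zpowers_le.2 hcY hc'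
        · simpa using mul_mem (zpowers_le.2 hcY hc') (inv_mem hsY)
    refine not_normalized h hmax hY0 (hYF.trans (H62.GW.pCoreAt_le t q)) hCn hθ (ne_z_of_out h).1
      (hstab _ fun d hd v hv => subset_closure
        ⟨_, Coprime.conj_mem (fuses_mem_normalizer_pairCore h hθ) hd, v, hv, ?_⟩)
    have h1 : Commute (c * g * c * g⁻¹) v := hθZ v ⟨hFR hv.1, hv.2⟩
    calc c * g * c * g⁻¹ * (d * v * d⁻¹) * (c * g * c * g⁻¹)⁻¹
        = c * g * c * g⁻¹ * d * (c * g * c * g⁻¹)⁻¹ *
          (c * g * c * g⁻¹ * v * (c * g * c * g⁻¹)⁻¹) *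
          (c * g * c * g⁻¹ * d * (c * g * c * g⁻¹)⁻¹)⁻¹ := by group
      _ = _ := by rw [h1.eq, mul_inv_cancel_right]
  · push Not at hinv
    obtain ⟨z, hz, hzi⟩ := hinv
    have hcR' : c ∈ normalizer (R' : Set G) := hcR (mem_zpowers c)
    have hzc : c * z * c⁻¹ ∈ R' := Coprime.conj_mem hcR' hz.1
    set a := z * (c * z * c⁻¹) with hadef
    have haR : a ∈ R' := mul_mem hz.1 hzc
    have haC : a ∈ centralizer (R' : Set G) :=
      mul_mem hz.2 (mem_centralizer_iff.2 fun w hw => by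
        have h1 := mem_centralizer_iff.1 hz.2 _ (Coprime.conj_mem' hcR' hw)
        calc w * (c * z * c⁻¹) = c * ((c⁻¹ * w * c) * z) * c⁻¹ := by group
          _ = c * (z * (c⁻¹ * w * c)) * c⁻¹ := by rw [h1]
          _ = c * z * c⁻¹ * w := by group)
    have ha1 : a ≠ 1 := fun e => hzi (eq_inv_of_mul_eq_one_right e)
    have hac : Commute a c := by
      refine (mul_inv_eq_iff_eq_mul.1 ?_ : Commute c a).symm
      calc c * a * c⁻¹ = c * z * c⁻¹ * (c * (c * z * c⁻¹) * c⁻¹) := by rw [hadef]; group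
        _ = c * z * c⁻¹ * z := by rw [conj_c_conj h (commute_coreAt_t (hR'D hz.1).1)]
        _ = a := mem_centralizer_iff.1 hz.2 _ hzc
    have haD : a ∈ D := hR'D haR
    set D' := pairCore t (c * s) with hD'def
    have haD' : a ∈ D' := Subgroup.mem_inf.2 ⟨haD.1, mem_centralizer_singleton_iff.2
      (hac.mul_right (mem_centralizer_singleton_iff.1 haD.2 : Commute a s)).eq⟩
    have hap : IsPGroup q (zpowers a : Subgroup G) :=
      (R.isPGroup'.map D.subtype).to_le (zpowers_le.2 haR)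
    obtain ⟨R₂, haR₂, hcR₂⟩ := Coprime.exists_invariant_sylow_ge (zpowers_le.2 hcD')
      (coprime_of_two_group hAS (hDo (c * s))) (Or.inr (S0205.result (hDo (c * s)))) q
      (zpowers_le.2 haD') hap (zpowers_le.2 (mem_normalizer_of_forall fun x hx => by
        obtain ⟨i, rfl⟩ := mem_zpowers_iff.1 hx
        rw [← (hac.zpow_left i).eq, mul_inv_cancel_right]
        exact hx))
    set R₂' := (R₂ : Subgroup D').map D'.subtype with hR₂'
    have hfix : ∀ x ∈ R₂', Commute c x := by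
      intro x hx
      have hxD := map_subtype_le _ hx
      have hfR : c * x * c⁻¹ * x⁻¹ ∈ R₂' :=
        mul_mem (Coprime.conj_mem (hcR₂ (mem_zpowers c)) hx) (inv_mem hx)
      have hfD := map_subtype_le _ hfR
      obtain ⟨k, hk⟩ := (R₂.isPGroup'.map D'.subtype) ⟨_, hfR⟩
      have hfF := H62.GW.mem_pCoreIn_of_fitIn
        (conj_mul_inv_mem_fitIn (sylow_le_pmSub h hs hcs hDG.mem_c) hxD.1)
        (congrArg Subtype.val hk)
      have hf1 : c * x * c⁻¹ * x⁻¹ = 1 := eq_one_of_inverted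
        (odd_orderOf_of_mem (odd_coreAt t) hfD.1) (hFi _ hfF)
        (mem_centralizer_singleton_iff.1 hfD.2 : _ * (c * s) = c * s * _).symm
      exact mul_inv_eq_iff_eq_mul.1 (mul_inv_eq_one.1 hf1)
    obtain ⟨g₁, hg₁⟩ := H61.GW.exists_fuses_right h
    obtain ⟨g', hg', hg'R⟩ := exists_fuses_normalizing h hg₁ R₂
    have hθ : Fuses (c * g' * c * g'⁻¹) t (c * s) :=
      fuses_swap hg' (t_mul_self h) (commute_t_cs h) hct (conj_cs_two h)
    obtain ⟨-, h3, h4, -⟩ := shape_facts h hmax hF hFs hFi haD ha1 hac hθ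
      (commute_swap_of_fix hg'R hfix a (haR₂ (mem_zpowers a)))
      (fun v hv => mem_centralizer_iff.1 haC v (hFR hv))
    exact ⟨h3, h4⟩

end Cfsg.Agent.H80.GW.M2
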