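import Cfsg.Agent.H80.GW.ShapeSeven
import Cfsg.Agent.H76.PElements
import Cfsg.Agent.H60.GW.MaxInv
import Cfsg.Agent.Coprime.Action

/-!
# GW programme, M2: the centraliser of an element of `D` in the swapped case

`|S| = 8`, `O_q(O)` is nontrivial, centralised by `s` and inverted by `c * s`.  A proper centraliser
`X` containing it and an element fusing `⟨t, c * s⟩` has `X / O(X) = A₇` and `|O_q(O)| = 3`.
-/

set_option autoImplicit false
set_option linter.unusedSectionVars false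
set_option linter.style.haveILetI false

namespace Cfsg.Agent.H80.GW.M2

open Subgroup Cfsg.Agent
open Cfsg.Agent.GW (Cfg coreAt coreIn pairCore CentMax Fuses)
open Cfsg.Agent.Components (pCoreIn fitIn)
open Cfsg.Agent.H62.GW (odd_orderOf_of_mem eq_one_of_inverted coreAt_le odd_coreAt)

universe u

variable {G : Type u} [Group G] [Finite G] {S : Sylow 2 G} {l : ℕ} {c s : G}

theorem conj_s_two (h : Cfg S 2 c s) : c * s * c⁻¹ = c ^ 2 * s := by
  have h1 := h.gen.conj_reflection 0 1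
  rw [zpow_one, zpow_zero, one_mul, zero_add, mul_one, zpow_two, ← pow_two] at h1
  exact h1

theorem conj_cs_two (h : Cfg S 2 c s) : c * (c * s) * c⁻¹ = c ^ 2 * (c * s) := by
  calc c * (c * s) * c⁻¹ = c * (c * s * c⁻¹) := by group
    _ = c ^ 2 * (c * s) := by rw [conj_s_two h]; group

theorem c_pow_four (h : Cfg S 2 c s) : c ^ 2 ^ 2 = 1 := by
  have h1 := pow_orderOf_eq_one c
  rwa [h.gen.oc] at h1

theorem odd_coreIn (X : Subgroup G) : Odd (Nat.card (coreIn X)) := by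
  unfold coreIn
  rw [Subgroup.card_subtype]
  exact Cores.odd_card_oddCore

theorem coreIn_le (X : Subgroup G) : coreIn X ≤ X := map_subtype_le _

theorem le_normalizer_coreIn (X : Subgroup G) : X ≤ normalizer (coreIn X : Set G) :=
  Components.le_normalizer_map_subtype _

theorem mem_coreIn_iff {X : Subgroup G} {x : G} (hx : x ∈ X) :
    x ∈ coreIn X ↔ (⟨x, hx⟩ : X) ∈ Cfsg.oddCore ↥X :=
  ⟨fun ⟨y, hy, e⟩ => (Subtype.ext e : y = ⟨x, hx⟩) ▸ hy, fun hy => ⟨_, hy, rfl⟩⟩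

theorem not_mem_of_mul_self {K : Subgroup G} (hK : Odd (Nat.card K)) {x : G} (hxx : x * x = 1)
    (hx : x ≠ 1) : x ∉ K :=
  fun h => hx (H62.GW.eq_one_of_odd (odd_orderOf_of_mem hK h) hxx)

/-- `C(O_q(O)) ≤ C(t)`. -/
theorem centralizer_pCoreAt_le (h : Cfg S l c s) (hmax : CentMax l c) {q : ℕ}
    (hF : pCoreIn q (coreAt (c ^ l)) ≠ ⊥) :
    centralizer (pCoreIn q (coreAt (c ^ l)) : Set G) ≤ centralizer ({c ^ l} : Set G) :=
  (centralizer_le_normalizer _).trans (H62.GW.normalizer_le h hmax hF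
    ((H62.GW.pCoreAt_le _ q).trans (coreAt_le _)) (H62.GW.centralizer_le_normalizer_pCoreAt _ q))

theorem prime_ne_two_of_ne_bot {t : G} {q : ℕ} (hF : pCoreIn q (coreAt t) ≠ ⊥) : q ≠ 2 := by
  rintro rfl
  exact hF (H62.GW.pCoreIn_two_eq_bot t)

/-- The central involution centralises every invariant `q`-group over `O_q(O)`. -/
theorem commute_z_of_invariant (h : Cfg S l c s) (hmax : CentMax l c) {q : ℕ} [Fact q.Prime]
    (hF : pCoreIn q (coreAt (c ^ l)) ≠ ⊥) {P : Subgroup G} (hP : IsPGroup q P)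
    (hFP : pCoreIn q (coreAt (c ^ l)) ≤ normalizer (P : Set G))
    (htP : c ^ l ∈ normalizer (P : Set G)) : ∀ x ∈ P, Commute x (c ^ l) := by
  have hcen : ∀ x : G, Commute x (c ^ l) → x ∈ centralizer (zpowers (c ^ l) : Set G) :=
    fun x hx => mem_centralizer_iff.2 fun z hz => by
      obtain ⟨i, rfl⟩ := mem_zpowers_iff.1 hz
      exact (hx.zpow_right i).eq.symm
  have hcop : (Nat.card (zpowers (c ^ l))).Coprime q := by
    rw [Nat.card_zpowers, h.gen.z_order]
    exact (Nat.coprime_primes Nat.prime_two Fact.out).2 (prime_ne_two_of_ne_bot hF).symm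
  have h1 := Coprime.thompson_AxB (Components.isPGroup_pCoreIn _) hcop
    (fun v hv => hcen v (commute_coreAt_t (H62.GW.pCoreAt_le _ q hv))) P hP hFP (zpowers_le.2 htP)
    fun v hv => hcen v (mem_centralizer_singleton_iff.1 (centralizer_pCoreAt_le h hmax hF hv.2))
  exact fun x hx => mem_centralizer_iff.1 (h1 (mem_zpowers _)) x hx

theorem isPGroup_closure_pair {x y : G} (hx : x ∈ (S : Subgroup G)) (hy : y ∈ (S : Subgroup G)) :
    IsPGroup 2 (closure ({x, y} : Set G) : Subgroup G) :=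
  S.isPGroup'.to_le ((closure_le _).2 (by rintro z (rfl | rfl); exacts [hx, hy]))

theorem coprime_of_two_group {A K : Subgroup G} (hA : IsPGroup 2 A) (hK : Odd (Nat.card K)) :
    (Nat.card A).Coprime (Nat.card K) := by
  haveI : Fact (Nat.Prime 2) := ⟨Nat.prime_two⟩
  obtain ⟨k, hk⟩ := IsPGroup.iff_card.1 hA
  rw [hk]
  exact Nat.Coprime.pow_left k (Nat.coprime_two_left.2 hK)

theorem card_inf_sylow_map {q : ℕ} [Fact q.Prime] {K U : Subgroup G} (hUK : U ≤ K)
    (hn : K ≤ normalizer (U : Set G)) (P : Sylow q K) :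
    Nat.card ((P : Subgroup K).map K.subtype ⊓ U : Subgroup G) =
      q ^ (Nat.card U).factorization q := by
  haveI : (U.subgroupOf K).Normal := normal_subgroupOf_of_le_normalizer hn
  have e : ((P : Subgroup K) ⊓ U.subgroupOf K).map K.subtype =
      (P : Subgroup K).map K.subtype ⊓ U := by
    rw [Subgroup.map_inf _ _ _ K.subtype_injective, map_subgroupOf_eq_of_le hUK]
  rw [← e, card_map_of_injective K.subtype_injective, H76.card_inf_sylow,
    Nat.card_congr (subgroupOfEquivOfLe hUK).toEquiv]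

/-- The facts on `X = C(a)`. -/
theorem shape_facts (h : Cfg S 2 c s) (hmax : CentMax 2 c) {q : ℕ} [hq : Fact q.Prime]
    (hF : pCoreIn q (coreAt (c ^ 2)) ≠ ⊥)
    (hFs : ∀ v ∈ pCoreIn q (coreAt (c ^ 2)), Commute v s)
    (hFi : ∀ v ∈ pCoreIn q (coreAt (c ^ 2)), c * s * v * (c * s)⁻¹ = v⁻¹)
    {a θ : G} (ha : a ∈ pairCore (c ^ 2) s) (ha1 : a ≠ 1) (hac : Commute a c)
    (hθ : Fuses θ (c ^ 2) (c * s)) (hθa : Commute θ a)
    (hFa : ∀ v ∈ pCoreIn q (coreAt (c ^ 2)), Commute v a) :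
    (∀ v ∈ pCoreIn q (coreAt (c ^ 2)), v ∈ coreIn (centralizer ({a} : Set G)) → v = 1) ∧
      q = 3 ∧ Nat.card (pCoreIn q (coreAt (c ^ 2))) = 3 ∧
      ∀ x : G, Commute x a → Odd (orderOf x) → Commute x (c ^ 2) → s * x * s⁻¹ = x⁻¹ →
        x ∈ coreIn (centralizer ({a} : Set G)) := by
  haveI : Fact (Nat.Prime 2) := ⟨Nat.prime_two⟩
  have hD := h.gen
  set t := c ^ 2 with ht
  set F := pCoreIn q (coreAt t) with hFdef
  set X := centralizer ({a} : Set G) with hX
  set U := coreIn X with hU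
  have hmemX : ∀ {x : G}, Commute x a → x ∈ X := fun hx => mem_centralizer_singleton_iff.2 hx.eq
  have hFX : F ≤ X := fun v hv => hmemX (hFa v hv)
  have hat : Commute a t := commute_coreAt_t ha.1
  have has : Commute a s := mem_centralizer_singleton_iff.1 ha.2
  have htX : t ∈ X := hmemX hat.symm
  have hsX : s ∈ X := hmemX has.symm
  have hcsX : c * s ∈ X := hmemX (hac.symm.mul_left has.symm)
  have hθX : θ ∈ X := hmemX hθa
  have hodd : Odd (Nat.card F) := (odd_coreAt t).of_dvd_nat (card_dvd_of_le (H62.GW.pCoreAt_le t q))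
  -- (i)
  have hi : ∀ v ∈ F, v ∈ U → v = 1 := by
    have hUX : U ≤ X := coreIn_le X
    have hXN : X ≤ normalizer (U : Set G) := le_normalizer_coreIn X
    set A := closure ({t, c * s} : Set G) with hA
    have hA2 : IsPGroup 2 A := isPGroup_closure_pair hD.z_mem (mul_mem hD.mem_c hD.mem_s)
    have hgen : ∀ H : Subgroup G, t ∈ H → c * s ∈ H → A ≤ H := fun H h1 h2 =>
      (closure_le _).2 (by rintro z (rfl | rfl); exacts [h1, h2])
    have hAX : A ≤ X := hgen X htX hcsX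
    have hFn : A ≤ normalizer (F : Set G) := hgen _
      (H62.GW.centralizer_le_normalizer_pCoreAt t q (mem_centralizer_singleton_iff.2 rfl))
      (H62.GW.centralizer_le_normalizer_pCoreAt t q
        (mem_centralizer_singleton_iff.2 (hD.z_central (mul_mem hD.mem_c hD.mem_s))))
    set K := U ⊔ F with hK
    have hKo : Odd (Nat.card K) := H60.GW.odd_card_sup (prime_ne_two_of_ne_bot hF) (odd_coreIn X)
      (Components.isPGroup_pCoreIn _) (hFX.trans hXN)
    have hKX : K ≤ X := sup_le hUX hFX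
    have hAK : A ≤ normalizer (K : Set G) := fun g hg => mem_normalizer_of_forall fun x hx => by
      have hle : K ≤ K.comap (MulAut.conj g).toMonoidHom := sup_le
        (fun y hy => mem_sup_left (Coprime.conj_mem (hXN (hAX hg)) hy))
        (fun y hy => mem_sup_right (Coprime.conj_mem (hFn hg) hy))
      exact hle hx
    obtain ⟨P, hFP, hAP⟩ := Coprime.exists_invariant_sylow_ge hAK (coprime_of_two_group hA2 hKo)
      (Or.inr (S0205.result hKo)) q (le_sup_right : F ≤ K) (Components.isPGroup_pCoreIn _) hFn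
    set P' := (P : Subgroup K).map K.subtype with hP'
    have hPt : ∀ x ∈ P', Commute x t := commute_z_of_invariant h hmax hF (P.isPGroup'.map K.subtype)
      (hFP.trans le_normalizer) (hAP (subset_closure (Or.inl rfl)))
    set Q₀ := P' ⊓ U with hQ₀
    have hQ₀c : Nat.card Q₀ = q ^ (Nat.card U).factorization q :=
      card_inf_sylow_map le_sup_left (hKX.trans hXN) P
    have hQ₀n : A ≤ normalizer (Q₀ : Set G) := fun g hg => mem_normalizer_of_forall fun x hx =>
      Subgroup.mem_inf.2 ⟨Coprime.conj_mem (hAP hg) hx.1, Coprime.conj_mem (hXN (hAX hg)) hx.2⟩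
    set Q₁ := Q₀.map (MulAut.conj θ).toMonoidHom with hQ₁
    have hQ₁U : Q₁ ≤ U := by
      rintro _ ⟨x, hx, rfl⟩
      exact Coprime.conj_mem (hXN hθX) hx.2
    have hpre : ∀ g : G, θ⁻¹ * g * θ ∈ normalizer (Q₀ : Set G) → g ∈ normalizer (Q₁ : Set G) := by
      intro g hg
      refine mem_normalizer_of_forall ?_
      rintro _ ⟨x, hx, rfl⟩
      refine ⟨θ⁻¹ * g * θ * x * (θ⁻¹ * g * θ)⁻¹, Coprime.conj_mem hg hx, ?_⟩
      simp only [MulEquiv.coe_toMonoidHom, MulAut.conj_apply]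
      group
    obtain ⟨hp1, hp2⟩ := H62.GW.Fuses.preimage hθ (H39.mul_self_of_orderOf_eq_two hD.z_order)
      (hD.z_central (mul_mem hD.mem_c hD.mem_s)).symm
    have hcsA : c * s ∈ A := subset_closure (Or.inr rfl)
    have htA : t ∈ A := subset_closure (Or.inl rfl)
    have hQ₁n : A ≤ normalizer (Q₁ : Set G) := hgen _
      (hpre t (by rw [hp1]; exact hQ₀n (mul_mem htA hcsA)))
      (hpre (c * s) (by rw [hp2]; exact hQ₀n htA))
    obtain ⟨P₀, hP₀⟩ : ∃ P₀ : Sylow q U, (P₀ : Subgroup U).map U.subtype = Q₀ :=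
      ⟨Sylow.ofCard (Q₀.subgroupOf U)
        (by rw [Nat.card_congr (subgroupOfEquivOfLe inf_le_right).toEquiv, hQ₀c]),
        by rw [Sylow.coe_ofCard, map_subgroupOf_eq_of_le inf_le_right]⟩
    obtain ⟨P₁, hP₁⟩ : ∃ P₁ : Sylow q U, (P₁ : Subgroup U).map U.subtype = Q₁ :=
      ⟨Sylow.ofCard (Q₁.subgroupOf U)
        (by rw [Nat.card_congr (subgroupOfEquivOfLe hQ₁U).toEquiv, hQ₁, Coprime.card_map_conj, hQ₀c]),
        by rw [Sylow.coe_ofCard, map_subgroupOf_eq_of_le hQ₁U]⟩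
    obtain ⟨k, hk, hke⟩ := Coprime.exists_conj_invariant_sylow (hAX.trans hXN)
      (coprime_of_two_group hA2 (odd_coreIn X)) (Or.inr (S0205.result (odd_coreIn X))) q P₀ P₁
      (by rw [hP₀]; exact hQ₀n) (by rw [hP₁]; exact hQ₁n)
    have hQ₁t : ∀ x ∈ Q₁, Commute x t := by
      intro x hx
      rw [← hP₁] at hx
      obtain ⟨x', hx', rfl⟩ := hx
      rw [← hke] at hx'
      obtain ⟨y, hy, rfl⟩ := hx'
      have hyQ : (y : G) ∈ Q₀ := hP₀ ▸ mem_map_of_mem U.subtype hy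
      have hkt : Commute (k : G) t := (mem_centralizer_iff.1 hk t htA).symm
      exact (hkt.mul_left (hPt _ hyQ.1)).mul_left hkt.inv_left
    intro v hv hvU
    have hvQ : v ∈ Q₀ := ⟨hFP hv, hvU⟩
    have h1 : Commute (θ * v * θ⁻¹) t := hQ₁t _ ⟨v, hvQ, rfl⟩
    have h2 : Commute v (t * (c * s)) := by
      rw [← hp1]
      have h3 := (Commute.conj_iff θ⁻¹).2 h1
      simp only [inv_inv] at h3
      rwa [show θ⁻¹ * (θ * v * θ⁻¹) * θ = v by group] at h3
    have h4 : Commute v (c * s) := by simpa using (hPt v (hFP hv)).inv_right.mul_right h2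
    exact eq_one_of_inverted (odd_orderOf_of_mem hodd hv) (hFi v hv) h4.symm
  -- (ii)
  have hDG : H63.GW.SylowDType G := by
    obtain ⟨n, hn, hS⟩ := H62.GW.exists_dihedral hD
    exact H63.GW.sylowDType_of_dihedral S hn hS
  have hYD : H63.GW.SylowDType (↥X ⧸ Cfsg.oddCore ↥X) :=
    (hDG.subgroup X).quotient _ Cores.odd_card_oddCore
  have hXne : X ≠ ⊤ := H62.GW.centralizer_singleton_ne_top h ha1
  have hYP : H63.GW.PerfectHyp (↥X ⧸ Cfsg.oddCore ↥X) :=
    h.small _ ((Nat.le_of_dvd Nat.card_pos (Subgroup.card_quotient_dvd_card _)).trans_lt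
      (H4.GW.card_lt_of_ne_top hXne)) hYD
  set π := QuotientGroup.mk' (Cfsg.oddCore ↥X) with hπ
  have hπ1 : ∀ (x : G) (hx : x ∈ X), π ⟨x, hx⟩ = 1 ↔ x ∈ U := fun x hx => by
    rw [hπ, QuotientGroup.mk'_apply, QuotientGroup.eq_one_iff, hU, mem_coreIn_iff hx]
  have hinv2 : ∀ (x : G) (hx : x ∈ X), x * x = 1 → π ⟨x, hx⟩ * π ⟨x, hx⟩ = 1 := fun x hx hxx => by
    rw [← map_mul, show (⟨x, hx⟩ : X) * ⟨x, hx⟩ = 1 from Subtype.ext hxx, map_one]
  have hcom : ∀ (x y : G) (hx : x ∈ X) (hy : y ∈ X), Commute x y →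
      Commute (π ⟨x, hx⟩) (π ⟨y, hy⟩) := fun x y hx hy hxy =>
    (show Commute (⟨x, hx⟩ : X) ⟨y, hy⟩ from Subtype.ext hxy.eq).map π
  have hoddπ : ∀ (x : G) (hx : x ∈ X), Odd (orderOf x) → Odd (orderOf (π ⟨x, hx⟩)) :=
    fun x hx ho => ho.of_dvd_nat
      ((orderOf_map_dvd π _).trans (dvd_of_eq (Subgroup.orderOf_mk x hx)))
  have htt : t * t = 1 := H39.mul_self_of_orderOf_eq_two hD.z_order
  have hss : s * s = 1 := H39.mul_self_of_orderOf_eq_two hD.os
  have hts : Commute t s := (hD.z_central hD.mem_s).symm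
  have ht1 : π ⟨t, htX⟩ ≠ 1 := fun e => not_mem_of_mul_self (odd_coreIn X) htt
    (H39.ne_one_of_orderOf_eq_two hD.z_order) ((hπ1 t htX).1 e)
  have hs1 : π ⟨s, hsX⟩ ≠ 1 := fun e => not_mem_of_mul_self (odd_coreIn X) hss
    (H39.ne_one_of_orderOf_eq_two hD.os) ((hπ1 s hsX).1 e)
  have hne : π ⟨t, htX⟩ ≠ π ⟨s, hsX⟩ := by
    intro e
    refine not_mem_of_mul_self (odd_coreIn X) (x := t * s) ?_ (fun e' => ?_)
      ((hπ1 _ (mul_mem htX hsX)).1 ?_)
    · rw [mul_assoc, ← mul_assoc s, ← hts.eq, mul_assoc t s, hss, mul_one, htt]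
    · rw [mul_eq_one_iff_eq_inv, inv_eq_of_mul_eq_one_right hss] at e'
      exact (ne_z_of_out h).1 e'.symm
    · rw [show (⟨t * s, mul_mem htX hsX⟩ : X) = ⟨t, htX⟩ * ⟨s, hsX⟩ from rfl, map_mul, ← e,
        hinv2 t htX htt]
  obtain ⟨⟨v, hv⟩, hv1'⟩ := ne_bot_iff_exists_ne_one.1 hF
  have hv1 : v ≠ 1 := fun e => hv1' (Subtype.ext e)
  have hy1 : π ⟨v, hFX hv⟩ ≠ 1 := fun e => hv1 (hi v hv ((hπ1 v _).1 e))
  have hvo := odd_orderOf_of_mem hodd hv
  have hvt : Commute v t := commute_coreAt_t (H62.GW.pCoreAt_le t q hv)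
  have hcs2 : c * s * (c * s) = 1 := by simpa using hD.out_mul_self 1
  obtain ⟨e⟩ := equiv_alt_seven hYD Cores.pPrimeCore_quotient_pPrimeCore hYP (hinv2 t htX htt) ht1
    (hinv2 s hsX hss) hs1 hne (hcom t s htX hsX hts) hy1 (hoddπ v _ hvo) (hcom v t _ _ hvt)
    (hcom v s _ _ (hFs v hv)) (hinv2 (c * s) hcsX hcs2)
    (by rw [← map_inv, ← map_inv, ← map_mul, ← map_mul]
        exact congrArg π (Subtype.ext (hFi v hv)))
  obtain ⟨hy3, hmem, hinvs⟩ := alt_seven_facts e (hinv2 t htX htt) ht1 hy1 (hoddπ v _ hvo)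
    (hcom v t _ _ hvt) (hcom v s _ _ (hFs v hv))
  have hcard : Nat.card F = 3 ∧ q = 3 := by
    let f : F →* (↥X ⧸ Cfsg.oddCore ↥X) := π.comp (inclusion hFX)
    have hf : Function.Injective f := (injective_iff_map_eq_one f).2 fun w hw =>
      Subtype.ext (hi w w.2 ((hπ1 (w : G) _).1 hw))
    have hle : Nat.card F ≤ 3 := by
      rw [← hy3, ← Nat.card_zpowers]
      refine Nat.card_le_card_of_injective (fun w => ⟨f w, hmem _ (hoddπ _ _
        (odd_orderOf_of_mem hodd w.2)) (hcom _ _ _ _ (commute_coreAt_t (H62.GW.pCoreAt_le t q w.2)))⟩)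
        fun w w' e' => hf (congrArg Subtype.val e')
    obtain ⟨k, hk⟩ := IsPGroup.iff_card.1 (Components.isPGroup_pCoreIn (p := q) (coreAt t))
    have hk' : Nat.card F = q ^ k := hk
    have hk0 : k ≠ 0 := fun e0 => hF (Subgroup.eq_bot_of_card_eq _ (by rw [hk', e0, pow_zero]))
    have h3 : 3 ≤ q := by
      have := hq.out.two_le
      have := prime_ne_two_of_ne_bot hF
      omega
    have hqk : q ≤ q ^ k := Nat.le_self_pow hk0 q
    omega
  refine ⟨hi, hcard.2, hcard.1, fun x hxa hxo hxt hxs => ?_⟩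
  refine (hπ1 x (hmemX hxa)).1
    (hinvs _ (hoddπ x (hmemX hxa) hxo) (hcom x t (hmemX hxa) htX hxt) ?_)
  rw [← map_inv, ← map_inv, ← map_mul, ← map_mul]
  exact congrArg π (show (⟨s, hsX⟩ * ⟨x, hmemX hxa⟩ * ⟨s, hsX⟩⁻¹ : X) = ⟨x, hmemX hxa⟩⁻¹ from
    Subtype.ext hxs)

end Cfsg.Agent.H80.GW.M2
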